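import Cfsg.Agent.Lib.Recog.OEightCent.CloseCode
import Cfsg.Agent.Lib.Recog.OEightCent.CloseData
import Cfsg.Agent.Lib.Recog.OEightCent.CloseStates

/-!
The checks on the tables of the closing argument.
-/

set_option autoImplicit false
set_option maxRecDepth 100000

namespace CfsgLib.Recog.OEightCent.Close

/-- Entry of a chunked list. -/
def get2 {α : Type} (T : List (List α)) (n i : ℕ) (d : α) : α := (T.getD (i / n) []).getD (i % n) d

/-- An involution of the centraliser. -/
noncomputable def ent (i : ℕ) : ℕ := get2 invTab 48 i 0

/-- Its class. -/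
noncomputable def cls (i : ℕ) : ℕ := get2 clsTab 48 i 0

/-- The classes with equal invariant. -/
def tag (c : ℕ) : ℕ := bif Nat.beq c 2 then 1 else c

/-- Indices of the entries of a row passing a test. -/
def scanRow (p : ℕ → Bool) : List ℕ → ℕ → List ℕ
  | [], _ => []
  | x :: l, k => bif p x then k :: scanRow p l (k + 1) else scanRow p l (k + 1)

/-- Indices of the entries passing a test. -/
def scanTab (p : ℕ → Bool) : List (List ℕ) → ℕ → List ℕ
  | [], _ => []
  | r :: T, k => scanRow p r k ++ scanTab p T (k + 48)

theorem mem_scanRow (p : ℕ → Bool) : ∀ (l : List ℕ) (k i : ℕ), i < l.length → p (l.getD i 0) = true →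
    k + i ∈ scanRow p l k
  | [], k, i, h, _ => by simp at h
  | x :: l, k, 0, _, hp => by
    simp only [List.getD_cons_zero] at hp
    simp [scanRow, hp]
  | x :: l, k, i + 1, h, hp => by
    have := mem_scanRow p l (k + 1) i (by simpa using h) (by simpa using hp)
    rw [show k + (i + 1) = k + 1 + i by omega]
    cases hx : p x <;> simp [scanRow, hx, this]

theorem mem_scanTab (p : ℕ → Bool) : ∀ (T : List (List ℕ)) (k j i : ℕ), j < T.length → i < 48 →
    i < (T.getD j []).length → p ((T.getD j []).getD i 0) = true → k + (j * 48 + i) ∈ scanTab p T k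
  | [], k, j, i, h, _, _, _ => by simp at h
  | r :: T, k, 0, i, _, _, hl, hp => by
    refine List.mem_append_left _ ?_
    have := mem_scanRow p r k i (by simpa using hl) (by simpa using hp)
    simpa using this
  | r :: T, k, j + 1, i, h, hi, hl, hp => by
    refine List.mem_append_right _ ?_
    have := mem_scanTab p T (k + 48) j i (by simpa using h) hi (by simpa using hl) (by simpa using hp)
    rw [show k + ((j + 1) * 48 + i) = k + 48 + (j * 48 + i) by ring]
    exact this

/-- The nonidentity products of some generators. -/
def span : List ℕ → List ℕ → List ℕ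
  | acc, [] => acc
  | acc, g :: l => span (acc ++ g :: acc.map fun h => cmul h g) l

/-- A product of the elements and one more. -/
def prodK (els : List ℕ) (k n : ℕ) : ℕ :=
  bif Nat.blt n els.length then els.getD n one
  else bif Nat.beq n els.length then k else cmul (els.getD (n - els.length - 1) one) k

/-- Equality of lists of numbers. -/
def leq : List ℕ → List ℕ → Bool
  | [], [] => true
  | a :: l, b :: m => Nat.beq a b && leq l m
  | _, _ => false

theorem eq_of_leq : ∀ {l m : List ℕ}, leq l m = true → l = m
  | [], [], _ => rfl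
  | a :: l, b :: m, h => by
    simp only [leq, Bool.and_eq_true] at h
    rw [Nat.eq_of_beq_eq_true h.1, eq_of_leq h.2]
  | [], b :: m, h => by simp [leq] at h
  | a :: l, [], h => by simp [leq] at h

/-- A state. -/
noncomputable def st (j : ℕ) : List ℕ × List ℕ × List ℕ × List ℕ × List (List ℕ) :=
  get2 stateTab 31 j ([], [], [], [], [])

/-- Generators of a state. -/
noncomputable def stGens (j : ℕ) : List ℕ := (st j).1.map ent

/-- The elements of a state. -/
noncomputable def stEls (j : ℕ) : List ℕ := span [] (stGens j)

/-- The central involution. -/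
noncomputable def zc : ℕ := cword (repWord.getD 0 [])

/-- The test for roots. -/
noncomputable def rootTest (gens els : List ℕ) (x : ℕ) : Bool :=
  (gens.all fun g => comm g x) && !(els.any fun e => Nat.beq e x)

/-- The test of one root. -/
noncomputable def kidOK (j : ℕ) (gens els : List ℕ) (kid : List ℕ) : Bool :=
  let k := ent (kid.getD 0 0)
  bif Nat.beq (kid.getD 1 0) 0 then
    Nat.blt (kid.getD 3 2287) 2287 && Nat.beq (cls (kid.getD 3 0)) 0 &&
      Nat.beq (ent (kid.getD 3 0)) (prodK els k (kid.getD 2 0))
  else
    let c := kid.getD 2 0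
    let n := kid.getD 3 0
    let w := (kid.drop 4).take n
    let W := cword w
    let pre := (kid.drop (4 + n))
    let gs := stGens c
    Nat.blt c j && Nat.beq pre.length gs.length &&
      (List.range gs.length).all fun m =>
        Nat.beq (cmul W (prodK els k (pre.getD m 0))) (cmul (gs.getD m one) W)

/-- The test of one state. -/
noncomputable def stateOK (j : ℕ) : Bool :=
  let s := st j
  let gens := stGens j
  let els := span [] gens
  let a := ent (s.2.1.getD 0 0)
  let p := s.2.1.getD 1 0
  (s.1.all fun i => Nat.blt i 2287) && Nat.blt (s.2.1.getD 0 2287) 2287 && Nat.beq (cls (s.2.1.getD 0 0)) 0 &&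
    (gens.all fun g => comm g zc && comm g a) &&
    (s.2.2.1.all fun i => Nat.blt i 2287 && !(Nat.beq (cls i) 0)) &&
    (s.2.2.2.1.all fun i => Nat.blt i 2287 && !(Nat.beq (cls i) 0)) &&
    leq (els.map (cmul zc)) (s.2.2.1.map ent) && leq (els.map (cmul a)) (s.2.2.2.1.map ent) &&
    Nat.blt p els.length &&
    !(Nat.beq (tag (cls (s.2.2.1.getD p 0))) (tag (cls (s.2.2.2.1.getD p 0)))) &&
    leq (scanTab (rootTest gens els) invTab 0) (s.2.2.2.2.map fun k => k.getD 0 0) &&
    (s.2.2.2.2.all fun k => kidOK j gens els k)

/-- A block of states. -/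
noncomputable def statesOK (lo n : ℕ) : Bool := (List.range n).all fun i => stateOK (lo + i)

end CfsgLib.Recog.OEightCent.Close
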