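import Cfsg.Agent.Lib.Recog.OEightCent.Model

/-!
Fast codes for the model: the images of the eight basis vectors as the bytes of one number.
-/

set_option autoImplicit false
set_option maxRecDepth 100000
set_option Elab.async false

namespace CfsgLib.Recog.OEightCent.Close

open CfsgLib.StructC.OrthCohom Matrix

/-- Bit `i` as a full byte at position `i`. -/
def spr (v : ℕ) : ℕ :=
  ((((v % 128) * 0x2040810204081) &&& 0x0101010101010101) + ((v / 128) <<< 56)) * 255

/-- The xor of the bytes. -/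
def fld (y : ℕ) : ℕ :=
  let a := y ^^^ (y >>> 32)
  let b := a ^^^ (a >>> 16)
  (b ^^^ (b >>> 8)) % 256

/-- The image of a vector. -/
def ap (x v : ℕ) : ℕ := fld (x &&& spr v)

/-- The image of a basis vector. -/
def col (x i : ℕ) : ℕ := (x >>> (8 * i)) % 256

/-- The product. -/
def cmul (x y : ℕ) : ℕ :=
  ap x (col y 0) + ap x (col y 1) <<< 8 + ap x (col y 2) <<< 16 + ap x (col y 3) <<< 24 +
    ap x (col y 4) <<< 32 + ap x (col y 5) <<< 40 + ap x (col y 6) <<< 48 + ap x (col y 7) <<< 56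

/-- Agreement of the two products on one basis vector. -/
def agree (a b i : ℕ) : Bool := Nat.beq (ap a (col b i)) (ap b (col a i))

/-- Commutation. -/
def comm (a b : ℕ) : Bool :=
  agree a b 0 && agree a b 1 && agree a b 2 && agree a b 3 && agree a b 4 && agree a b 5 && agree a b 6 &&
    agree a b 7

/-- The identity. -/
def one : ℕ := 0x8040201008040201

/-- A generator. -/
def gcode (k : ℕ) : ℕ :=
  [9241421826029257473, 9277450485676376577, 9531903864555700737, 9241439280776348163,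
    13853107707018215937, 9241421689672434177, 9241703180746883585, 9232449673707521025].getD k one

/-- The code of a word. -/
def cword (w : List ℕ) : ℕ := w.foldr (fun k r => cmul (gcode k) r) one

theorem spr_step : ∀ i < 8, ∀ v < 2 ^ i, spr (v ^^^ 2 ^ i) = spr v ^^^ spr (2 ^ i) := by decide +kernel

theorem spr_pow : ∀ i < 8, spr (2 ^ i) = 255 <<< (8 * i) := by decide +kernel

theorem fld_byte : ∀ i < 8, ∀ c < 256, fld (c <<< (8 * i)) = c := by decide +kernel

theorem fold_step (k a b : ℕ) : (a ^^^ b) ^^^ ((a ^^^ b) >>> k) = (a ^^^ a >>> k) ^^^ (b ^^^ b >>> k) := by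
  rw [Nat.shiftRight_xor_distrib, Nat.xor_assoc, Nat.xor_assoc, ← Nat.xor_assoc b, Nat.xor_comm b (a >>> k),
    Nat.xor_assoc]

theorem fld_xor (a b : ℕ) : fld (a ^^^ b) = fld a ^^^ fld b := by
  simp only [fld]
  rw [show (256 : ℕ) = 2 ^ 8 from rfl, ← Nat.xor_mod_two_pow, fold_step 32 a b, fold_step 16, fold_step 8]

theorem ap_pow (x : ℕ) {i : ℕ} (hi : i < 8) : ap x (2 ^ i) = col x i := by
  rw [ap, spr_pow i hi]
  have hc : col x i < 256 := Nat.mod_lt _ (by norm_num)
  rw [show x &&& 255 <<< (8 * i) = col x i <<< (8 * i) from ?_]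
  · exact fld_byte i hi _ hc
  refine Nat.eq_of_testBit_eq fun j => ?_
  simp only [col, Nat.testBit_and, Nat.testBit_shiftLeft, show (255 : ℕ) = 2 ^ 8 - 1 from rfl,
    Nat.testBit_two_pow_sub_one, show (256 : ℕ) = 2 ^ 8 from rfl, Nat.testBit_mod_two_pow, Nat.testBit_shiftRight]
  by_cases h : j ≥ 8 * i
  · simp [h, Bool.and_comm, show 8 * i + (j - 8 * i) = j by omega]
  · simp [h]

theorem ap_zero (x : ℕ) : ap x 0 = 0 := by
  rw [ap, show spr 0 = 0 by decide +kernel, Nat.and_zero]; decide +kernel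

theorem ap_step (x : ℕ) {i v : ℕ} (hi : i < 8) (hv : v < 2 ^ i) : ap x (v ^^^ 2 ^ i) = ap x v ^^^ col x i := by
  rw [← ap_pow x hi, ap, ap, ap, spr_step i hi v hv, Nat.and_xor_distrib_left, fld_xor]

theorem ap_lt (x v : ℕ) : ap x v < 256 := Nat.mod_lt _ (by norm_num)

theorem col_lt (x i : ℕ) : col x i < 256 := Nat.mod_lt _ (by norm_num)

/-- `x` is the code of `g`. -/
structure Rep (g : Om) (x : ℕ) : Prop where
  lt : x < 2 ^ 64
  cols : ∀ i < 8, omat g.1 *ᵥ dec eEight (2 ^ i) = dec eEight (col x i)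

theorem Rep.app {g : Om} {x : ℕ} (h : Rep g x) : ∀ {v : ℕ}, v < 256 →
    omat g.1 *ᵥ dec eEight v = dec eEight (ap x v) := by
  suffices ∀ n ≤ 8, ∀ v < 2 ^ n, omat g.1 *ᵥ dec eEight v = dec eEight (ap x v) from
    fun {v} hv => this 8 le_rfl v hv
  intro n
  induction n with
  | zero => intro _ v hv; obtain rfl : v = 0 := by omega
            rw [ap_zero, dec_zero, mulVec_zero]
  | succ n ih =>
    intro hn v hv
    by_cases hlo : v < 2 ^ n
    · exact ih (by omega) v hlo
    have hlt : v - 2 ^ n < 2 ^ n := by rw [pow_succ] at hv; omega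
    have e : v = (v - 2 ^ n) ^^^ 2 ^ n := by
      refine Nat.eq_of_testBit_eq fun j => ?_
      conv_lhs => rw [show v = 2 ^ n + (v - 2 ^ n) by omega]
      rw [Nat.testBit_xor, Nat.testBit_two_pow]
      rcases Nat.lt_trichotomy j n with hj | rfl | hj
      · rw [Nat.testBit_two_pow_add_gt hj]; simp [hj.ne']
      · rw [Nat.testBit_two_pow_add_eq, Nat.testBit_lt_two_pow hlt]; simp
      · have h2 : 2 ^ n + (v - 2 ^ n) < 2 ^ j :=
          lt_of_lt_of_le (show _ < 2 ^ (n + 1) by rw [pow_succ]; omega) (Nat.pow_le_pow_right (by norm_num) hj)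
        rw [Nat.testBit_lt_two_pow h2, Nat.testBit_lt_two_pow (hlt.trans (Nat.pow_lt_pow_right (by norm_num) hj))]
        simp [hj.ne]
    rw [e, ap_step x (by omega) hlt, dec_xor, dec_xor, mulVec_add, ih (by omega) _ hlt, h.cols n (by omega)]

theorem pack_col (c : ℕ → ℕ) (h : ∀ j, c j < 256) :
    c 0 + c 1 <<< 8 + c 2 <<< 16 + c 3 <<< 24 + c 4 <<< 32 + c 5 <<< 40 + c 6 <<< 48 + c 7 <<< 56 < 2 ^ 64 ∧
      ∀ i < 8, col (c 0 + c 1 <<< 8 + c 2 <<< 16 + c 3 <<< 24 + c 4 <<< 32 + c 5 <<< 40 + c 6 <<< 48 +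
        c 7 <<< 56) i = c i := by
  have h0 := h 0; have h1 := h 1; have h2 := h 2; have h3 := h 3
  have h4 := h 4; have h5 := h 5; have h6 := h 6; have h7 := h 7
  simp only [col, Nat.shiftLeft_eq, Nat.shiftRight_eq_div_pow]
  refine ⟨by omega, fun i hi => ?_⟩
  interval_cases i <;> omega

theorem col_cmul (x y : ℕ) : ∀ i < 8, col (cmul x y) i = ap x (col y i) :=
  (pack_col (fun j => ap x (col y j)) fun j => ap_lt x (col y j)).2

theorem cmul_lt (x y : ℕ) : cmul x y < 2 ^ 64 :=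
  (pack_col (fun j => ap x (col y j)) fun j => ap_lt x (col y j)).1

theorem Rep.mul {g h : Om} {x y : ℕ} (hg : Rep g x) (hh : Rep h y) : Rep (g * h) (cmul x y) := by
  refine ⟨cmul_lt x y, fun i hi => ?_⟩
  rw [show omat (g * h).1 = omat g.1 * omat h.1 from rfl, ← mulVec_mulVec, hh.cols i hi, hg.app (col_lt y i),
    col_cmul x y i hi]

theorem Rep.eq {g h : Om} {x : ℕ} (hg : Rep g x) (hh : Rep h x) : g = h := by
  refine Subtype.ext (mat_inj _ (Matrix.ext_iff_mulVec.2 fun u => ?_))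
  obtain ⟨v, hv, rfl⟩ := exists_dec eEight u
  exact (hg.app hv).trans (hh.app hv).symm

theorem col_ext {x y : ℕ} (hx : x < 2 ^ 64) (hy : y < 2 ^ 64) (h : ∀ i < 8, col x i = col y i) : x = y := by
  have h0 := h 0; have h1 := h 1; have h2 := h 2; have h3 := h 3
  have h4 := h 4; have h5 := h 5; have h6 := h 6; have h7 := h 7
  simp only [col, Nat.shiftRight_eq_div_pow] at *
  omega

theorem Rep.inj {g : Om} {x y : ℕ} (hx : Rep g x) (hy : Rep g y) : x = y := by
  refine col_ext hx.lt hy.lt fun i hi => ?_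
  have h := mod_eq_of_dec_eq eEight ((hx.cols i hi).symm.trans (hy.cols i hi))
  rwa [show (2 : ℕ) ^ 8 = 256 from rfl, Nat.mod_eq_of_lt (col_lt x i), Nat.mod_eq_of_lt (col_lt y i)] at h

theorem Rep.eq_iff {g h : Om} {x y : ℕ} (hg : Rep g x) (hh : Rep h y) : g = h ↔ x = y :=
  ⟨fun e => hg.inj (e ▸ hh), fun e => hg.eq (e ▸ hh)⟩

theorem agree_iff {g h : Om} {x y : ℕ} (hg : Rep g x) (hh : Rep h y) : comm x y = true ↔ g * h = h * g := by
  constructor
  · intro e
    simp only [comm, agree, Bool.and_eq_true] at e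
    obtain ⟨⟨⟨⟨⟨⟨⟨e0, e1⟩, e2⟩, e3⟩, e4⟩, e5⟩, e6⟩, e7⟩ := e
    refine (Rep.eq_iff (hg.mul hh) (hh.mul hg)).2 (col_ext (cmul_lt _ _) (cmul_lt _ _) fun i hi => ?_)
    rw [col_cmul _ _ i hi, col_cmul _ _ i hi]
    interval_cases i
    exacts [Nat.eq_of_beq_eq_true e0, Nat.eq_of_beq_eq_true e1, Nat.eq_of_beq_eq_true e2, Nat.eq_of_beq_eq_true e3,
      Nat.eq_of_beq_eq_true e4, Nat.eq_of_beq_eq_true e5, Nat.eq_of_beq_eq_true e6, Nat.eq_of_beq_eq_true e7]
  · intro e
    have h := Rep.eq_iff (hg.mul hh) (hh.mul hg) |>.1 e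
    have hc : ∀ i < 8, ap x (col y i) = ap y (col x i) := fun i hi => by rw [← col_cmul x y i hi, h, col_cmul y x i hi]
    simp [comm, agree, hc 0, hc 1, hc 2, hc 3, hc 4, hc 5, hc 6, hc 7]

theorem gcode_cols : (∀ k < 8, gcode k < 2 ^ 64) ∧ ∀ k < 8, ∀ i < 8, act (mcol k) (2 ^ i) = col (gcode k) i := by
  decide +kernel

theorem one_cols : ∀ i < 8, col one i = 2 ^ i := by decide +kernel

theorem rep_one : Rep 1 one := ⟨by decide, fun i hi => by
  rw [one_cols i hi, show omat ((1 : Om) : O8) = 1 from mat_one _, one_mulVec]⟩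

theorem rep_gen (k : ℕ) : Rep (o8gen k) (gcode k) := by
  by_cases hk : k < 8
  · exact ⟨gcode_cols.1 k hk, fun i hi => by
      rw [mat_gen k, toMat_mulVec eEight (mcol_length k), gcode_cols.2 k hk i hi]⟩
  · rw [show o8gen k = 1 by rw [o8gen, dif_neg hk], show gcode k = one by
      rw [gcode, List.getD_eq_default _ _ (by simpa using Nat.le_of_not_lt hk)]]
    exact rep_one

theorem rep_word : ∀ w : List ℕ, Rep (wprod o8gen w) (cword w)
  | [] => rep_one
  | k :: w => by
    rw [show wprod o8gen (k :: w) = o8gen k * wprod o8gen w by simp [wprod]]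
    exact (rep_gen k).mul (rep_word w)

end CfsgLib.Recog.OEightCent.Close
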