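import Mathlib

/-!
One step of the recursion confining centralisers to a subgroup that contains the centraliser of an involution
`t` and in which the class of `t` does not split.
-/

set_option autoImplicit false

namespace CfsgLib.Recog.OEightCent.Close

variable {G : Type*} [Group G]

/-- `H` contains the centraliser of `t`, and its elements conjugate to `t` are conjugate in `H`. -/
structure Embedded (H : Subgroup G) (t : G) : Prop where
  cent : ∀ g : G, g * t = t * g → g ∈ H
  fuse : ∀ x ∈ H, IsConj t x → ∃ h ∈ H, h * t * h⁻¹ = x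

theorem Embedded.mem_of_conj {H : Subgroup G} {t : G} (E : Embedded H t) {g : G} (h : g * t * g⁻¹ ∈ H) :
    g ∈ H := by
  obtain ⟨k, hk, e⟩ := E.fuse _ h (isConj_iff.2 ⟨g, rfl⟩)
  have h1 : (k⁻¹ * g) * t = t * (k⁻¹ * g) := by
    calc k⁻¹ * g * t = k⁻¹ * (g * t * g⁻¹) * g := by group
      _ = k⁻¹ * (k * t * k⁻¹) * g := by rw [e]
      _ = t * (k⁻¹ * g) := by group
  simpa using H.mul_mem hk (E.cent _ h1)

theorem Embedded.cent_conj {H : Subgroup G} {t : G} (E : Embedded H t) {x : G} (hx : x ∈ H)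
    (hc : IsConj t x) {g : G} (hg : g * x = x * g) : g ∈ H := by
  obtain ⟨h, hh, rfl⟩ := E.fuse x hx hc
  have h1 : (h⁻¹ * g * h) * t = t * (h⁻¹ * g * h) := by
    calc h⁻¹ * g * h * t = h⁻¹ * (g * (h * t * h⁻¹)) * h := by group
      _ = h⁻¹ * ((h * t * h⁻¹) * g) * h := by rw [hg]
      _ = t * (h⁻¹ * g * h) := by group
  simpa [mul_assoc] using H.mul_mem (H.mul_mem hh (E.cent _ h1)) (H.inv_mem hh)

theorem swap_pow {t b : G} (ht : t * t = 1) (hb : b * b = 1) (n : ℕ) :
    t * (t * b) ^ n * t = ((t * b) ^ n)⁻¹ := by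
  have ht' : t⁻¹ = t := inv_eq_of_mul_eq_one_right ht
  have hb' : b⁻¹ = b := inv_eq_of_mul_eq_one_right hb
  calc t * (t * b) ^ n * t = t * (t * b) ^ n * t⁻¹ := by rw [ht']
    _ = (t * (t * b) * t⁻¹) ^ n := (conj_pow).symm
    _ = ((t * b)⁻¹) ^ n := by rw [mul_inv_rev, hb', ht', ← mul_assoc t t b, ht, one_mul]
    _ = _ := inv_pow _ _

theorem conj_pow_swap {t b : G} (ht : t * t = 1) (hb : b * b = 1) (j : ℕ) :
    (t * b) ^ j * t * ((t * b) ^ j)⁻¹ = (t * b) ^ (2 * j) * t := by
  rw [← swap_pow ht hb j, two_mul, pow_add]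
  calc (t * b) ^ j * t * (t * (t * b) ^ j * t) = (t * b) ^ j * (t * t) * (t * b) ^ j * t := by group
    _ = (t * b) ^ j * (t * b) ^ j * t := by rw [ht, mul_one]

/-- The centraliser of `F` lies in `H` when that of each extension of `F` by a root does. -/
theorem Embedded.step [Finite G] {H : Subgroup G} {t : G} (E : Embedded H t) (ht : t * t = 1) {F : Subgroup G}
    {a : G} (haH : a ∈ H) (ha : IsConj t a) (htF : ∀ f ∈ F, t * f = f * t)
    (haF : ∀ f ∈ F, a * f = f * a) (hapart : ∀ g ∈ H, (∀ f ∈ F, g * f = f * g) → g * t * g⁻¹ ≠ a)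
    (htf : ∀ f ∈ F, f ≠ 1 → ¬ IsConj t (t * f)) (haf : ∀ f ∈ F, f ≠ 1 → ¬ IsConj t (a * f))
    (hroot : ∀ k ∈ H, k * k = 1 → k ∉ F → k * t = t * k → (∀ f ∈ F, k * f = f * k) →
      ∀ g : G, (∀ f ∈ F, g * f = f * g) → g * k = k * g → g ∈ H)
    {c : G} (hc : ∀ f ∈ F, c * f = f * c) : c ∈ H := by
  classical
  by_contra hcH
  obtain ⟨h', hh', ea⟩ := E.fuse a haH ha
  have ha2 : a * a = 1 := by
    calc a * a = h' * (t * t) * h'⁻¹ := by rw [← ea]; group
      _ = 1 := by rw [ht]; group
  set b := c * a * c⁻¹ with hbdef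
  have hb2 : b * b = 1 := by
    calc b * b = c * (a * a) * c⁻¹ := by rw [hbdef]; group
      _ = 1 := by rw [ha2]; group
  have hbH : b ∉ H := fun hb => by
    have h1 : c * h' * t * (c * h')⁻¹ ∈ H := by
      convert hb using 1; rw [hbdef, ← ea]; group
    exact hcH (by simpa using H.mul_mem (E.mem_of_conj h1) (H.inv_mem hh'))
  set C := Subgroup.centralizer (F : Set G) with hC
  have memC : ∀ {x : G}, x ∈ C ↔ ∀ f ∈ F, x * f = f * x := fun {x} =>
    ⟨fun h f hf => (Subgroup.mem_centralizer_iff.1 h f hf).symm,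
      fun h => Subgroup.mem_centralizer_iff.2 fun f hf => (h f hf).symm⟩
  have hbC : b ∈ C := C.mul_mem (C.mul_mem (memC.2 hc) (memC.2 haF)) (C.inv_mem (memC.2 hc))
  have hwC : t * b ∈ C := C.mul_mem (memC.2 htF) hbC
  have hex : ∃ m, 0 < m ∧ (t * b) ^ m ∈ F :=
    ⟨orderOf (t * b), orderOf_pos _, by rw [pow_orderOf_eq_one]; exact F.one_mem⟩
  set m := Nat.find hex with hm
  obtain ⟨hm0, hmF⟩ := Nat.find_spec hex
  rcases Nat.even_or_odd' m with ⟨j, hj | hj⟩
  · rw [← hm] at hmF hm0
    rw [hj] at hmF hm0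
    have hf1 : (t * b) ^ (2 * j) = 1 := by
      by_contra hne
      refine htf _ hmF hne ?_
      rw [htF _ hmF]
      exact isConj_iff.2 ⟨_, conj_pow_swap ht hb2 j⟩
    set k := (t * b) ^ j with hk
    have hk2 : k * k = 1 := by rw [hk, ← pow_add, ← two_mul, hf1]
    have hkF : k ∉ F := fun h => by
      have := Nat.find_min hex (m := j) (by rw [← hm, hj]; omega)
      exact this ⟨by omega, h⟩
    have hkinv : t * k * t = k := by
      rw [swap_pow ht hb2, inv_eq_of_mul_eq_one_right hk2]
    have hkt : k * t = t * k := by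
      calc k * t = (t * t) * (k * t) := by rw [ht, one_mul]
        _ = t * (t * k * t) := by group
        _ = t * k := by rw [hkinv]
    have hkb : b * k = k * b := by
      have h1 : (t * b) * k = k * (t * b) := ((Commute.refl (t * b)).pow_right j).eq
      calc b * k = (t * t) * b * k := by rw [ht, one_mul]
        _ = t * ((t * b) * k) := by group
        _ = (t * k) * (t * b) := by rw [h1]; group
        _ = (k * t) * (t * b) := by rw [hkt]
        _ = k * (t * t) * b := by group
        _ = k * b := by rw [ht, mul_one]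
    exact hbH (hroot k (E.cent k hkt) hk2 hkF hkt (memC.1 (C.pow_mem hwC j)) b (memC.1 hbC) hkb)
  · rw [← hm] at hmF
    rw [hj] at hmF
    set f := (t * b) ^ (2 * j + 1) with hfdef
    have hw : (t * b) ^ j * t * ((t * b) ^ j)⁻¹ = f * b := by
      have hi : (t * b) * (b * t) = 1 := by
        calc (t * b) * (b * t) = t * (b * b) * t := by group
          _ = 1 := by rw [hb2, mul_one, ht]
      rw [conj_pow_swap ht hb2 j, hfdef, pow_succ]
      calc (t * b) ^ (2 * j) * t = (t * b) ^ (2 * j) * t * (b * b) := by rw [hb2, mul_one]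
        _ = _ := by group
    set g := c⁻¹ * (t * b) ^ j with hgdef
    have hg : g * t * g⁻¹ = a * f := by
      calc g * t * g⁻¹ = c⁻¹ * ((t * b) ^ j * t * ((t * b) ^ j)⁻¹) * c := by rw [hgdef]; group
        _ = c⁻¹ * f * (c * a * c⁻¹) * c := by rw [hw, hbdef]; group
        _ = c⁻¹ * (f * c) * a := by group
        _ = c⁻¹ * (c * f) * a := by rw [hc f hmF]
        _ = f * a := by group
        _ = a * f := (haF f hmF).symm
    have hf1 : f = 1 := by
      by_contra hne
      exact haf f hmF hne (isConj_iff.2 ⟨g, hg⟩)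
    rw [hf1, mul_one] at hg
    have hgC : g ∈ C := C.mul_mem (C.inv_mem (memC.2 hc)) (C.pow_mem hwC j)
    exact hapart g (E.mem_of_conj (hg.symm ▸ haH)) (memC.1 hgC) hg

/-- Everything lies in `H` when it contains the centralisers of its involutions. -/
theorem Embedded.eq_top [Finite G] {H : Subgroup G} {t : G} (E : Embedded H t) (ht : t * t = 1) {u : G}
    (huH : u ∈ H) (hu : u * u = 1) (hu1 : u ≠ 1) (hut : ¬ IsConj t u)
    (hall : ∀ x ∈ H, x * x = 1 → x ≠ 1 → ∀ g : G, g * x = x * g → g ∈ H) : H = ⊤ := by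
  classical
  refine eq_top_iff.2 fun c _ => ?_
  refine E.mem_of_conj ?_
  set t' := c * t * c⁻¹ with ht'def
  have hct : IsConj t t' := isConj_iff.2 ⟨c, rfl⟩
  have ht2 : t' * t' = 1 := by
    calc t' * t' = c * (t * t) * c⁻¹ := by rw [ht'def]; group
      _ = 1 := by rw [ht]; group
  by_contra htH
  set w := t' * u with hwdef
  have hpos : 0 < orderOf w := orderOf_pos w
  rcases Nat.even_or_odd' (orderOf w) with ⟨j, hj | hj⟩
  · set k := w ^ j
    have hk2 : k * k = 1 := by rw [← pow_add, ← two_mul, ← hj, pow_orderOf_eq_one]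
    have hk1 : k ≠ 1 := pow_ne_one_of_lt_orderOf (by omega) (by omega)
    have hkinv : t' * k * t' = k := by rw [swap_pow ht2 hu, inv_eq_of_mul_eq_one_right hk2]
    have hkt : k * t' = t' * k := by
      calc k * t' = (t' * t') * (k * t') := by rw [ht2, one_mul]
        _ = t' * (t' * k * t') := by group
        _ = t' * k := by rw [hkinv]
    have hku : k * u = u * k := by
      have h1 : w * k = k * w := ((Commute.refl w).pow_right j).eq
      calc k * u = k * (t' * t') * u := by rw [ht2, mul_one]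
        _ = (k * t') * (t' * u) := by group
        _ = (t' * k) * w := by rw [hkt]
        _ = t' * (w * k) := by rw [h1]; group
        _ = (t' * t') * u * k := by rw [hwdef]; group
        _ = u * k := by rw [ht2, one_mul]
    have hkH : k ∈ H := hall u huH hu hu1 k hku
    exact htH (hall k hkH hk2 hk1 t' hkt.symm)
  · refine hut (hct.trans (isConj_iff.2 ⟨w ^ j, ?_⟩))
    rw [conj_pow_swap ht2 hu j]
    have h1 : w ^ (2 * j + 1) = 1 := by rw [← hj, pow_orderOf_eq_one]
    calc w ^ (2 * j) * t' = w ^ (2 * j) * t' * (u * u) := by rw [hu, mul_one]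
      _ = w ^ (2 * j) * w * u := by rw [hwdef]; group
      _ = w ^ (2 * j + 1) * u := by rw [← pow_succ]
      _ = u := by rw [h1, one_mul]

end CfsgLib.Recog.OEightCent.Close
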