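import Cfsg.Agent.Lib.Recog.OEightCent.CloseModel
import Cfsg.Agent.Lib.Recog.OEightCent.CloseStep
import Cfsg.Agent.Lib.ClassK.ConwayMain

/-!
An embedded model: its centraliser of `t` is the given one, and `t` fuses with no other class of the model.
-/

set_option autoImplicit false

namespace CfsgLib.Recog.OEightCent.Close

/-- The centraliser of the central involution in the model. -/
noncomputable def Mid : Subgroup Om := Subgroup.closure (o8gen '' Set.Iio 7)

theorem gen_mid {k : ℕ} (hk : k < 7) : o8gen k ∈ Mid := Subgroup.subset_closure ⟨k, hk, rfl⟩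

theorem wprod_mid : ∀ {w : List ℕ}, (∀ k ∈ w, k < 7) → wprod o8gen w ∈ Mid
  | [], _ => by simp [wprod]
  | k :: w, h => by
    rw [show wprod o8gen (k :: w) = o8gen k * wprod o8gen w by simp [wprod]]
    exact Mid.mul_mem (gen_mid (h k (by simp))) (wprod_mid fun x hx => h x (by simp [hx]))

theorem conj_ent {g : Om} : ∀ {w : List ℕ}, (∀ k ∈ w, k < 6) → ∀ {i : ℕ}, i < 2287 → Rep g (ent i) →
    ∃ j < 2287, Rep (wprod o8gen w * g * (wprod o8gen w)⁻¹) (ent j)
  | [], _, i, hi, hg => ⟨i, hi, by simpa [wprod] using hg⟩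
  | k :: w, h, i, hi, hg => by
    obtain ⟨j, hj, hr⟩ := conj_ent (w := w) (fun x hx => h x (by simp [hx])) hi hg
    have hk : k < 6 := h k (by simp)
    have hi' := all_range imgs_ok hj
    simp only [imgOK, Bool.and_eq_true] at hi'
    have hk' := all_range hi'.2 hk
    simp only [Bool.and_eq_true] at hk'
    refine ⟨img j k, by rw [← Nat.blt_eq]; exact hk'.1, ?_⟩
    rw [Nat.eq_of_beq_eq_true hk'.2,
      show wprod o8gen (k :: w) = o8gen k * wprod o8gen w by simp [wprod], mul_inv_rev,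
      inv_eq_of_mul_eq_one_right (gen_sq k)]
    convert rep_conj_gen hr k using 1
    group

theorem conj_qT {g : Om} : ∀ {w : List ℕ}, (∀ k ∈ w, k < 6) → ∀ {q : ℕ}, q < 512 → Rep g (qT q) →
    ∃ j < 512, Rep (wprod o8gen w * g * (wprod o8gen w)⁻¹) (qT j)
  | [], _, i, hi, hg => ⟨i, hi, by simpa [wprod] using hg⟩
  | k :: w, h, i, hi, hg => by
    obtain ⟨j, hj, hr⟩ := conj_qT (w := w) (fun x hx => h x (by simp [hx])) hi hg
    have hk : k < 6 := h k (by simp)
    have hi' := all_range qs_ok hj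
    simp only [qOK, Bool.and_eq_true] at hi'
    have hk' := all_range hi'.2 hk
    simp only [Bool.and_eq_true] at hk'
    refine ⟨qC j k, by rw [← Nat.blt_eq]; exact hk'.1, ?_⟩
    rw [Nat.eq_of_beq_eq_true hk'.2,
      show wprod o8gen (k :: w) = o8gen k * wprod o8gen w by simp [wprod], mul_inv_rev,
      inv_eq_of_mul_eq_one_right (gen_sq k)]
    convert rep_conj_gen hr k using 1
    group

/-- An embedding of the model extending an amalgam. -/
structure Link {G : Type*} [Group G] (S : Setup G) (f : ℕ → G) (φ : Om →* G) : Prop where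
  amalgam : S.Amalgam f
  inj : Function.Injective φ
  gen : ∀ i < 8, φ (o8gen i) = f i

namespace Link

variable {G : Type*} [Group G] {S : Setup G} {f : ℕ → G} {φ : Om →* G} (L : Link S f φ)
include L

theorem map_wprod : ∀ {w : List ℕ}, (∀ k ∈ w, k < 8) → φ (wprod o8gen w) = wprod f w
  | [], _ => by simp [wprod]
  | k :: w, h => by
    rw [show wprod o8gen (k :: w) = o8gen k * wprod o8gen w by simp [wprod],
      show wprod f (k :: w) = f k * wprod f w by simp [wprod], map_mul, L.gen k (h k (by simp)),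
      map_wprod fun x hx => h x (by simp [hx])]

theorem map_zero : φ (rw₀ 0) = S.t := by
  rw [rw_zero, L.map_wprod (by decide)]
  exact L.amalgam.chart.zword

theorem map_mid : Mid.map φ = Subgroup.centralizer ({S.t} : Set G) := by
  rw [Mid, MonoidHom.map_closure, ← L.amalgam.chart.gen, Set.image_image]
  refine congrArg Subgroup.closure (Set.image_congr fun k hk => L.gen k ?_)
  simp only [Set.mem_Iio] at hk
  omega

theorem mem_cent {g : Om} (h : g ∈ Mid) : φ g ∈ Subgroup.centralizer ({S.t} : Set G) :=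
  L.map_mid ▸ Subgroup.mem_map_of_mem φ h

theorem mem_mid_iff {g : Om} : g ∈ Mid ↔ g * rw₀ 0 = rw₀ 0 * g := by
  constructor
  · intro h
    refine L.inj ?_
    rw [map_mul, map_mul, L.map_zero]
    exact Subgroup.mem_centralizer_singleton_iff.1 (L.mem_cent h)
  · intro h
    have h1 : φ g ∈ Subgroup.centralizer ({S.t} : Set G) := by
      rw [Subgroup.mem_centralizer_singleton_iff, ← L.map_zero, ← map_mul, ← map_mul, h]
    rw [← L.map_mid] at h1
    obtain ⟨x, hx, e⟩ := h1
    exact L.inj e ▸ hx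

theorem split {g : Om} (h : g ∈ Mid) : ∃ a b : Om, g = a * b ∧ a ∈ Mid ∧ φ a ∈ S.Q ∧
    (∃ q < 512, Rep a (qT q)) ∧ b ∈ Mid ∧ ∃ l < 216, Rep b (lT l) := by
  have step : ∀ k < 7, ∀ y : Om, (∃ a b : Om, y = a * b ∧ a ∈ Mid ∧ φ a ∈ S.Q ∧
      (∃ q < 512, Rep a (qT q)) ∧ b ∈ Mid ∧ ∃ l < 216, Rep b (lT l)) → ∃ a b : Om, o8gen k * y = a * b ∧
      a ∈ Mid ∧ φ a ∈ S.Q ∧ (∃ q < 512, Rep a (qT q)) ∧ b ∈ Mid ∧ ∃ l < 216, Rep b (lT l) := by
    intro k hk7 y ih
    obtain ⟨a, b, rfl, ha, haQ, ⟨q, hq, hqa⟩, hb, l, hl, hlb⟩ := ih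
    rcases (show k < 6 ∨ k = 6 by omega) with hk6 | rfl
    · have hq' := all_range qs_ok hq
      simp only [qOK, Bool.and_eq_true] at hq'
      have hqk := all_range hq'.2 hk6
      have hl' := all_range ls_ok hl
      simp only [lOK, Bool.and_eq_true] at hl'
      have hlk := all_range hl'.1 hk6
      simp only [Bool.and_eq_true] at hqk hlk
      refine ⟨o8gen k * a * o8gen k, o8gen k * b, ?_, Mid.mul_mem (Mid.mul_mem (gen_mid hk7) ha) (gen_mid hk7),
        ?_, ⟨qC q k, by rw [← Nat.blt_eq]; exact hqk.1, ?_⟩, Mid.mul_mem (gen_mid hk7) hb, lM l k,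
        by rw [← Nat.blt_eq]; exact hlk.1, ?_⟩
      · rw [show o8gen k * a * o8gen k * (o8gen k * b) = o8gen k * a * (o8gen k * o8gen k) * b by group, gen_sq]
        group
      · rw [show o8gen k * a * o8gen k = o8gen k * a * (o8gen k)⁻¹ by
          rw [inv_eq_of_mul_eq_one_right (gen_sq k)], map_mul, map_mul, map_inv]
        exact S.Q_normal _ (L.mem_cent (gen_mid hk7)) _ haQ
      · rw [Nat.eq_of_beq_eq_true hqk.2]; exact rep_conj_gen hqa k
      · rw [Nat.eq_of_beq_eq_true hlk.2]; exact (rep_gen k).mul hlb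
    · have hq' := all_range qs_ok hq
      simp only [qOK, Bool.and_eq_true] at hq'
      refine ⟨o8gen 6 * a, b, (mul_assoc _ _ _).symm, Mid.mul_mem (gen_mid hk7) ha, ?_,
        ⟨qM q, by rw [← Nat.blt_eq]; exact hq'.1.1, ?_⟩, hb, l, hl, hlb⟩
      · rw [map_mul, L.gen 6 (by norm_num)]
        exact S.Q.mul_mem L.amalgam.chart.mem_Q haQ
      · rw [Nat.eq_of_beq_eq_true hq'.1.2]; exact (rep_gen 6).mul hqa
  induction h using Subgroup.closure_induction_left with
  | one =>
    exact ⟨1, 1, (one_mul 1).symm, Mid.one_mem, by rw [map_one]; exact S.Q.one_mem,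
      ⟨0, by norm_num, by rw [first_ok.1]; exact rep_one⟩, Mid.one_mem, 0, by norm_num,
      by rw [first_ok.2.1]; exact rep_one⟩
  | mul_left x hx y _ ih =>
    obtain ⟨k, hk, rfl⟩ := hx
    exact step k hk y ih
  | inv_mul_cancel x hx y _ ih =>
    obtain ⟨k, hk, rfl⟩ := hx
    rw [inv_eq_of_mul_eq_one_right (gen_sq k)]
    exact step k hk y ih

omit L in
theorem card_cent : Nat.card (Subgroup.centralizer ({S.t} : Set G)) = 110592 := by
  have hk : S.proj.ker.map (Subgroup.subtype _) = S.Q := by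
    ext x
    constructor
    · rintro ⟨c, hc, rfl⟩; exact (S.proj_ker c).1 hc
    · intro hx; exact ⟨⟨x, S.Q_le hx⟩, (S.proj_ker _).2 hx, rfl⟩
  have hq : Nat.card S.proj.ker = 2 ^ 9 := by
    rw [← S.Q_card, ← hk, Subgroup.card_map_of_injective (Subgroup.subtype_injective _)]
  rw [Subgroup.card_eq_card_quotient_mul_card_subgroup S.proj.ker, hq,
    Nat.card_congr (QuotientGroup.quotientKerEquivOfSurjective _ S.proj_surj).toEquiv]
  simp [Fintype.card_perm, Nat.factorial]

theorem levi_one {b : Om} (hb : b ∈ Mid) {l : ℕ} (hl : l < 216) (hr : Rep b (lT l)) (hQ : φ b ∈ S.Q) : b = 1 := by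
  classical
  let F : Fin 216 → P3 := fun l => if h : ∃ g ∈ Mid, Rep g (lT l) then S.proj ⟨φ h.choose, L.mem_cent h.choose_spec.1⟩
    else 1
  have hF : ∀ {g : Om} (hg : g ∈ Mid) {l : Fin 216}, Rep g (lT l) → F l = S.proj ⟨φ g, L.mem_cent hg⟩ := by
    intro g hg l hl
    have h : ∃ g ∈ Mid, Rep g (lT l) := ⟨g, hg, hl⟩
    simp only [F, dif_pos h]
    have e := h.choose_spec.2.eq hl
    exact congrArg S.proj (Subtype.ext (congrArg φ e))
  have hsurj : Function.Surjective F := by
    intro x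
    obtain ⟨⟨c, hc⟩, rfl⟩ := S.proj_surj x
    rw [← L.map_mid] at hc
    obtain ⟨g, hg, rfl⟩ := hc
    obtain ⟨u, v, rfl, hu, huQ, -, hv, j, hj, hjv⟩ := L.split hg
    refine ⟨⟨j, hj⟩, ?_⟩
    rw [hF hv hjv, show (⟨φ (u * v), _⟩ : ↥(Subgroup.centralizer ({S.t} : Set G))) =
      ⟨φ u, L.mem_cent hu⟩ * ⟨φ v, L.mem_cent hv⟩ from Subtype.ext (map_mul φ u v), map_mul,
      (S.proj_ker ⟨φ u, L.mem_cent hu⟩).2 huQ, one_mul]
  have hinj : Function.Injective F :=
    ((Nat.bijective_iff_surjective_and_card F).2 ⟨hsurj, by simp [Fintype.card_perm, Nat.factorial]⟩).1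
  have h0 : Rep 1 (lT ((⟨0, by norm_num⟩ : Fin 216) : ℕ)) := by simpa [first_ok.2.1] using rep_one
  have := @hinj ⟨l, hl⟩ ⟨0, by norm_num⟩ (by
    rw [hF hb hr, hF Mid.one_mem h0, (S.proj_ker _).2 hQ, (S.proj_ker _).2 (by simp)])
  have e : lT l = lT 0 := by rw [show l = 0 from congrArg Fin.val this]
  rw [e, first_ok.2.1] at hr
  exact hr.eq rep_one

theorem q_part {g : Om} (hg : g ∈ Mid) (hQ : φ g ∈ S.Q) : ∃ q < 512, Rep g (qT q) := by
  obtain ⟨a, b, rfl, ha, haQ, hq, hb, l, hl, hlb⟩ := L.split hg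
  rw [L.levi_one hb hl hlb (by simpa using S.Q.mul_mem (S.Q.inv_mem haQ) hQ), mul_one]
  exact hq

theorem mid_invol {g : Om} (hg : g ∈ Mid) (h2 : g * g = 1) (h1 : g ≠ 1) : ∃ i < 2287, Rep g (ent i) := by
  obtain ⟨a, b, rfl, ha, haQ, ⟨q, hq, hqa⟩, hb, l, hl, hlb⟩ := L.split hg
  have hl' := all_range ls_ok hl
  simp only [lOK, Bool.and_eq_true] at hl'
  by_cases hr : (leviCert.getD l (8, [])).1 < 8
  · rw [(Nat.blt_eq ▸ hr : Nat.blt _ 8 = true), cond_true, Bool.and_eq_true, List.all_eq_true] at hl'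
    set r := (leviCert.getD l (8, [])).1
    set w := (leviCert.getD l (8, [])).2
    have hw : ∀ k ∈ w, k < 6 := fun k hk => by rw [← Nat.blt_eq]; exact List.all_eq_true.1 hl'.2.1 k hk
    set R := wprod o8gen (leviWord.getD r []) with hRdef
    have hR : Rep R (lT (leviReps.getD r 0)) := (leviWord_ok r hr).1 ▸ rep_word _
    have eb : b = wprod o8gen w * R * (wprod o8gen w)⁻¹ :=
      hlb.eq (by rw [Nat.eq_of_beq_eq_true hl'.2.2]; exact rep_conj hR w)
    obtain ⟨j, hj, hja⟩ := conj_qT (w := w.reverse) (fun k hk => hw k (List.mem_reverse.1 hk)) hq hqa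
    rw [wprod_reverse, inv_inv] at hja
    set W := wprod o8gen w
    have ek : W⁻¹ * a * W * R = W⁻¹ * (a * b) * W := by rw [eb]; group
    have hx := hja.mul hR
    rw [ek] at hx
    have hne : W⁻¹ * (a * b) * W ≠ 1 := fun e => h1 (by
      calc a * b = W * (W⁻¹ * (a * b) * W) * W⁻¹ := by group
        _ = 1 := by rw [e]; group)
    have hsq : W⁻¹ * (a * b) * W * (W⁻¹ * (a * b) * W) = 1 := by
      calc _ = W⁻¹ * ((a * b) * (a * b)) * W := by group
        _ = 1 := by rw [h2]; group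
    have hp := all_range (all_range pairs_ok hr) hj
    simp only [pairOK] at hp
    by_cases hlt : get2 (pairTab.getD r []) 32 j 2287 < 2287
    · rw [(Nat.blt_eq ▸ hlt : Nat.blt _ 2287 = true), cond_true] at hp
      rw [← Nat.eq_of_beq_eq_true hp] at hx
      obtain ⟨i, hi, hri⟩ := conj_ent hw hlt hx
      refine ⟨i, hi, ?_⟩
      convert hri using 1
      show a * b = W * (W⁻¹ * (a * b) * W) * W⁻¹
      group
    · exfalso
      rw [show Nat.blt (get2 (pairTab.getD r []) 32 j 2287) 2287 = false from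
        Bool.eq_false_iff.2 fun e => hlt (Nat.blt_eq ▸ e), cond_false, Bool.or_eq_true] at hp
      rcases hp with hp | hp
      · exact hne (hx.eq (by rw [Nat.eq_of_beq_eq_true hp]; exact rep_one))
      · rw [Bool.not_eq_true', Bool.eq_false_iff] at hp
        have := (hx.mul hx).inj (hsq.symm ▸ rep_one)
        exact hp (by rw [this]; exact Nat.beq_refl _)
  · exfalso
    rw [show Nat.blt (leviCert.getD l (8, [])).1 8 = false from Bool.eq_false_iff.2 fun e => hr (Nat.blt_eq ▸ e),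
      cond_false, Bool.not_eq_true', Bool.eq_false_iff] at hl'
    have hbb : φ (b * b) ∈ S.Q := by
      have e : b * b = (b⁻¹)⁻¹ * 1 * b := by group
      have e2 : b * b = (b * a * b⁻¹)⁻¹ * a⁻¹ * 1 := by
        calc b * b = (b * a * b⁻¹)⁻¹ * a⁻¹ * ((a * b) * (a * b)) := by group
          _ = _ := by rw [h2]
      rw [e2, mul_one, map_mul, map_inv, map_inv, map_mul, map_mul, map_inv]
      exact S.Q.mul_mem (S.Q.inv_mem (S.Q_normal _ (L.mem_cent hb) _ haQ)) (S.Q.inv_mem haQ)
    obtain ⟨j, hj, hjr⟩ := L.q_part (Mid.mul_mem hb hb) hbb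
    have e := hjr.inj (hlb.mul hlb)
    refine hl'.2 ?_
    rw [List.any_eq_true]
    have hlen : qTab.length = 16 ∧ ∀ i < 16, (qTab.getD i []).length = 32 := by decide +kernel
    refine ⟨qTab.getD (j / 32) [], ?_, ?_⟩
    · rw [List.getD_eq_getElem _ _ (by omega)]; exact List.getElem_mem _
    · rw [List.any_eq_true]
      refine ⟨qT j, ?_, by rw [e]; exact Nat.beq_refl _⟩
      have := hlen.2 (j / 32) (by omega)
      rw [qT, get2, List.getD_eq_getElem _ _ (by omega : j % 32 < _)]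
      exact List.getElem_mem _

theorem invol_class {g : Om} (h2 : g * g = 1) (h1 : g ≠ 1) : ∃ c < 5, IsConj (rw₀ c) g := by
  classical
  have hM : Nat.card Mid = 2 ^ 12 * 27 := by
    rw [← Subgroup.card_map_of_injective L.inj, L.map_mid, card_cent]
    norm_num
  have : Fact (Nat.Prime 2) := ⟨Nat.prime_two⟩
  obtain ⟨P, hP⟩ := Sylow.exists_subgroup_card_pow_prime (G := Mid) (p := 2) (n := 12) ⟨27, hM⟩
  have hP' : Nat.card (P.map Mid.subtype) = 2 ^ 12 := by
    rw [Subgroup.card_map_of_injective (Subgroup.subtype_injective _), hP]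
  have hfac : (Nat.card Om).factorization 2 = 12 := by
    rw [CfsgLib.ClassK.Conway.card_omega8plus, show (174182400 : ℕ) = 2 ^ 12 * 42525 by norm_num,
      Nat.factorization_mul (by norm_num) (by norm_num), Finsupp.add_apply, Nat.factorization_pow,
      Finsupp.smul_apply, Nat.Prime.factorization_self Nat.prime_two,
      Nat.factorization_eq_zero_of_not_dvd (by norm_num : ¬ 2 ∣ 42525)]
    norm_num
  let T : Sylow 2 Om := Sylow.ofCard (P.map Mid.subtype) (by rw [hP', hfac])
  have hz : IsPGroup 2 (Subgroup.zpowers g) := IsPGroup.of_card (n := 1) (by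
    rw [Nat.card_zpowers, pow_one]
    exact orderOf_eq_prime (by rw [pow_two, h2]) h1)
  obtain ⟨U, hU⟩ := hz.exists_le_sylow
  obtain ⟨c, hc⟩ := MulAction.exists_smul_eq Om U T
  have hmem : c * g * c⁻¹ ∈ Mid := by
    have h3 : c * g * c⁻¹ ∈ (T : Subgroup Om) := by
      rw [← hc, Sylow.coe_subgroup_smul]
      exact ⟨g, hU (Subgroup.mem_zpowers g), rfl⟩
    obtain ⟨x, -, e⟩ := h3
    exact e ▸ x.2
  obtain ⟨i, hi, hr⟩ := L.mid_invol hmem (by rw [← mul_one (c * g * c⁻¹ * (c * g * c⁻¹))]; calc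
    c * g * c⁻¹ * (c * g * c⁻¹) * 1 = c * (g * g) * c⁻¹ := by group
    _ = 1 := by rw [h2]; group) (fun e => h1 (conj_eq_one_iff.1 e))
  refine ⟨cls i, (ent_spec i hi).1, ?_⟩
  have h4 := el_conj hi
  rw [(rep_el hi).eq hr] at h4
  exact h4.trans (isConj_iff.2 ⟨c⁻¹, by group⟩)

omit L in
theorem t_sq : S.t * S.t = 1 ∧ S.t ≠ 1 := by
  refine ⟨by rw [← pow_two, ← S.t_ord, pow_orderOf_eq_one], fun e => ?_⟩
  have := S.t_ord
  rw [e, orderOf_one] at this
  norm_num at this

theorem not_tconj {c : ℕ} (hc : c < 5) (hc0 : c ≠ 0) : ¬ IsConj S.t (φ (rw₀ c)) := by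
  intro e
  rcases (show c < 4 ∨ c = 4 by omega) with hc4 | rfl
  · obtain ⟨d, rfl⟩ : ∃ d, c = d + 1 := ⟨c - 1, by omega⟩
    obtain ⟨h1, h5, hne⟩ := five_ok d (by omega)
    set w := fiveWord.getD d []
    set v := wprod o8gen w
    have hv : v * rw₀ (d + 1) = rw₀ (d + 1) * v :=
      ((rep_word w).mul (rep_rw _)).eq (by rw [h1]; exact (rep_rw _).mul (rep_word w))
    have hv5 : v ^ 5 = 1 := by
      have h := rep_word (w ++ w ++ w ++ w ++ w)
      rw [h5] at h
      have h' := h.eq rep_one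
      simp only [wprod_append] at h'
      rw [← h']
      simp [pow_succ, v]
    have hv1 : v ≠ 1 := fun e1 => hne (by
      have h := rep_word w
      rw [show wprod o8gen w = 1 from e1] at h
      exact h.inj rep_one)
    obtain ⟨a, ha⟩ := isConj_iff.1 e
    have ho : orderOf (φ v) = 5 := by
      have : Fact (Nat.Prime 5) := ⟨by norm_num⟩
      exact orderOf_eq_prime (by rw [← map_pow, hv5, map_one]) fun e1 => hv1 (L.inj (by rw [e1, map_one]))
    have hmem : a⁻¹ * φ v * a ∈ Subgroup.centralizer ({S.t} : Set G) := by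
      rw [Subgroup.mem_centralizer_singleton_iff]
      have h2 : φ v * (a * S.t * a⁻¹) = a * S.t * a⁻¹ * φ v := by rw [ha, ← map_mul, ← map_mul, hv]
      calc a⁻¹ * φ v * a * S.t = a⁻¹ * (φ v * (a * S.t * a⁻¹)) * a := by group
        _ = a⁻¹ * (a * S.t * a⁻¹ * φ v) * a := by rw [h2]
        _ = _ := by group
    have h3 : orderOf (⟨_, hmem⟩ : ↥(Subgroup.centralizer ({S.t} : Set G))) = 5 := by
      rw [← Subgroup.orderOf_coe, ← ho]
      exact (MulAut.conj a⁻¹).orderOf_eq (φ v) ▸ by simp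
    have h6 := orderOf_dvd_natCard (⟨_, hmem⟩ : ↥(Subgroup.centralizer ({S.t} : Set G)))
    rw [h3, card_cent] at h6
    norm_num at h6
  · obtain ⟨hq, hcl, hlt, hlet⟩ := q4_ok
    set g := wprod o8gen (q4Conj.flatMap fun w => w ++ 6 :: w.reverse)
    have hg : g = el q4.1 := (rep_word _).eq (by rw [← hq]; exact rep_el hlt)
    have hconj : IsConj (rw₀ 4) g := by
      have := el_conj hlt
      rwa [hcl, ← hg] at this
    have hQ : φ g ∈ S.Q := by
      have key : ∀ l : List (List ℕ), (∀ w ∈ l, ∀ k ∈ w, k < 6) →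
          φ (wprod o8gen (l.flatMap fun w => w ++ 6 :: w.reverse)) ∈ S.Q := by
        intro l
        induction l with
        | nil => intro _; simp [wprod]
        | cons w l ih =>
          intro h
          rw [List.flatMap_cons, wprod_append, map_mul]
          refine S.Q.mul_mem ?_ (ih fun x hx => h x (List.mem_cons_of_mem _ hx))
          rw [wprod_append, show wprod o8gen (6 :: w.reverse) = o8gen 6 * wprod o8gen w.reverse by simp [wprod],
            wprod_reverse, map_mul, map_mul, map_inv, ← mul_assoc, L.gen 6 (by norm_num)]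
          exact S.Q_normal _ (L.mem_cent (wprod_mid fun k hk => (h w List.mem_cons_self k hk).trans (by norm_num))) _
            L.amalgam.chart.mem_Q
      exact key _ hlet
    have hne : φ g ≠ S.t := fun e1 => by
      have : rw₀ 0 = g := L.inj (by rw [L.map_zero, e1])
      have h4 : tag 4 = tag 0 := tag_eq_of_conj (by norm_num) (by norm_num) (by rw [this]; exact hconj)
      exact absurd (tag_eq_zero h4) (by norm_num)
    obtain ⟨y, hy, hy'⟩ := L.amalgam.fused.pure _ hQ hne (e.trans (φ.map_isConj hconj))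
    rw [← L.map_mid] at hy
    obtain ⟨z, -, rfl⟩ := hy
    have h6 : g = z * o8gen 6 * z⁻¹ := L.inj (by rw [map_mul, map_mul, map_inv, L.gen 6 (by norm_num), hy'])
    have h7 : o8gen 7 * rw₀ 0 * (o8gen 7)⁻¹ = o8gen 6 := L.inj (by
      rw [inv_eq_of_mul_eq_one_right (gen_sq 7), map_mul, map_mul, L.map_zero, L.gen 7 (by norm_num),
        L.gen 6 (by norm_num), L.amalgam.move])
    have : IsConj (rw₀ 0) g :=
      (isConj_iff.2 ⟨_, h7⟩).trans (isConj_iff.2 ⟨z, h6.symm⟩)
    have h4 : tag 4 = tag 0 := tag_eq_of_conj (by norm_num) (by norm_num) (hconj.trans this.symm)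
    exact absurd (tag_eq_zero h4) (by norm_num)

/-- `t` meets the model in one class. -/
theorem tconj {g : Om} (e : IsConj S.t (φ g)) : IsConj (rw₀ 0) g := by
  obtain ⟨a, ha⟩ := isConj_iff.1 e
  have h2 : g * g = 1 := L.inj (by
    rw [map_mul, map_one, ← ha]
    calc a * S.t * a⁻¹ * (a * S.t * a⁻¹) = a * (S.t * S.t) * a⁻¹ := by group
      _ = 1 := by rw [(t_sq (S := S)).1]; group)
  have h1 : g ≠ 1 := fun e1 => (t_sq (S := S)).2 (by rw [e1, map_one] at ha; exact conj_eq_one_iff.1 ha)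
  obtain ⟨c, hc, hconj⟩ := L.invol_class h2 h1
  by_cases hc0 : c = 0
  · exact hc0 ▸ hconj
  · exact absurd (e.trans (φ.map_isConj hconj).symm) (L.not_tconj hc hc0)

theorem embedded : Embedded φ.range S.t where
  cent g hg := by
    have : g ∈ Subgroup.centralizer ({S.t} : Set G) := Subgroup.mem_centralizer_singleton_iff.2 hg
    rw [← L.map_mid] at this
    exact Subgroup.map_le_range _ _ this
  fuse x hx hc := by
    obtain ⟨g, rfl⟩ := hx
    obtain ⟨c, hc'⟩ := isConj_iff.1 (L.tconj hc)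
    exact ⟨φ c, ⟨c, rfl⟩, by rw [← L.map_zero, ← map_inv, ← map_mul, ← map_mul, hc']⟩

end Link

end CfsgLib.Recog.OEightCent.Close
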