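import Cfsg.Agent.Lib.Recog.OEightCent.CloseCheck

/-!
Checks of states of the closing recursion.
-/

set_option autoImplicit false
set_option maxRecDepth 100000
set_option Elab.async false

namespace CfsgLib.Recog.OEightCent.Close

theorem states_ok0 : statesOK 0 10 = true := by decide +kernel

theorem states_ok40 : statesOK 40 10 = true := by decide +kernel

theorem states_ok80 : statesOK 80 10 = true := by decide +kernel

theorem states_ok120 : statesOK 120 10 = true := by decide +kernel

theorem states_ok160 : statesOK 160 10 = true := by decide +kernel

theorem states_ok200 : statesOK 200 10 = true := by decide +kernel

theorem states_ok240 : statesOK 240 1 = true := by decide +kernel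

end CfsgLib.Recog.OEightCent.Close
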