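import Cfsg.Agent.Lib.Recog.OEightCent.CloseCheck

/-!
Checks of states of the closing recursion.
-/

set_option autoImplicit false
set_option maxRecDepth 100000
set_option Elab.async false

namespace CfsgLib.Recog.OEightCent.Close

theorem states_ok10 : statesOK 10 10 = true := by decide +kernel

theorem states_ok50 : statesOK 50 10 = true := by decide +kernel

theorem states_ok90 : statesOK 90 10 = true := by decide +kernel

theorem states_ok130 : statesOK 130 10 = true := by decide +kernel

theorem states_ok170 : statesOK 170 10 = true := by decide +kernel

theorem states_ok210 : statesOK 210 10 = true := by decide +kernel

end CfsgLib.Recog.OEightCent.Close
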