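import Cfsg.Agent.Lib.Recog.OEightCent.CloseCheck

/-!
Checks of states of the closing recursion.
-/

set_option autoImplicit false
set_option maxRecDepth 100000
set_option Elab.async false

namespace CfsgLib.Recog.OEightCent.Close

theorem states_ok20 : statesOK 20 10 = true := by decide +kernel

theorem states_ok60 : statesOK 60 10 = true := by decide +kernel

theorem states_ok100 : statesOK 100 10 = true := by decide +kernel

theorem states_ok140 : statesOK 140 10 = true := by decide +kernel

theorem states_ok180 : statesOK 180 10 = true := by decide +kernel

theorem states_ok220 : statesOK 220 10 = true := by decide +kernel

end CfsgLib.Recog.OEightCent.Close
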