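import Cfsg.Agent.Lib.Recog.OEightCent.CloseCheck

/-!
Checks of states of the closing recursion.
-/

set_option autoImplicit false
set_option maxRecDepth 100000
set_option Elab.async false

namespace CfsgLib.Recog.OEightCent.Close

theorem states_ok30 : statesOK 30 10 = true := by decide +kernel

theorem states_ok70 : statesOK 70 10 = true := by decide +kernel

theorem states_ok110 : statesOK 110 10 = true := by decide +kernel

theorem states_ok150 : statesOK 150 10 = true := by decide +kernel

theorem states_ok190 : statesOK 190 10 = true := by decide +kernel

theorem states_ok230 : statesOK 230 10 = true := by decide +kernel

end CfsgLib.Recog.OEightCent.Close
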