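import Cfsg.Agent.Lib.Recog.OEightCent.CloseInvol
import Cfsg.Agent.Lib.Recog.OEightCent.CloseStatesA
import Cfsg.Agent.Lib.Recog.OEightCent.CloseStatesB
import Cfsg.Agent.Lib.Recog.OEightCent.CloseStatesC
import Cfsg.Agent.Lib.Recog.OEightCent.CloseStatesD

/-!
An embedded model is the whole group: the recursion over elementary abelian subgroups.
-/

set_option autoImplicit false

namespace CfsgLib.Recog.OEightCent

namespace Close

/-- `K` consists of the identity and the listed codes. -/
def Spans (K : Subgroup Om) (acc : List ℕ) : Prop :=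
  (∀ x ∈ acc, ∃ g ∈ K, Rep g x) ∧ ∀ g ∈ K, g = 1 ∨ ∃ x ∈ acc, Rep g x

theorem spans_span : ∀ (l : List ℕ) {K : Subgroup Om} {acc : List ℕ}, Spans K acc → (∀ i ∈ l, i < 2287) →
    (∀ i ∈ l, ∀ h ∈ K, h * el i = el i * h) → (∀ i ∈ l, ∀ j ∈ l, el i * el j = el j * el i) →
    ∃ K' : Subgroup Om, Spans K' (span acc (l.map ent)) ∧ K ≤ K' ∧ (∀ i ∈ l, el i ∈ K') ∧
      ∀ D : Subgroup Om, K ≤ D → (∀ i ∈ l, el i ∈ D) → K' ≤ D
  | [], K, acc, hS, _, _, _ => ⟨K, hS, le_rfl, by simp, fun D h _ => h⟩
  | i :: l, K, acc, hS, hlt, hK, hl => by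
    set g := el i
    have hg : Rep g (ent i) := rep_el (hlt i (by simp))
    have hg2 : g * g = 1 := (el_invol (hlt i (by simp))).1
    have hgK : ∀ h ∈ K, h * g = g * h := hK i (by simp)
    let M : Subgroup Om :=
      { carrier := {y | y ∈ K ∨ ∃ h ∈ K, y = h * g}
        one_mem' := Or.inl K.one_mem
        mul_mem' := by
          rintro a b (ha | ⟨a, ha, rfl⟩) (hb | ⟨b, hb, rfl⟩)
          · exact Or.inl (K.mul_mem ha hb)
          · exact Or.inr ⟨_, K.mul_mem ha hb, (mul_assoc _ _ _).symm⟩
          · exact Or.inr ⟨_, K.mul_mem ha hb, by rw [mul_assoc, ← hgK b hb, ← mul_assoc]⟩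
          · refine Or.inl ?_
            rw [show a * g * (b * g) = a * (g * b) * g by group, ← hgK b hb,
              show a * (b * g) * g = a * b * (g * g) by group, hg2, mul_one]
            exact K.mul_mem ha hb
        inv_mem' := by
          rintro a (ha | ⟨a, ha, rfl⟩)
          · exact Or.inl (K.inv_mem ha)
          · refine Or.inr ⟨a⁻¹, K.inv_mem ha, ?_⟩
            rw [mul_inv_rev, inv_eq_of_mul_eq_one_right hg2, hgK _ (K.inv_mem ha)] }
    have hM : Spans M (acc ++ ent i :: acc.map fun h => cmul h (ent i)) := by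
      constructor
      · intro x hx
        rw [List.mem_append, List.mem_cons] at hx
        rcases hx with hx | rfl | hx
        · obtain ⟨y, hy, hyx⟩ := hS.1 x hx; exact ⟨y, Or.inl hy, hyx⟩
        · exact ⟨g, Or.inr ⟨1, K.one_mem, (one_mul g).symm⟩, hg⟩
        · obtain ⟨z, hz, rfl⟩ := List.mem_map.1 hx
          obtain ⟨y, hy, hyz⟩ := hS.1 z hz
          exact ⟨y * g, Or.inr ⟨y, hy, rfl⟩, hyz.mul hg⟩
      · rintro y (hy | ⟨z, hz, rfl⟩)
        · exact (hS.2 y hy).imp_right fun ⟨x, hx, hr⟩ => ⟨x, List.mem_append_left _ hx, hr⟩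
        · rcases hS.2 z hz with rfl | ⟨x, hx, hr⟩
          · exact Or.inr ⟨ent i, by simp, by rw [one_mul]; exact hg⟩
          · exact Or.inr ⟨cmul x (ent i),
              List.mem_append_right _ (List.mem_cons_of_mem _ (List.mem_map.2 ⟨x, hx, rfl⟩)), hr.mul hg⟩
    obtain ⟨K', hK', hle, hmem, hmin⟩ := spans_span l hM (fun j hj => hlt j (by simp [hj]))
      (by
        intro j hj h hh
        have hjg : el j * g = g * el j := hl j (by simp [hj]) i (by simp)
        rcases hh with hh | ⟨z, hz, rfl⟩
        · exact hK j (by simp [hj]) h hh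
        · rw [mul_assoc, ← hjg, ← mul_assoc, hK j (by simp [hj]) z hz, mul_assoc])
      (fun a ha b hb => hl a (by simp [ha]) b (by simp [hb]))
    refine ⟨K', hK', fun y hy => hle (Or.inl hy), ?_, fun D hD hgs => hmin D ?_ fun j hj => hgs j (by simp [hj])⟩
    · intro j hj
      rcases List.mem_cons.1 hj with rfl | hj
      · exact hle (Or.inr ⟨1, K.one_mem, (one_mul _).symm⟩)
      · exact hmem j hj
    · rintro y (hy | ⟨z, hz, rfl⟩)
      · exact hD hy
      · exact D.mul_mem (hD hz) (hgs i (by simp))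

/-- The subgroup of a state. -/
noncomputable def stGrp (j : ℕ) : Subgroup Om := Subgroup.closure (el '' {i | i ∈ (st j).1})

theorem state_ok {j : ℕ} (hj : j < 241) : stateOK j = true := by
  have key : ∀ lo n, statesOK lo n = true → lo ≤ j → j < lo + n → stateOK j = true := by
    intro lo n h h1 h2
    have := all_range h (i := j - lo) (by omega)
    rwa [show lo + (j - lo) = j by omega] at this
  rcases Nat.lt_or_ge j 10 with h | h
  · exact key 0 10 states_ok0 (by omega) h
  rcases Nat.lt_or_ge j 20 with h | h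
  · exact key 10 10 states_ok10 (by omega) h
  rcases Nat.lt_or_ge j 30 with h | h
  · exact key 20 10 states_ok20 (by omega) h
  rcases Nat.lt_or_ge j 40 with h | h
  · exact key 30 10 states_ok30 (by omega) h
  rcases Nat.lt_or_ge j 50 with h | h
  · exact key 40 10 states_ok40 (by omega) h
  rcases Nat.lt_or_ge j 60 with h | h
  · exact key 50 10 states_ok50 (by omega) h
  rcases Nat.lt_or_ge j 70 with h | h
  · exact key 60 10 states_ok60 (by omega) h
  rcases Nat.lt_or_ge j 80 with h | h
  · exact key 70 10 states_ok70 (by omega) h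
  rcases Nat.lt_or_ge j 90 with h | h
  · exact key 80 10 states_ok80 (by omega) h
  rcases Nat.lt_or_ge j 100 with h | h
  · exact key 90 10 states_ok90 (by omega) h
  rcases Nat.lt_or_ge j 110 with h | h
  · exact key 100 10 states_ok100 (by omega) h
  rcases Nat.lt_or_ge j 120 with h | h
  · exact key 110 10 states_ok110 (by omega) h
  rcases Nat.lt_or_ge j 130 with h | h
  · exact key 120 10 states_ok120 (by omega) h
  rcases Nat.lt_or_ge j 140 with h | h
  · exact key 130 10 states_ok130 (by omega) h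
  rcases Nat.lt_or_ge j 150 with h | h
  · exact key 140 10 states_ok140 (by omega) h
  rcases Nat.lt_or_ge j 160 with h | h
  · exact key 150 10 states_ok150 (by omega) h
  rcases Nat.lt_or_ge j 170 with h | h
  · exact key 160 10 states_ok160 (by omega) h
  rcases Nat.lt_or_ge j 180 with h | h
  · exact key 170 10 states_ok170 (by omega) h
  rcases Nat.lt_or_ge j 190 with h | h
  · exact key 180 10 states_ok180 (by omega) h
  rcases Nat.lt_or_ge j 200 with h | h
  · exact key 190 10 states_ok190 (by omega) h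
  rcases Nat.lt_or_ge j 210 with h | h
  · exact key 200 10 states_ok200 (by omega) h
  rcases Nat.lt_or_ge j 220 with h | h
  · exact key 210 10 states_ok210 (by omega) h
  rcases Nat.lt_or_ge j 230 with h | h
  · exact key 220 10 states_ok220 (by omega) h
  rcases Nat.lt_or_ge j 240 with h | h
  · exact key 230 10 states_ok230 (by omega) h
  · exact key 240 1 states_ok240 (by omega) (by omega)

theorem spans_state {j : ℕ} (hj : j < 241) (hlt : ∀ i ∈ (st j).1, i < 2287) :
    Spans (stGrp j) (span [] ((st j).1.map ent)) := by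
  have hgc : ∀ i ∈ (st j).1, ∀ k ∈ (st j).1, el i * el k = el k * el i := by
    intro i hi k hk
    have h := all_range gens_ok hj
    simp only [gensOK, stGens, List.all_map, List.all_eq_true, Function.comp] at h
    exact (agree_iff (rep_el (hlt i hi)) (rep_el (hlt k hk))).1 (h i hi k hk)
  obtain ⟨K, hK, -, hmem, hmin⟩ := spans_span (st j).1 (K := ⊥) (acc := [])
    ⟨by simp, fun g hg => Or.inl (Subgroup.mem_bot.1 hg)⟩ hlt
    (fun i _ h hh => by rw [Subgroup.mem_bot.1 hh, one_mul, mul_one]) hgc
  have e : stGrp j = K := le_antisymm ((Subgroup.closure_le _).2 (by rintro _ ⟨i, hi, rfl⟩; exact hmem i hi))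
    (hmin _ bot_le fun i hi => Subgroup.subset_closure ⟨i, hi, rfl⟩)
  exact e ▸ hK

theorem prodK_mem {K : Subgroup Om} {els : List ℕ} (hS : Spans K els) {g : Om} {k : ℕ} (hg : Rep g k)
    (D : Subgroup Om) (hK : K ≤ D) (hgD : g ∈ D) (n : ℕ) : ∃ y ∈ D, Rep y (prodK els k n) := by
  have key : ∀ m : ℕ, ∃ y ∈ D, Rep y (els.getD m one) := by
    intro m
    by_cases hm : m < els.length
    · obtain ⟨y, hy, hr⟩ := hS.1 _ (List.getElem_mem hm)
      exact ⟨y, hK hy, by rw [List.getD_eq_getElem _ _ hm]; exact hr⟩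
    · exact ⟨1, D.one_mem, by rw [List.getD_eq_default _ _ (by omega)]; exact rep_one⟩
  rw [prodK]
  cases Nat.blt n els.length
  · cases Nat.beq n els.length
    · obtain ⟨y, hy, hr⟩ := key (n - els.length - 1)
      exact ⟨y * g, D.mul_mem hy hgD, hr.mul hg⟩
    · exact ⟨g, hgD, hg⟩
  · exact key n

namespace Link

variable {G : Type*} [Group G] {S : Setup G} {f : ℕ → G} {φ : Om →* G} (L : Link S f φ)
include L

theorem el_tconj {i : ℕ} (hi : i < 2287) : IsConj S.t (φ (el i)) ↔ cls i = 0 := by
  constructor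
  · intro e
    exact tag_eq_zero (tag_eq_of_conj (ent_spec i hi).1 (by norm_num) ((el_conj hi).trans (L.tconj e).symm))
  · intro e
    have := φ.map_isConj (el_conj hi)
    rwa [e, L.map_zero] at this

/-- The centraliser of each state lies in the model. -/
theorem state [Finite G] : ∀ j < 241, ∀ c : G, (∀ i ∈ (st j).1, c * φ (el i) = φ (el i) * c) → c ∈ φ.range := by
  intro j
  induction j using Nat.strong_induction_on with
  | _ j ih =>
    intro hj c hc
    have hok := state_ok hj
    simp only [stateOK, Bool.and_eq_true, List.all_eq_true, Bool.not_eq_true', Nat.blt_eq, stGens] at hok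
    obtain ⟨⟨⟨⟨⟨⟨⟨⟨⟨⟨⟨hgl, hal⟩, hacls⟩, hgc⟩, htfl⟩, hafl⟩, htf⟩, haf⟩, hp⟩, htag⟩, hscan⟩, hkids⟩ := hok
    set gs := (st j).1
    set ai := (st j).2.1.getD 0 0 with hai
    set els := span [] (gs.map ent) with hels
    have hS := spans_state hj hgl
    have hal' : ai < 2287 := by
      have : (st j).2.1.getD 0 2287 < 2287 := hal
      rcases h : (st j).2.1 with _ | ⟨x, l⟩
      · simp [h] at this
      · simpa [hai, h] using this
    have hgen : ∀ (D : Subgroup Om), (∀ i ∈ gs, el i ∈ D) → stGrp j ≤ D := fun D h =>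
      (Subgroup.closure_le _).2 (by rintro _ ⟨i, hi, rfl⟩; exact h i hi)
    have hcommG : ∀ g : G, (∀ i ∈ gs, g * φ (el i) = φ (el i) * g) →
        ∀ x ∈ (stGrp j).map φ, g * x = x * g := by
      intro g hg x hx
      obtain ⟨y, hy, rfl⟩ := hx
      have := hgen ((Subgroup.centralizer ({g} : Set G)).comap φ)
        (fun i hi => Subgroup.mem_centralizer_singleton_iff.2 (hg i hi).symm) hy
      exact (Subgroup.mem_centralizer_singleton_iff.1 this).symm
    have hgz : ∀ i ∈ gs, el i * rw₀ 0 = rw₀ 0 * el i ∧ el i * el ai = el ai * el i := by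
      intro i hi
      have h := hgc (ent i) (List.mem_map_of_mem hi)
      exact ⟨(agree_iff (rep_el (hgl i hi)) (rep_rw 0)).1 h.1,
        (agree_iff (rep_el (hgl i hi)) (rep_el hal')).1 h.2⟩
    have htF : ∀ x ∈ (stGrp j).map φ, S.t * x = x * S.t := hcommG S.t fun i hi => by
      rw [← L.map_zero, ← map_mul, ← map_mul, (hgz i hi).1]
    have haF : ∀ x ∈ (stGrp j).map φ, φ (el ai) * x = x * φ (el ai) := hcommG _ fun i hi => by
      rw [← map_mul, ← map_mul, (hgz i hi).2]
    have hnc : ∀ {tab : List ℕ} {d : Om} {x : ℕ}, Rep d x → leq (els.map (cmul x)) (tab.map ent) = true →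
        (∀ i ∈ tab, i < 2287 ∧ Nat.beq (cls i) 0 = false) →
        ∀ y ∈ (stGrp j).map φ, y ≠ 1 → ¬ IsConj S.t (φ d * y) := by
      intro tab d x hd he ht y hy hne hcon
      obtain ⟨y, hy, rfl⟩ := hy
      rcases hS.2 y hy with rfl | ⟨v, hv, hr⟩
      · exact hne (map_one φ)
      · have hm : cmul x v ∈ tab.map ent := eq_of_leq he ▸ List.mem_map_of_mem hv
        obtain ⟨i, hi, hiv⟩ := List.mem_map.1 hm
        obtain ⟨hi', hi0⟩ := ht i hi
        rw [← map_mul, show d * y = el i from (hd.mul hr).eq (hiv ▸ rep_el hi'), L.el_tconj hi'] at hcon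
        rw [hcon] at hi0
        simp at hi0
    refine (L.embedded.step (t_sq (S := S)).1 (F := (stGrp j).map φ) (a := φ (el ai)) ⟨_, rfl⟩
      ((L.el_tconj hal').2 (Nat.eq_of_beq_eq_true hacls)) htF haF ?_ ?_ ?_ ?_ (hcommG c hc))
    · -- the separating position
      intro g hg hgF hga
      obtain ⟨y, rfl⟩ := hg
      set p := (st j).2.1.getD 1 0
      have hlen : p < els.length := hp
      obtain ⟨z, hz, hzr⟩ := hS.1 _ (List.getElem_mem hlen)
      have e1 := eq_of_leq htf
      have e2 := eq_of_leq haf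
      have l1 : p < (st j).2.2.1.length := by
        have := congrArg List.length e1; simp only [List.length_map] at this; omega
      have l2 : p < (st j).2.2.2.1.length := by
        have := congrArg List.length e2; simp only [List.length_map] at this; omega
      have m1 := List.getElem_of_eq e1 (by rw [List.length_map]; exact hlen)
      have m2 := List.getElem_of_eq e2 (by rw [List.length_map]; exact hlen)
      simp only [List.getElem_map] at m1 m2
      obtain ⟨b1, -⟩ := htfl _ (List.getElem_mem l1)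
      obtain ⟨b2, -⟩ := hafl _ (List.getElem_mem l2)
      have n1 : rw₀ 0 * z = el _ := ((rep_rw 0).mul hzr).eq (m1.symm ▸ rep_el b1)
      have n2 : el ai * z = el _ := ((rep_el hal').mul hzr).eq (m2.symm ▸ rep_el b2)
      have hy : IsConj (el ((st j).2.2.1[p])) (el ((st j).2.2.2.1[p])) := by
        rw [← n1, ← n2]
        refine isConj_iff.2 ⟨y, L.inj ?_⟩
        have hzy := hgF (φ z) (Subgroup.mem_map_of_mem φ hz)
        simp only [map_mul, map_inv, L.map_zero]
        calc φ y * (S.t * φ z) * (φ y)⁻¹ = φ y * S.t * (φ y)⁻¹ * (φ y * φ z * (φ y)⁻¹) := by group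
          _ = φ (el ai) * φ z := by rw [hga, hzy, mul_inv_cancel_right]
      refine absurd (tag_eq_of_conj (ent_spec _ b1).1 (ent_spec _ b2).1
        ((el_conj b1).trans (hy.trans (el_conj b2).symm))) ?_
      rw [← List.getD_eq_getElem _ 0 l1, ← List.getD_eq_getElem _ 0 l2]
      exact fun e => by rw [e, Nat.beq_refl] at htag; exact Bool.noConfusion htag
    · intro y hy hne
      rw [show S.t * y = φ (rw₀ 0) * y by rw [L.map_zero]]
      exact hnc (rep_rw 0) htf (fun i hi => htfl i hi) y hy hne
    · exact hnc (rep_el hal') haf fun i hi => hafl i hi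
    · intro k hk hk2 hkF hkt hkF' g hgF hgk
      obtain ⟨k, rfl⟩ := hk
      have hkmid : k ∈ Mid := L.mem_mid_iff.2 (L.inj (by rw [map_mul, map_mul, L.map_zero]; exact hkt))
      have hk1 : k ≠ 1 := fun e => hkF (by rw [e, map_one]; exact one_mem _)
      obtain ⟨i, hi, hri⟩ := L.mid_invol hkmid (L.inj (by rw [map_mul, map_one]; exact hk2)) hk1
      have hin := all_range imgs_ok hi
      simp only [imgOK, Bool.and_eq_true, Nat.blt_eq] at hin
      have hrt : rootTest (gs.map ent) els (ent i) = true := by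
        simp only [rootTest, Bool.and_eq_true, List.all_eq_true, Bool.not_eq_true', List.mem_map,
          forall_exists_index, and_imp, forall_apply_eq_imp_iff₂, List.any_eq_false]
        refine ⟨fun m hm => (agree_iff (rep_el (hgl m hm)) hri).2 (L.inj ?_), fun x hx e => ?_⟩
        · rw [map_mul, map_mul]
          exact (hkF' _ (Subgroup.mem_map_of_mem φ (Subgroup.subset_closure ⟨m, hm, rfl⟩))).symm
        · obtain ⟨y, hy, hyx⟩ := hS.1 x hx
          rw [Nat.eq_of_beq_eq_true e] at hyx
          exact hkF (hyx.eq hri ▸ Subgroup.mem_map_of_mem φ hy)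
      have hmem := mem_scanTab (rootTest (gs.map ent) els) invTab 0 (i / 48) (i % 48) hin.1.1
        (Nat.mod_lt _ (by norm_num)) hin.1.2 hrt
      rw [eq_of_leq hscan, show 0 + (i / 48 * 48 + i % 48) = i by omega] at hmem
      obtain ⟨kid, hkid, e⟩ := List.mem_map.1 hmem
      have hko := hkids kid hkid
      simp only [kidOK, e] at hko
      set Z := (Subgroup.centralizer ({g} : Set G)).comap φ with hZ
      have hZk : k ∈ Z := Subgroup.mem_centralizer_singleton_iff.2 hgk.symm
      have hZF : stGrp j ≤ Z := fun y hy =>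
        Subgroup.mem_centralizer_singleton_iff.2 (hgF _ (Subgroup.mem_map_of_mem φ hy)).symm
      have hZmem : ∀ {y : Om}, y ∈ Z → g * φ y = φ y * g := fun h =>
        (Subgroup.mem_centralizer_singleton_iff.1 h).symm
      by_cases hkind : kid.getD 1 0 = 0
      · rw [hkind, show Nat.beq 0 0 = true from rfl, cond_true, Bool.and_eq_true, Bool.and_eq_true,
          Nat.blt_eq] at hko
        obtain ⟨⟨hm, hcl⟩, heq⟩ := hko
        set m := kid.getD 3 0
        have hm' : m < 2287 := by
          by_cases hlen : 3 < kid.length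
          · rwa [List.getD_eq_getElem _ _ hlen, ← List.getD_eq_getElem _ 0 hlen] at hm
          · rw [List.getD_eq_default _ _ (by omega)] at hm; exact absurd hm (lt_irrefl _)
        obtain ⟨y, hy, hyr⟩ := prodK_mem hS hri Z hZF hZk (kid.getD 2 0)
        rw [← Nat.eq_of_beq_eq_true heq] at hyr
        have hym := hyr.eq (rep_el hm')
        exact L.embedded.cent_conj ⟨_, rfl⟩ ((L.el_tconj hm').2 (Nat.eq_of_beq_eq_true hcl))
          (hym ▸ hZmem hy)
      · rw [show Nat.beq (kid.getD 1 0) 0 = false from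
          Bool.eq_false_iff.2 fun e => hkind (Nat.eq_of_beq_eq_true e), cond_false, Bool.and_eq_true,
          Bool.and_eq_true, Nat.blt_eq, List.all_eq_true] at hko
        obtain ⟨⟨hcj, -⟩, hconj⟩ := hko
        set c' := kid.getD 2 0
        set w := (kid.drop 4).take (kid.getD 3 0)
        have hc' : c' < 241 := by omega
        have hgl' : ∀ m ∈ (st c').1, m < 2287 := by
          have := state_ok hc'
          simp only [stateOK, Bool.and_eq_true, List.all_eq_true, Nat.blt_eq] at this
          exact this.1.1.1.1.1.1.1.1.1.1.1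
        have key : φ (wprod o8gen w) * g * (φ (wprod o8gen w))⁻¹ ∈ φ.range := by
          refine ih c' hcj hc' _ fun m hm => ?_
          obtain ⟨n, hn, rfl⟩ := List.getElem_of_mem hm
          have h := hconj n (List.mem_range.2 (by simpa [stGens] using hn))
          obtain ⟨y, hy, hyr⟩ := prodK_mem hS hri Z hZF hZk
            (((kid.drop (4 + kid.getD 3 0))).getD n 0)
          have he : wprod o8gen w * y = el ((st c').1[n]) * wprod o8gen w := by
            refine ((rep_word w).mul hyr).eq ?_
            rw [Nat.eq_of_beq_eq_true h, stGens, List.getD_eq_getElem _ _ (by simpa using hn), List.getElem_map]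
            exact (rep_el (hgl' _ hm)).mul (rep_word w)
          rw [show el ((st c').1[n]) = wprod o8gen w * y * (wprod o8gen w)⁻¹ from eq_mul_inv_of_mul_eq he.symm,
            map_mul, map_mul, map_inv]
          set W := φ (wprod o8gen w)
          calc W * g * W⁻¹ * (W * φ y * W⁻¹) = W * (g * φ y) * W⁻¹ := by group
            _ = W * (φ y * g) * W⁻¹ := by rw [hZmem hy]
            _ = _ := by group
        obtain ⟨u, hu⟩ := key
        exact ⟨(wprod o8gen w)⁻¹ * u * wprod o8gen w, by rw [map_mul, map_mul, map_inv, hu]; group⟩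

theorem range_eq_top [Finite G] : φ.range = ⊤ := by
  refine L.embedded.eq_top (t_sq (S := S)).1 (u := φ (rw₀ 1)) ⟨_, rfl⟩
    (by rw [← map_mul, (rw_invol (by norm_num)).1, map_one])
    (fun e => (rw_invol (show 1 < 5 by norm_num)).2 (L.inj (e.trans (map_one φ).symm)))
    (L.not_tconj (by norm_num) (by norm_num)) ?_
  intro x hx hx2 hx1 g hg
  obtain ⟨x, rfl⟩ := hx
  obtain ⟨c, hc, hconj⟩ := L.invol_class (g := x) (L.inj (by rw [map_mul, map_one]; exact hx2))
    (fun e => hx1 (by rw [e, map_one]))
  obtain ⟨a, ha⟩ := isConj_iff.1 hconj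
  by_cases hc0 : c = 0
  · subst hc0
    exact L.embedded.cent_conj ⟨_, rfl⟩ (by rw [← L.map_zero]; exact φ.map_isConj hconj) hg
  · obtain ⟨d, rfl⟩ : ∃ d, c = d + 1 := ⟨c - 1, by omega⟩
    obtain ⟨hj, hgens⟩ := top_ok d (by omega)
    have key : (φ a)⁻¹ * g * φ a ∈ φ.range := by
      refine L.state _ hj _ fun i hi => ?_
      have hlt : i < 2287 := by
        have := state_ok hj
        simp only [stateOK, Bool.and_eq_true, List.all_eq_true, Nat.blt_eq] at this
        exact this.1.1.1.1.1.1.1.1.1.1.1 i hi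
      have h1 : ent i ∈ stGens (topState.getD d 241) := List.mem_map_of_mem hi
      rw [hgens, List.mem_singleton] at h1
      have e : el i = rw₀ (d + 1) := (rep_el hlt).eq (h1.symm ▸ rep_rw (d + 1))
      rw [e]
      rw [← ha, map_mul, map_mul, map_inv] at hg
      calc (φ a)⁻¹ * g * φ a * φ (rw₀ (d + 1)) = (φ a)⁻¹ * (g * (φ a * φ (rw₀ (d + 1)) * (φ a)⁻¹)) * φ a := by
            group
        _ = (φ a)⁻¹ * (φ a * φ (rw₀ (d + 1)) * (φ a)⁻¹ * g) * φ a := by rw [hg]
        _ = _ := by group
    obtain ⟨u, hu⟩ := key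
    exact ⟨a * u * a⁻¹, by rw [map_mul, map_mul, map_inv, hu]; group⟩

end Link

end Close

variable {G : Type*} [Group G]

/-- **An embedded model is the whole group.** -/
theorem Setup.embed_surjective (S : Setup G) [Finite G] {f : ℕ → G} (h : S.Amalgam f) (φ : Om →* G)
    (hinj : Function.Injective φ) (hgen : ∀ i < 8, φ (o8gen i) = f i) : Function.Surjective φ :=
  MonoidHom.range_eq_top.1 (Close.Link.range_eq_top ⟨h, hinj, hgen⟩)

end CfsgLib.Recog.OEightCent
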