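import Cfsg.Agent.Lib.Recog.OEightCent.CloseTable

/-!
The involution tables read in the model group, and an invariant separating the classes.
-/

set_option autoImplicit false
set_option maxRecDepth 100000
set_option Elab.async false

namespace CfsgLib.Recog.OEightCent.Close

open CfsgLib.StructC.OrthCohom Matrix

local notation "QF" => Cfsg.quadFormPlus 4 (ZMod 2)

/-- A representative in the model. -/
noncomputable def rw₀ (c : ℕ) : Om := wprod o8gen (repWord.getD c [])

theorem wprod_append (v w : List ℕ) : wprod o8gen (v ++ w) = wprod o8gen v * wprod o8gen w := by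
  simp [wprod]

theorem gen_sq (k : ℕ) : o8gen k * o8gen k = 1 := by
  by_cases hk : k < 8
  · exact Rep.eq ((rep_gen k).mul (rep_gen k)) (by rw [first_ok.2.2.1 k hk]; exact rep_one)
  · simp [o8gen, hk]

theorem wprod_reverse : ∀ w : List ℕ, wprod o8gen w.reverse = (wprod o8gen w)⁻¹
  | [] => by simp [wprod]
  | k :: w => by
    rw [List.reverse_cons, wprod_append, wprod_reverse w, show wprod o8gen (k :: w) = o8gen k * wprod o8gen w by
      simp [wprod], _root_.mul_inv_rev, inv_eq_of_mul_eq_one_right (gen_sq k)]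
    simp [wprod]

/-- Conjugation by a word. -/
theorem rep_conj {g : Om} {x : ℕ} (h : Rep g x) (w : List ℕ) :
    Rep (wprod o8gen w * g * (wprod o8gen w)⁻¹) (cconj w x) := by
  rw [← wprod_reverse]
  exact ((rep_word w).mul h).mul (rep_word _)

theorem rep_conj_gen {g : Om} {x : ℕ} (h : Rep g x) (k : ℕ) :
    Rep (o8gen k * g * o8gen k) (cmul (cmul (gcode k) x) (gcode k)) := ((rep_gen k).mul h).mul (rep_gen k)

theorem ent_spec : ∀ i < 2287, cls i < 5 ∧ ∃ g : Om, Rep g (ent i) ∧ IsConj (rw₀ (cls i)) g := by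
  intro i
  induction i using Nat.strong_induction_on with
  | _ i ih =>
    intro hi
    by_cases hr : i < 65
    · have h := all_range roots_ok hr
      simp only [rootOK, Bool.and_eq_true] at h
      obtain ⟨⟨h5, hc⟩, he⟩ := h
      rw [Nat.blt_eq] at h5
      have hc' := Nat.eq_of_beq_eq_true hc
      refine ⟨hc' ▸ h5, wprod o8gen (rootTab.getD i (5, [])).2 * rw₀ (cls i) * (wprod o8gen (rootTab.getD i (5, [])).2)⁻¹,
        ?_, isConj_iff.2 ⟨_, rfl⟩⟩
      rw [Nat.eq_of_beq_eq_true he, hc']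
      exact rep_conj (rep_word _) _
    · have h := all_range children_ok (i := i - 65) (by omega)
      rw [show 65 + (i - 65) = i by omega] at h
      simp only [childOK, Bool.and_eq_true] at h
      obtain ⟨⟨hp, he⟩, hc⟩ := h
      rw [Nat.blt_eq] at hp
      obtain ⟨h5, g, hg, hconj⟩ := ih _ hp (by omega)
      have hc' := Nat.eq_of_beq_eq_true hc
      refine ⟨hc' ▸ h5, _, ?_, hc' ▸ hconj.trans (isConj_iff.2 ⟨o8gen (par i % 8), rfl⟩)⟩
      rw [Nat.eq_of_beq_eq_true he, inv_eq_of_mul_eq_one_right (gen_sq _)]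
      exact rep_conj_gen hg _

/-- An entry in the model. -/
noncomputable def el (i : ℕ) : Om := if h : i < 2287 then (ent_spec i h).2.choose else 1

theorem rep_el {i : ℕ} (h : i < 2287) : Rep (el i) (ent i) := by
  rw [el, dif_pos h]; exact (ent_spec i h).2.choose_spec.1

theorem el_conj {i : ℕ} (h : i < 2287) : IsConj (rw₀ (cls i)) (el i) := by
  rw [el, dif_pos h]; exact (ent_spec i h).2.choose_spec.2

/-- The number of fixed vectors. -/
noncomputable def fixCard (g : Om) : ℕ := Nat.card {u : Fin 4 ⊕ Fin 4 → ZMod 2 // omat g.1 *ᵥ u = u}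

/-- The commutators with vectors are singular. -/
def Alt (g : Om) : Prop := ∀ u, QF (omat g.1 *ᵥ u + u) = 0

theorem omat_mul (g h : Om) : omat (g * h).1 = omat g.1 * omat h.1 := rfl

theorem omat_one : omat (1 : Om).1 = 1 := mat_one _

theorem fixCard_conj (c g : Om) : fixCard (c * g * c⁻¹) = fixCard g := by
  have cancel : ∀ (a b : Om) (u : Fin 4 ⊕ Fin 4 → ZMod 2), a * b = 1 → omat a.1 *ᵥ (omat b.1 *ᵥ u) = u :=
    fun a b u e => by rw [mulVec_mulVec, ← omat_mul, e, omat_one, one_mulVec]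
  exact (Nat.card_congr
    { toFun := fun u => ⟨omat c.1 *ᵥ u.1, by
        rw [mulVec_mulVec, ← omat_mul, show c * g * c⁻¹ * c = c * g by group, omat_mul, ← mulVec_mulVec, u.2]⟩
      invFun := fun u => ⟨omat (c⁻¹ : Om).1 *ᵥ u.1, by
        rw [mulVec_mulVec, ← omat_mul, show g * c⁻¹ = c⁻¹ * (c * g * c⁻¹) by group, omat_mul, ← mulVec_mulVec,
          u.2]⟩
      left_inv := fun u => Subtype.ext (cancel c⁻¹ c u.1 (inv_mul_cancel c))
      right_inv := fun u => Subtype.ext (cancel c c⁻¹ u.1 (mul_inv_cancel c)) }).symm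

theorem alt_conj {c g : Om} (h : Alt g) : Alt (c * g * c⁻¹) := by
  intro u
  have e : omat (c * g * c⁻¹).1 *ᵥ u + u =
      omat c.1 *ᵥ (omat g.1 *ᵥ (omat (c⁻¹ : Om).1 *ᵥ u) + omat (c⁻¹ : Om).1 *ᵥ u) := by
    rw [mulVec_add, mulVec_mulVec _ (omat c.1) (omat (c⁻¹ : Om).1), ← omat_mul, mul_inv_cancel, omat_one,
      one_mulVec, omat_mul, omat_mul, ← mulVec_mulVec, ← mulVec_mulVec]
  rw [e, mat_preserves (Cfsg.quadFormPlus 4 (ZMod 2)) c.1]
  exact h _

theorem inv_of_conj {g h : Om} (e : IsConj g h) : fixCard g = fixCard h ∧ (Alt g ↔ Alt h) := by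
  obtain ⟨c, rfl⟩ := isConj_iff.1 e
  refine ⟨(fixCard_conj c g).symm, alt_conj, fun h => ?_⟩
  have := alt_conj (c := c⁻¹) h
  rwa [show c⁻¹ * (c * g * c⁻¹) * c⁻¹⁻¹ = g by group] at this

theorem fixCard_rep {g : Om} {x : ℕ} (h : Rep g x) :
    fixCard g = ((List.range 256).filter fun v => Nat.beq (ap x v) v).length := by
  classical
  have e : (List.range 256).filter (fun v => Nat.beq (ap x v) v) =
      (List.range 256).filter (fun v => decide (ap x v = v)) :=
    List.filter_congr fun v _ => by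
      by_cases hv : ap x v = v
      · simp [hv]
      · simp [hv, Bool.eq_false_iff]
  rw [e, ← List.toFinset_card_of_nodup (List.nodup_range.filter _), fixCard, ← Nat.card_eq_finsetCard]
  have mem : ∀ {v : ℕ}, v ∈ ((List.range 256).filter fun v => decide (ap x v = v)).toFinset ↔
      v < 256 ∧ ap x v = v := fun {v} => by simp
  refine (Nat.card_congr (Equiv.ofBijective (fun v => ⟨dec eEight v.1, by
    obtain ⟨h1, h2⟩ := mem.1 v.2
    rw [h.app h1, h2]⟩) ⟨?_, ?_⟩)).symm
  · intro v w e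
    have hv := v.2; have hw := w.2
    simp only [List.mem_toFinset, List.mem_filter, List.mem_range] at hv hw
    have := mod_eq_of_dec_eq eEight (congrArg Subtype.val e)
    rw [Nat.mod_eq_of_lt (by simpa using hv.1), Nat.mod_eq_of_lt (by simpa using hw.1)] at this
    exact Subtype.ext this
  · rintro ⟨u, hu⟩
    obtain ⟨v, hv, rfl⟩ := exists_dec eEight u
    refine ⟨⟨v, ?_⟩, rfl⟩
    have hv' : v < 256 := hv
    rw [h.app hv'] at hu
    have := mod_eq_of_dec_eq eEight hu
    rw [Nat.mod_eq_of_lt hv, Nat.mod_eq_of_lt (show ap x v < 2 ^ 8 from ap_lt x v)] at this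
    exact mem.2 ⟨hv', this⟩

theorem alt_rep {g : Om} {x : ℕ} (h : Rep g x) : Alt g ↔ ∀ v < 256, QF (dec eEight (ap x v ^^^ v)) = 0 := by
  constructor
  · intro hA v hv
    rw [dec_xor, ← h.app hv]; exact hA _
  · intro hA u
    obtain ⟨v, hv, rfl⟩ := exists_dec eEight u
    rw [h.app hv, ← dec_xor]; exact hA v hv

theorem rep_rw (c : ℕ) : Rep (rw₀ c) (rep c) := rep_word _

theorem inv_vals : ∀ c < 5, ((List.range 256).filter fun v => Nat.beq (ap (rep c) v) v).length =
      [64, 16, 16, 64, 16].getD c 0 ∧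
    ((∀ v < 256, QF (dec eEight (ap (rep c) v ^^^ v)) = 0) ↔ c < 3) := by
  decide +kernel

/-- Conjugate representatives have the same tag. -/
theorem tag_eq_of_conj {c d : ℕ} (hc : c < 5) (hd : d < 5) (e : IsConj (rw₀ c) (rw₀ d)) : tag c = tag d := by
  obtain ⟨h1, h2⟩ := inv_of_conj e
  rw [fixCard_rep (rep_rw c), fixCard_rep (rep_rw d)] at h1
  rw [alt_rep (rep_rw c), alt_rep (rep_rw d)] at h2
  have h1' := ((inv_vals c hc).1.symm.trans h1).trans (inv_vals d hd).1
  have h2' := ((inv_vals c hc).2.symm.trans h2).trans (inv_vals d hd).2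
  interval_cases c <;> interval_cases d <;> simp_all [tag]

theorem tag_eq_zero {c : ℕ} (h : tag c = tag 0) : c = 0 := by
  by_cases h2 : c = 2
  · subst h2; exact absurd h (by decide)
  · have hb : Nat.beq c 2 = false := Bool.eq_false_iff.2 fun e => h2 (Nat.eq_of_beq_eq_true e)
    rw [tag, hb] at h
    exact h

theorem rw_zero : rw₀ 0 = wprod o8gen zWord :=
  ((rep_word _).eq_iff (rep_word zWord)).2 first_ok.2.2.2

theorem rep_sq : ∀ c < 5, cmul (rep c) (rep c) = one ∧ rep c ≠ one := by decide +kernel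

theorem rw_invol {c : ℕ} (hc : c < 5) : rw₀ c * rw₀ c = 1 ∧ rw₀ c ≠ 1 := by
  refine ⟨((rep_rw c).mul (rep_rw c)).eq (by rw [(rep_sq c hc).1]; exact rep_one), fun e => (rep_sq c hc).2 ?_⟩
  have h := rep_rw c
  rw [e] at h
  exact h.inj rep_one

theorem el_invol {i : ℕ} (h : i < 2287) : el i * el i = 1 ∧ el i ≠ 1 := by
  obtain ⟨c, hc⟩ := isConj_iff.1 (el_conj h)
  obtain ⟨h2, h1⟩ := rw_invol (ent_spec i h).1
  rw [← hc]
  refine ⟨?_, fun e => h1 (conj_eq_one_iff.1 e)⟩
  calc c * rw₀ (cls i) * c⁻¹ * (c * rw₀ (cls i) * c⁻¹) = c * (rw₀ (cls i) * rw₀ (cls i)) * c⁻¹ := by group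
    _ = 1 := by rw [h2]; group

end CfsgLib.Recog.OEightCent.Close
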