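/-!
Words of the amalgam for `Ω⁺₈(2)`. Letters 0, 1, 2: raising involutions of the three factors; 3, 4, 5: lowering
ones; 6: the lift of the highest pure tensor; 7: the involution exchanging `t` and letter 6.
-/

set_option autoImplicit false

namespace CfsgLib.Recog.OEightCent

/-- The central involution. -/
def zWord : List Nat := [6, 3, 4, 5, 6, 5, 4, 3, 6, 3, 4, 5, 6, 5, 4, 3]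

/-- Relators of the centraliser. -/
def relsC : List (List Nat) := [
  [0, 0],
  [1, 1],
  [2, 2],
  [3, 3],
  [4, 4],
  [5, 5],
  [6, 6],
  [0, 3, 0, 3, 0, 3],
  [0, 1, 0, 1],
  [0, 2, 0, 2],
  [0, 4, 0, 4],
  [3, 4, 3, 4],
  [0, 5, 0, 5],
  [3, 5, 3, 5],
  [1, 4, 1, 4, 1, 4],
  [1, 2, 1, 2],
  [1, 3, 1, 3],
  [1, 5, 1, 5],
  [4, 5, 4, 5],
  [2, 5, 2, 5, 2, 5],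
  [2, 3, 2, 3],
  [2, 4, 2, 4],
  [0, 6, 0, 6],
  [1, 6, 1, 6],
  [2, 6, 2, 6],
  [6, 3, 6, 3, 6, 3, 6, 3],
  [6, 4, 6, 4, 6, 4, 6, 4],
  [6, 3, 4, 6, 4, 3, 6, 3, 4, 6, 4, 3],
  [6, 5, 6, 5, 6, 5, 6, 5],
  [6, 3, 5, 6, 5, 3, 6, 3, 5, 6, 5, 3],
  [6, 4, 5, 6, 5, 4, 6, 4, 5, 6, 5, 4],
  [3, 6, 3, 4, 6, 4, 3, 6, 3, 4, 6, 4],
  [3, 6, 4, 6, 4, 6, 4, 6, 4, 3],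
  [3, 6, 3, 5, 6, 5, 3, 6, 3, 5, 6, 5],
  [3, 6, 5, 6, 5, 6, 5, 6, 5, 3],
  [3, 6, 3, 4, 5, 6, 5, 4, 3, 6, 3, 4, 5, 6, 5, 4, 3, 4, 5, 6, 5, 4, 3, 6, 3, 4, 5, 6, 5, 4, 3, 6],
  [3, 6, 4, 5, 6, 5, 4, 6, 4, 5, 6, 5, 4, 3],
  [4, 6, 4, 3, 4, 6, 4, 3, 4, 6, 4, 3, 4, 6, 4, 3],
  [4, 6, 4, 5, 6, 5, 4, 6, 4, 5, 6, 5],
  [4, 6, 4, 3, 5, 6, 5, 3, 4, 6, 4, 3, 5, 6, 5, 4, 5, 6, 5, 4, 3, 6, 3, 4, 5, 6, 5, 4, 3, 6],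
  [4, 6, 5, 6, 5, 6, 5, 6, 5, 4],
  [4, 6, 4, 3, 4, 5, 6, 5, 4, 3, 4, 6, 4, 3, 4, 5, 6, 5, 4, 3],
  [3, 4, 6, 4, 3, 5, 6, 5, 3, 4, 6, 4, 3, 5, 6, 5, 3, 4, 5, 6, 5, 4, 3, 6, 3, 4, 5, 6, 5, 4, 3, 6],
  [3, 4, 6, 4, 5, 6, 5, 4, 6, 4, 5, 6, 5, 3],
  [3, 4, 6, 4, 3, 4, 5, 6, 5, 4, 3, 4, 6, 4, 3, 4, 5, 6, 5, 4],
  [3, 4, 6, 5, 6, 5, 6, 5, 6, 5, 4, 3],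
  [5, 6, 5, 3, 5, 6, 5, 3, 5, 6, 5, 3, 5, 6, 5, 3],
  [5, 6, 5, 4, 5, 6, 5, 4, 5, 6, 5, 4, 5, 6, 5, 4],
  [5, 6, 5, 3, 4, 5, 6, 5, 4, 3, 5, 6, 5, 3, 4, 5, 6, 5, 4, 3],
  [3, 5, 6, 5, 3, 4, 5, 6, 5, 4, 3, 5, 6, 5, 3, 4, 5, 6, 5, 4],
  [3, 5, 6, 5, 4, 5, 6, 5, 4, 5, 6, 5, 4, 5, 6, 5, 4, 3],
  [4, 5, 6, 5, 4, 3, 4, 5, 6, 5, 4, 3, 4, 5, 6, 5, 4, 3, 4, 5, 6, 5, 4, 3],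
  [0, 6, 3, 4, 5, 6, 5, 4, 3, 6, 3, 4, 5, 6, 5, 4, 3, 0, 3, 4, 5, 6, 5, 4, 3, 6, 3, 4, 5, 6, 5, 4, 3, 6],
  [0, 3, 6, 3, 0, 3, 6, 3, 6],
  [0, 4, 6, 4, 0, 4, 6, 4],
  [0, 3, 4, 6, 4, 3, 0, 3, 4, 6, 4, 3, 4, 6, 4],
  [0, 5, 6, 5, 0, 5, 6, 5],
  [0, 3, 5, 6, 5, 3, 0, 3, 5, 6, 5, 3, 5, 6, 5],
  [0, 4, 5, 6, 5, 4, 0, 4, 5, 6, 5, 4],
  [0, 3, 4, 5, 6, 5, 4, 3, 0, 3, 4, 5, 6, 5, 4, 3, 4, 5, 6, 5, 4],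
  [1, 6, 3, 4, 5, 6, 5, 4, 3, 6, 3, 4, 5, 6, 5, 4, 3, 1, 3, 4, 5, 6, 5, 4, 3, 6, 3, 4, 5, 6, 5, 4, 3, 6],
  [1, 3, 6, 3, 1, 3, 6, 3],
  [1, 4, 6, 4, 1, 4, 6, 4, 6],
  [1, 3, 4, 6, 4, 3, 1, 3, 4, 6, 4, 6, 3],
  [1, 5, 6, 5, 1, 5, 6, 5],
  [1, 3, 5, 6, 5, 3, 1, 3, 5, 6, 5, 3],
  [1, 4, 5, 6, 5, 4, 1, 4, 5, 6, 5, 4, 5, 6, 5],
  [1, 3, 4, 5, 6, 5, 4, 3, 1, 3, 4, 5, 6, 5, 4, 5, 6, 5, 3],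
  [2, 6, 3, 4, 5, 6, 5, 4, 3, 6, 3, 4, 5, 6, 5, 4, 3, 2, 3, 4, 5, 6, 5, 4, 3, 6, 3, 4, 5, 6, 5, 4, 3, 6],
  [2, 3, 6, 3, 2, 3, 6, 3],
  [2, 4, 6, 4, 2, 4, 6, 4],
  [2, 3, 4, 6, 4, 3, 2, 3, 4, 6, 4, 3],
  [2, 5, 6, 5, 2, 5, 6, 5, 6],
  [2, 3, 5, 6, 5, 3, 2, 3, 5, 6, 5, 6, 3],
  [2, 4, 5, 6, 5, 4, 2, 4, 5, 6, 5, 6, 4],
  [2, 3, 4, 5, 6, 5, 4, 3, 2, 3, 4, 5, 6, 5, 6, 4, 3],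
  [4, 6, 3, 4, 5, 6, 5, 4, 3, 6, 3, 4, 5, 6, 5, 4, 3, 4, 3, 4, 5, 6, 5, 4, 3, 6, 3, 4, 5, 6, 5, 4, 3, 6],
  [4, 3, 6, 3, 4, 3, 4, 6, 4, 3],
  [4, 3, 4, 6, 4, 3, 4, 3, 6, 3],
  [4, 3, 5, 6, 5, 3, 4, 3, 4, 5, 6, 5, 4, 3],
  [4, 3, 4, 5, 6, 5, 4, 3, 4, 3, 5, 6, 5, 3],
  [5, 6, 3, 4, 5, 6, 5, 4, 3, 6, 3, 4, 5, 6, 5, 4, 3, 5, 3, 4, 5, 6, 5, 4, 3, 6, 3, 4, 5, 6, 5, 4, 3, 6],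
  [5, 3, 6, 3, 5, 3, 5, 6, 5, 3],
  [5, 4, 6, 4, 5, 4, 5, 6, 5, 4],
  [5, 3, 4, 6, 4, 3, 5, 3, 4, 5, 6, 5, 4, 3],
  [5, 3, 5, 6, 5, 3, 5, 3, 6, 3],
  [5, 4, 5, 6, 5, 4, 5, 4, 6, 4],
  [5, 3, 4, 5, 6, 5, 4, 3, 5, 3, 4, 6, 4, 3],
  [3, 4, 5, 6, 5, 4, 3, 6, 3, 4, 5, 6, 5, 4, 3, 6, 3, 4, 5, 6, 5, 4, 3, 6, 3, 4, 5, 6, 5, 4, 3, 6]]

/-- Generators of the centraliser of `t` and letter 6. -/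
def gensV : List (List Nat) := [
  [0],
  [1],
  [2],
  [6],
  [4, 6, 4],
  [5, 6, 5],
  [3, 6, 3],
  [3, 4, 6, 3, 4],
  [3, 5, 6, 3, 5],
  [4, 5, 6, 4, 5]]

/-- Relators of the exchanging involution. -/
def relsS : List (List Nat) := [
  [7, 7],
  [7, 0, 7, 1, 4, 6, 5, 6, 5, 4, 1],
  [7, 1, 7, 0, 3, 6, 5, 6, 5, 3, 0],
  [7, 2, 7, 0, 3, 6, 4, 6, 4, 3, 0],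
  [7, 6, 7, 6, 5, 4, 3, 6, 5, 4, 3, 6, 5, 4, 3, 6, 5, 4, 3],
  [7, 4, 6, 4, 7, 6, 5, 3, 6, 5, 4, 3, 6, 5, 4, 3, 6, 5, 3],
  [7, 5, 6, 5, 7, 6, 4, 3, 6, 5, 4, 3, 6, 5, 4, 3, 6, 4, 3],
  [7, 3, 6, 3, 7, 6, 5, 4, 6, 5, 4, 3, 6, 5, 4, 3, 6, 5, 4],
  [7, 3, 4, 6, 3, 4, 7, 5, 3, 6, 5, 4, 3, 6, 2, 5, 4, 3, 6, 5, 3],
  [7, 3, 5, 6, 3, 5, 7, 4, 3, 6, 5, 4, 3, 6, 5, 1, 4, 3, 6, 4, 3],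
  [7, 4, 5, 6, 4, 5, 7, 4, 3, 6, 5, 4, 3, 6, 5, 4, 0, 3, 6, 4, 3]]

/-- The fixed central elements of the three rank two residues. -/
def uWords : List (List Nat) := [
  [4, 5, 6, 3, 4, 5, 6, 3, 4, 5, 6, 4, 5],
  [3, 5, 6, 3, 4, 5, 6, 3, 4, 5, 6, 3, 5],
  [3, 4, 6, 3, 4, 5, 6, 3, 4, 5, 6, 3, 4]]

/-- The model generators: images of `e₁, …, e₄, f₁, …, f₄` as bit masks (bits 0-3 for `e`, 4-7 for `f`;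
the form is the sum of the four products `eᵢfᵢ`). -/
def modelCols : List (List Nat) := [[1, 3, 4, 8, 48, 32, 64, 128], [1, 2, 4, 12, 16, 32, 192, 128], [1, 2, 4, 8, 16, 32, 72, 132], [3, 2, 4, 8, 16, 48, 64, 128], [1, 2, 12, 8, 16, 32, 64, 192], [1, 2, 132, 72, 16, 32, 64, 128], [1, 2, 4, 8, 20, 32, 65, 128], [1, 4, 2, 8, 16, 64, 32, 128]]

end CfsgLib.Recog.OEightCent
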