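import Cfsg.Agent.Lib.Recog.OEightCent.CloseCheck
import Cfsg.Agent.Lib.Recog.OEightCent.Data

/-!
Checks of the tables of involutions, of the radical and of the Levi part.
-/

set_option autoImplicit false
set_option maxRecDepth 100000
set_option Elab.async false

namespace CfsgLib.Recog.OEightCent.Close

/-- Code of a representative. -/
noncomputable def rep (c : ℕ) : ℕ := cword (repWord.getD c [])

/-- Code of a conjugate by a word. -/
def cconj (w : List ℕ) (x : ℕ) : ℕ := cmul (cmul (cword w) x) (cword w.reverse)

/-- Parent and letter, packed. -/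
noncomputable def par (i : ℕ) : ℕ := get2 parTab 48 i 0

/-- Image under a letter. -/
noncomputable def img (i k : ℕ) : ℕ := (get2 imgTab 48 i []).getD k 2287

/-- An element of the radical. -/
noncomputable def qT (q : ℕ) : ℕ := get2 qTab 32 q 0

/-- An element of the Levi part. -/
noncomputable def lT (l : ℕ) : ℕ := get2 leviTab 16 l 0

/-- Conjugate in the radical. -/
noncomputable def qC (q k : ℕ) : ℕ := (get2 qConj 32 q []).getD k 512

/-- Left product with letter six. -/
noncomputable def qM (q : ℕ) : ℕ := get2 qMul 32 q 512

/-- Left product in the Levi part. -/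
noncomputable def lM (l k : ℕ) : ℕ := (get2 leviMul 16 l []).getD k 216

/-- Test of a root. -/
noncomputable def rootOK (i : ℕ) : Bool :=
  let p := rootTab.getD i (5, [])
  Nat.blt p.1 5 && Nat.beq (cls i) p.1 && Nat.beq (ent i) (cconj p.2 (rep p.1))

/-- Test of a child. -/
noncomputable def childOK (i : ℕ) : Bool :=
  let p := par i / 8
  let k := par i % 8
  Nat.blt p i && Nat.beq (ent i) (cmul (cmul (gcode k) (ent p)) (gcode k)) && Nat.beq (cls i) (cls p)

/-- Test of the images. -/
noncomputable def imgOK (i : ℕ) : Bool :=
  Nat.blt (i / 48) invTab.length && Nat.blt (i % 48) (invTab.getD (i / 48) []).length &&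
    (List.range 6).all fun k => Nat.blt (img i k) 2287 &&
      Nat.beq (ent (img i k)) (cmul (cmul (gcode k) (ent i)) (gcode k))

/-- Test of an element of the radical. -/
noncomputable def qOK (q : ℕ) : Bool :=
  Nat.blt (qM q) 512 && Nat.beq (qT (qM q)) (cmul (gcode 6) (qT q)) &&
    (List.range 6).all fun k => Nat.blt (qC q k) 512 &&
      Nat.beq (qT (qC q k)) (cmul (cmul (gcode k) (qT q)) (gcode k))

/-- Test of an element of the Levi part. -/
noncomputable def lOK (l : ℕ) : Bool :=
  ((List.range 6).all fun k => Nat.blt (lM l k) 216 && Nat.beq (lT (lM l k)) (cmul (gcode k) (lT l))) &&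
    let p := leviCert.getD l (8, [])
    bif Nat.blt p.1 8 then
      (p.2.all fun k => Nat.blt k 6) && Nat.beq (lT l) (cconj p.2 (lT (leviReps.getD p.1 0)))
    else !(qTab.any fun row => row.any fun y => Nat.beq y (cmul (lT l) (lT l)))

/-- Test of a product with a representative. -/
noncomputable def pairOK (r q : ℕ) : Bool :=
  let x := cmul (qT q) (lT (leviReps.getD r 0))
  let j := get2 (pairTab.getD r []) 32 q 2287
  bif Nat.blt j 2287 then Nat.beq (ent j) x else Nat.beq x one || !(Nat.beq (cmul x x) one)

theorem roots_ok : ((List.range 65).all rootOK) = true := by decide +kernel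

theorem children_ok : ((List.range 2222).all fun i => childOK (65 + i)) = true := by decide +kernel

theorem imgs_ok : ((List.range 2287).all imgOK) = true := by decide +kernel

theorem qs_ok : ((List.range 512).all qOK) = true := by decide +kernel

theorem ls_ok : ((List.range 216).all lOK) = true := by decide +kernel

theorem pairs_ok : ((List.range 8).all fun r => (List.range 512).all fun q => pairOK r q) = true := by
  decide +kernel

theorem first_ok : qT 0 = one ∧ lT 0 = one ∧ (∀ k < 8, cmul (gcode k) (gcode k) = one) ∧
    rep 0 = cword zWord := by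
  decide +kernel

/-- Conjugators whose product is a radical involution of the fourth class. -/
def q4Conj : List (List ℕ) := [[], [1, 4, 3], [5, 1, 4]]

theorem five_ok : ∀ c < 3,
    cmul (cword (fiveWord.getD c [])) (rep (c + 1)) = cmul (rep (c + 1)) (cword (fiveWord.getD c [])) ∧
      cword (fiveWord.getD c [] ++ fiveWord.getD c [] ++ fiveWord.getD c [] ++ fiveWord.getD c [] ++
        fiveWord.getD c []) = one ∧
      cword (fiveWord.getD c []) ≠ one := by
  decide +kernel

theorem q4_ok : ent q4.1 = cword (q4Conj.flatMap fun w => w ++ 6 :: w.reverse) ∧ cls q4.1 = 4 ∧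
    q4.1 < 2287 ∧ ∀ w ∈ q4Conj, ∀ k ∈ w, k < 6 := by
  decide +kernel

/-- Words of the representatives in the Levi part. -/
def leviWord : List (List ℕ) := [[], [0], [1], [2], [1, 0], [2, 0], [2, 1], [2, 1, 0]]

theorem leviWord_ok : ∀ r < 8,
    lT (leviReps.getD r 0) = cword (leviWord.getD r []) ∧ ∀ k ∈ leviWord.getD r [], k < 6 := by
  decide +kernel

theorem top_ok : ∀ c < 4, topState.getD c 241 < 241 ∧ stGens (topState.getD c 241) = [rep (c + 1)] := by
  decide +kernel

/-- Test that the generators of a state commute. -/
noncomputable def gensOK (j : ℕ) : Bool := (stGens j).all fun a => (stGens j).all fun b => comm a b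

theorem gens_ok : ((List.range 241).all gensOK) = true := by decide +kernel

theorem all_range {p : ℕ → Bool} {n : ℕ} (h : ((List.range n).all p) = true) {i : ℕ} (hi : i < n) : p i = true :=
  List.all_eq_true.1 h i (List.mem_range.2 hi)

end CfsgLib.Recog.OEightCent.Close
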