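import Cfsg.Agent.Lib.Recog.OEightCent.Model
import Cfsg.Agent.Lib.Recog.OEightCent.CertLevi
import Cfsg.Agent.Lib.Recog.OEightCent.CertCent
import Cfsg.Agent.Lib.Recog.OEightCent.CertTop
import Cfsg.Agent.Lib.Recog.OEightCent.CertCol1
import Cfsg.Agent.Lib.Recog.OEightCent.CertCol2
import Cfsg.Agent.Lib.Recog.OEightCent.CertCol3
import Cfsg.Agent.Lib.Recog.OEightCent.CertCol4
import Cfsg.Agent.Lib.Recog.OEightCent.CertCol5
import Cfsg.Agent.Lib.Recog.OEightCent.CertCol6
import Cfsg.Agent.Lib.Recog.OEightCent.CertCol7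
import Cfsg.Agent.Lib.InvChar.CosetGroup
import Cfsg.Agent.Lib.Classical.OrthOmega

/-!
Completion of the amalgam: eight involutions satisfying the relators give an embedding of `Ω⁺₈(2)`.
-/

set_option autoImplicit false
set_option maxRecDepth 100000

namespace CfsgLib.Recog.OEightCent

open CfsgLib.InvChar.Coset (Covered Cert Table Tr lettersClosure subGen card_lettersClosure_nil)

/-- A braid relator with its sign. -/
def braidW (i : ℕ) (b : Bool) : List ℕ :=
  [7, i, i + 3, i, 7, i, i + 3, i, 7, i, i + 3, i] ++ (if b then (uWords.getD i []).reverse else [])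

/-- The relators with given signs. -/
def relsOf (b : ℕ) : List (List ℕ) :=
  relsC ++ relsS ++ (List.range 3).map (fun i => braidW i (b.testBit i)) ++ [[]]

theorem letters_ok : (∀ r ∈ relsC, ∀ x ∈ r, x < 7) ∧ (∀ r ∈ relsS, ∀ x ∈ r, x < 8) ∧ (∀ x ∈ zWord, x < 7) ∧
    (∀ b < 8, ∀ r ∈ relsOf b, ∀ x ∈ r, x < 8) ∧ ∀ x < 8, [x, x] ∈ relsC ++ relsS := by
  decide +kernel

theorem levi_ok : CertLevi.subs = [] ∧ ∀ r ∈ CertLevi.rels, r ∈ relsOf 0 ∧ ∀ x ∈ r, x < 6 := by decide +kernel

theorem cent_ok : CertCent.subs = (List.range 6).map (fun x => [x]) ∧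
    ∀ r ∈ CertCent.rels, r ∈ relsOf 0 ∧ ∀ x ∈ r, x < 7 := by decide +kernel

theorem top_ok : CertTop.subs = (List.range 7).map (fun x => [x]) ∧
    ∀ r ∈ CertTop.rels, r ∈ relsOf 0 := by decide +kernel

theorem col_ok : (CertCol1.subs = CertTop.subs ∧ ∀ r ∈ CertCol1.rels, r ∈ relsOf 1) ∧
    (CertCol2.subs = CertTop.subs ∧ ∀ r ∈ CertCol2.rels, r ∈ relsOf 2) ∧
    (CertCol3.subs = CertTop.subs ∧ ∀ r ∈ CertCol3.rels, r ∈ relsOf 3) ∧
    (CertCol4.subs = CertTop.subs ∧ ∀ r ∈ CertCol4.rels, r ∈ relsOf 4) ∧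
    (CertCol5.subs = CertTop.subs ∧ ∀ r ∈ CertCol5.rels, r ∈ relsOf 5) ∧
    (CertCol6.subs = CertTop.subs ∧ ∀ r ∈ CertCol6.rels, r ∈ relsOf 6) ∧
    (CertCol7.subs = CertTop.subs ∧ ∀ r ∈ CertCol7.rels, r ∈ relsOf 7) := by decide +kernel

variable {K : Type*} [Group K]

/-- One step of the chain. -/
theorem step {D : Cert} {T : Table} {live fin : Tr} (hC : Covered D T live fin)
    (s : ℕ → K) (hs : ∀ x, s x * s x = 1) (n m : ℕ) (hmn : m ≤ n) (hn : T.g = n)
    (hR : ∀ r ∈ D.rels, wprod s r = 1 ∧ ∀ x ∈ r, x < n)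
    (hS : D.subs = (List.range m).map fun x => [x]) {N : ℕ}
    (hfin : Finite (lettersClosure s (List.range m)))
    (hN : Nat.card (lettersClosure s (List.range m)) ≤ N) :
    Finite (lettersClosure s (List.range n)) ∧ Nat.card (lettersClosure s (List.range n)) ≤ T.n * N := by
  have hmap : ∀ r : List ℕ, (∀ x ∈ r, x < n) →
      r.map (fun x => (List.range n).getD x 0) = r := fun r hr =>
    (List.map_congr_left fun x hx => by
      rw [List.getD_eq_getElem _ _ (by simpa using hr x hx), List.getElem_range]; rfl).trans (List.map_id r)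
  refine hC.chain_step s hs (List.range n) (List.range m) (by simpa using hn) (fun r hr => ?_)
    (fun x hx => List.mem_range.2 ((List.mem_range.1 hx).trans_le hmn)) (fun r hr => ?_) hfin hN
  · rw [CfsgLib.InvChar.Coset.wprod_subGen s _ r (by simpa using (hR r hr).2), hmap r (hR r hr).2]
    exact (hR r hr).1
  · rw [hS] at hr
    obtain ⟨x, hx, rfl⟩ := List.mem_map.1 hr
    have hxn : x < n := (List.mem_range.1 hx).trans_le hmn
    refine ⟨?_, by simpa using hxn⟩
    rw [hmap [x] (by simpa using hxn)]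
    exact List.mem_map.2 ⟨x, hx, rfl⟩

theorem mem_letters (s : ℕ → K) {x n : ℕ} (hx : x < n) : s x ∈ lettersClosure s (List.range n) :=
  Subgroup.subset_closure ⟨x, by simpa using hx, by simp [subGen, hx]⟩

/-- The bound without signs. -/
theorem card_le (s : ℕ → K) (hs : ∀ x, s x * s x = 1) (hR : ∀ r ∈ relsOf 0, wprod s r = 1) :
    Finite (lettersClosure s (List.range 8)) ∧ Nat.card (lettersClosure s (List.range 8)) ≤ 174182400 := by
  obtain ⟨f0, c0⟩ := card_lettersClosure_nil s
  obtain ⟨f6, c6⟩ := step CertLevi.covered s hs 6 0 (by norm_num) rfl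
    (fun r hr => ⟨hR r (levi_ok.2 r hr).1, (levi_ok.2 r hr).2⟩) (levi_ok.1.trans rfl) f0 c0
  obtain ⟨f7, c7⟩ := step CertCent.covered s hs 7 6 (by norm_num) rfl
    (fun r hr => ⟨hR r (cent_ok.2 r hr).1, (cent_ok.2 r hr).2⟩) cent_ok.1 f6 c6
  obtain ⟨f8, c8⟩ := step CertTop.covered s hs 8 7 (by norm_num) rfl
    (fun r hr => ⟨hR r (top_ok.2 r hr), letters_ok.2.2.2.1 0 (by norm_num) r (top_ok.2 r hr)⟩) top_ok.1 f7 c7
  refine ⟨f8, c8.trans ?_⟩
  show 1575 * (512 * (216 * 1)) ≤ 174182400
  norm_num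

/-- The other signs collapse. -/
theorem collapse (s : ℕ → K) (hs : ∀ x, s x * s x = 1) {b : ℕ} (hb0 : 1 ≤ b) (hb8 : b < 8)
    (hR : ∀ r ∈ relsOf b, wprod s r = 1) (hfin : Finite (lettersClosure s (List.range 7))) :
    s 7 ∈ lettersClosure s (List.range 7) := by
  have hle : lettersClosure s (List.range 7) ≤ lettersClosure s (List.range 8) := by
    refine (Subgroup.closure_le _).2 ?_
    rintro _ ⟨i, hi, rfl⟩
    have hi' : i < 7 := by simpa using hi
    have := mem_letters s (show i < 8 by omega)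
    simpa [subGen, hi'] using this
  suffices h : Finite (lettersClosure s (List.range 8)) ∧
      Nat.card (lettersClosure s (List.range 8)) ≤ 1 * Nat.card (lettersClosure s (List.range 7)) by
    have := h.1
    rw [Subgroup.eq_of_le_of_card_ge hle (by simpa using h.2)]
    exact mem_letters s (by norm_num)
  have hlt : ∀ r ∈ relsOf b, wprod s r = 1 ∧ ∀ x ∈ r, x < 8 := fun r hr => ⟨hR r hr, letters_ok.2.2.2.1 b hb8 r hr⟩
  obtain ⟨⟨s1, r1⟩, ⟨s2, r2⟩, ⟨s3, r3⟩, ⟨s4, r4⟩, ⟨s5, r5⟩, ⟨s6, r6⟩, ⟨s7, r7⟩⟩ := col_ok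
  interval_cases b
  · exact step CertCol1.covered s hs 8 7 (by norm_num) rfl (fun r hr => hlt r (r1 r hr)) (s1.trans top_ok.1) hfin le_rfl
  · exact step CertCol2.covered s hs 8 7 (by norm_num) rfl (fun r hr => hlt r (r2 r hr)) (s2.trans top_ok.1) hfin le_rfl
  · exact step CertCol3.covered s hs 8 7 (by norm_num) rfl (fun r hr => hlt r (r3 r hr)) (s3.trans top_ok.1) hfin le_rfl
  · exact step CertCol4.covered s hs 8 7 (by norm_num) rfl (fun r hr => hlt r (r4 r hr)) (s4.trans top_ok.1) hfin le_rfl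
  · exact step CertCol5.covered s hs 8 7 (by norm_num) rfl (fun r hr => hlt r (r5 r hr)) (s5.trans top_ok.1) hfin le_rfl
  · exact step CertCol6.covered s hs 8 7 (by norm_num) rfl (fun r hr => hlt r (r6 r hr)) (s6.trans top_ok.1) hfin le_rfl
  · exact step CertCol7.covered s hs 8 7 (by norm_num) rfl (fun r hr => hlt r (r7 r hr)) (s7.trans top_ok.1) hfin le_rfl

theorem simple_Om : IsSimpleGroup Om := by
  have : Fact (Nat.Prime 2) := ⟨Nat.prime_two⟩
  have hs := CfsgLib.Classical.isSimpleGroup_pOmega (CfsgLib.Classical.qfPlus 4 (ZMod 2))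
    (CfsgLib.Classical.qfPlus_sep 4) (by simp)
  rw [CfsgLib.Classical.qfPlus_coe] at hs
  have hc : Subgroup.center Om = ⊥ := by
    refine Subgroup.card_eq_one.1 ?_
    have h := CfsgLib.Classical.card_center_omega_one (CfsgLib.Classical.qfPlus 4 (ZMod 2))
      (CfsgLib.Classical.qfPlus_sep 4) (by simp) (Or.inl (show (2 : ZMod 2) = 0 from rfl))
    rwa [CfsgLib.Classical.qfPlus_coe] at h
  exact (QuotientGroup.quotientBot.symm.trans (QuotientGroup.quotientMulEquivOfEq hc.symm)).isSimpleGroup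

variable {G : Type*} [Group G] (S : Setup G)

/-- **The embedding.** -/
theorem Setup.embed [Finite G] {f : ℕ → G} (h : S.Amalgam f) :
    ∃ φ : Om →* G, Function.Injective φ ∧ ∀ i < 8, φ (o8gen i) = f i := by
  classical
  let g : ℕ → G := fun x => if x < 8 then f x else 1
  have hgf : ∀ r : List ℕ, (∀ x ∈ r, x < 8) → wprod g r = wprod f r := fun r hr =>
    congrArg List.prod (List.map_congr_left fun x hx => if_pos (hr x hx))
  have hCS : ∀ r ∈ relsC ++ relsS, wprod g r = 1 := by
    intro r hr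
    rcases List.mem_append.1 hr with hr | hr
    · rw [hgf r fun x hx => (letters_ok.1 r hr x hx).trans (by norm_num)]; exact h.chart.rels r hr
    · rw [hgf r (letters_ok.2.1 r hr)]; exact h.rels r hr
  have hg : ∀ x, g x * g x = 1 := fun x => by
    by_cases hx : x < 8
    · simpa [wprod] using hCS [x, x] (letters_ok.2.2.2.2 x hx)
    · simp [g, hx]
  -- `t` is moved
  have ht1 : S.t ≠ 1 := fun e => by have := S.t_ord; rw [e, orderOf_one] at this; norm_num at this
  have hC : ∀ x < 7, f x ∈ Subgroup.centralizer ({S.t} : Set G) := fun x hx =>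
    h.chart.gen ▸ Subgroup.subset_closure ⟨x, hx, rfl⟩
  have hne : f 6 ≠ S.t := by
    intro e
    have hz := h.chart.zword
    simp only [wprod, zWord, List.map_cons, List.map_nil, List.prod_cons, List.prod_nil, mul_one] at hz
    rw [e] at hz
    have cm : ∀ x < 7, ∀ y, S.t * (f x * y) = f x * (S.t * y) := fun x hx y => by
      rw [← mul_assoc, ← Subgroup.mem_centralizer_singleton_iff.1 (hC x hx), mul_assoc]
    have sq : ∀ x < 8, ∀ y, f x * (f x * y) = y := fun x hx y => by
      have := hg x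
      rw [show g x = f x from if_pos hx] at this
      rw [← mul_assoc, this, one_mul]
    have tt : ∀ y, S.t * (S.t * y) = y := fun y => by
      rw [← mul_assoc, ← pow_two, ← S.t_ord, pow_orderOf_eq_one, one_mul]
    simp only [cm 3 (by norm_num), cm 4 (by norm_num), cm 5 (by norm_num), tt, sq 5 (by norm_num),
      sq 4 (by norm_num), sq 3 (by norm_num)] at hz
    have h33 := hg 3
    rw [show g 3 = f 3 from if_pos (by norm_num)] at h33
    exact ht1 (hz.symm.trans h33)
  have h7 : g 7 ∉ lettersClosure g (List.range 7) := by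
    intro hm
    have hle : lettersClosure g (List.range 7) ≤ Subgroup.centralizer ({S.t} : Set G) := by
      refine (Subgroup.closure_le _).2 ?_
      rintro _ ⟨i, hi, rfl⟩
      have hi' : i < 7 := by simpa using hi
      simpa [subGen, hi', g, show i < 8 by omega] using hC i hi'
    have h7' := Subgroup.mem_centralizer_singleton_iff.1 (hle hm)
    simp only [g, show 7 < 8 by norm_num, if_true] at h7'
    refine hne ?_
    have := hg 7
    simp only [g, show 7 < 8 by norm_num, if_true] at this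
    rw [← h.move, h7', mul_assoc, this, mul_one]
  -- the signs
  have hbr : ∀ i < 3, ∃ b, wprod g (braidW i b) = 1 := by
    intro i hi
    have hl : ∀ b, ∀ x ∈ braidW i b, x < 8 :=
      fun b => (show ∀ i < 3, ∀ b, ∀ x ∈ braidW i b, x < 8 by decide +kernel) i hi b
    rcases h.braid i hi with e | e
    · exact ⟨false, by rw [hgf _ (hl false)]; simpa [braidW] using e⟩
    · refine ⟨true, ?_⟩
      have hu : ∀ x ∈ uWords.getD i [], x < 8 :=
        (show ∀ i < 3, ∀ x ∈ uWords.getD i [], x < 8 by decide +kernel) i hi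
      rw [← hgf _ hu] at e
      rw [← hgf _ (by simpa [braidW] using hl false)] at e
      show CfsgLib.InvChar.Coset.wprod g _ = 1
      rw [braidW, if_pos rfl, CfsgLib.InvChar.Coset.wprod_append, CfsgLib.InvChar.Coset.wprod_reverse g hg,
        mul_inv_eq_one]
      exact e
  obtain ⟨b0, e0⟩ := hbr 0 (by norm_num)
  obtain ⟨b1, e1⟩ := hbr 1 (by norm_num)
  obtain ⟨b2, e2⟩ := hbr 2 (by norm_num)
  have hb : (b0.toNat + 2 * b1.toNat + 4 * b2.toNat).testBit 0 = b0 ∧
      (b0.toNat + 2 * b1.toNat + 4 * b2.toNat).testBit 1 = b1 ∧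
      (b0.toNat + 2 * b1.toNat + 4 * b2.toNat).testBit 2 = b2 := by
    cases b0 <;> cases b1 <;> cases b2 <;> decide
  set b := b0.toNat + 2 * b1.toNat + 4 * b2.toNat with hbdef
  have hrb : ∀ r ∈ relsOf b, wprod g r = 1 := by
    intro r hr
    simp only [relsOf, List.mem_append, List.mem_map, List.mem_range, List.mem_singleton] at hr
    rcases hr with ((hr | hr) | ⟨i, hi, rfl⟩) | rfl
    · exact hCS r (List.mem_append_left _ hr)
    · exact hCS r (List.mem_append_right _ hr)
    · interval_cases i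
      · rw [hb.1]; exact e0
      · rw [hb.2.1]; exact e1
      · rw [hb.2.2]; exact e2
    · rfl
  have hb0 : b = 0 := by
    by_contra hb0
    exact h7 (collapse g hg (Nat.one_le_iff_ne_zero.2 hb0) (by cases b0 <;> cases b1 <;> cases b2 <;> simp [hbdef]) hrb inferInstance)
  rw [hb0] at hrb
  -- the graph
  let F : ℕ → Om × G := fun x => (o8gen x, g x)
  have hw : ∀ L, wprod F L = (wprod o8gen L, wprod g L) := fun L => by
    induction L with
    | nil => rfl
    | cons a L ih =>
      show F a * wprod F L = (o8gen a * wprod o8gen L, g a * wprod g L)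
      rw [ih]; rfl
  have hmodel : ∀ r ∈ relsOf 0, wprod o8gen r = 1 := by
    intro r hr
    have : codeW r = codeW [] := (show ∀ r ∈ relsOf 0, codeW r = codeW [] by decide +kernel) r hr
    exact wprod_eq this
  have hF : ∀ x, F x * F x = 1 := fun x => Prod.ext (by
    by_cases hx : x < 8
    · have := hmodel [x, x] (by
        rcases List.mem_append.1 (letters_ok.2.2.2.2 x hx) with hm | hm <;> simp [relsOf, hm])
      simpa [wprod] using this
    · simp [F, o8gen, hx]) (hg x)
  obtain ⟨hfin, hcard⟩ := card_le F hF fun r hr => by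
    rw [hw, hmodel r hr, hrb r hr]; rfl
  set Δ := lettersClosure F (List.range 8)
  let π : Δ →* Om := (MonoidHom.fst _ _).comp Δ.subtype
  let q : Δ →* G := (MonoidHom.snd _ _).comp Δ.subtype
  have hsurj : Function.Surjective π := by
    rw [← MonoidHom.range_eq_top, eq_top_iff, ← closure_gen, Subgroup.closure_le]
    rintro _ ⟨k, hk, rfl⟩
    exact ⟨⟨F k, mem_letters F hk⟩, rfl⟩
  have hle : Nat.card Om ≤ Nat.card Δ := Nat.card_le_card_of_surjective π hsurj
  have hOm : Nat.card Om = 174182400 := CfsgLib.ClassK.Conway.card_omega8plus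
  have hbij : Function.Bijective π := (Nat.bijective_iff_surjective_and_card _).2 ⟨hsurj, by omega⟩
  let e : Δ ≃* Om := MulEquiv.ofBijective π hbij
  have hq : ∀ i < 8, q (e.symm (o8gen i)) = f i := fun i hi => by
    rw [show e.symm (o8gen i) = ⟨F i, mem_letters F hi⟩ from e.injective (by rw [e.apply_symm_apply]; rfl)]
    exact if_pos hi
  refine ⟨q.comp e.symm.toMonoidHom, ?_, hq⟩
  have := simple_Om
  rcases (q.comp e.symm.toMonoidHom).normal_ker.eq_bot_or_eq_top with hk | hk
  · exact (MonoidHom.ker_eq_bot_iff _).1 hk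
  · exfalso
    have h1 : ∀ x < 8, f x = 1 := fun x hx => (hq x hx).symm.trans (MonoidHom.mem_ker.1 (hk.ge (Subgroup.mem_top _)))
    refine ht1 (h.chart.zword.symm.trans ?_)
    refine List.prod_eq_one fun y hy => ?_
    obtain ⟨x, hx, rfl⟩ := List.mem_map.1 hy
    exact h1 x ((letters_ok.2.2.1 x hx).trans (by norm_num))

end CfsgLib.Recog.OEightCent
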