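import Cfsg.Agent.Lib.Recog.OEightCent.FusionPair
import Cfsg.Agent.Lib.PLocal.LargeExtraConj

/-!
A conjugate of `t` inside `Q`: the orders are forced, so it is the pure lift of a tensor chart and its
stabiliser in `S₃ × S₃ × S₃` is a Sylow 2-subgroup.
-/

set_option autoImplicit false

namespace CfsgLib.Recog.OEightCent

open Subgroup

variable {G : Type*} [Group G]

namespace Setup

variable (S : Setup G)

theorem conj_eq_or_iff {c y : G} (hy : y ∈ S.Q) :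
    c * y * c⁻¹ * y⁻¹ ∈ zpowers S.t ↔ c * y * c⁻¹ = y ∨ c * y * c⁻¹ = y * S.t := by
  rw [S.mem_zp, mul_inv_eq_one, mul_inv_eq_iff_eq_mul (c := S.t), S.t_comm hy]

variable [Finite G]

/-- The centralizer in `Q` of a noncentral element has index at most two. -/
theorem card_cent_in {y : G} (hy : y ∈ S.Q) (hy1 : y ≠ 1) (hyt : y ≠ S.t) :
    256 ≤ Nat.card (S.Q ⊓ centralizer ({y} : Set G) : Subgroup G) := by
  classical
  obtain ⟨q, hq, hqy⟩ := S.exists_mover hy hy1 hyt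
  have key : ∀ u : S.Q, ¬ (u : G) * y = y * (u : G) → q⁻¹ * (u : G) * y = y * (q⁻¹ * (u : G)) := by
    intro u hu
    have e : (u : G) * y * (u : G)⁻¹ = S.t * y :=
      (S.conj_cases u.2 hy).resolve_left fun e => hu (mul_inv_eq_iff_eq_mul.1 e)
    calc q⁻¹ * (u : G) * y = q⁻¹ * ((u : G) * y * (u : G)⁻¹) * (u : G) := by group
      _ = _ := by rw [e, ← hqy]; group
  let g : S.Q → Bool × (S.Q ⊓ centralizer ({y} : Set G) : Subgroup G) := fun u =>
    if hu : (u : G) * y = y * (u : G) then (true, ⟨u, u.2, mem_centralizer_singleton_iff.2 hu⟩)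
    else (false, ⟨q⁻¹ * (u : G), S.Q.mul_mem (S.Q.inv_mem hq) u.2, mem_centralizer_singleton_iff.2 (key u hu)⟩)
  have hg : Function.Injective g := by
    intro k l e
    simp only [g] at e
    split_ifs at e with hk hl hl
    · exact Subtype.ext (congrArg (fun z => (z.2 : G)) e)
    · exact absurd (congrArg Prod.fst e) (by simp)
    · exact absurd (congrArg Prod.fst e) (by simp)
    · exact Subtype.ext (mul_left_cancel (congrArg (fun z => (z.2 : G)) e))
  have h := Nat.card_le_card_of_injective g hg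
  rw [S.Q_card, Nat.card_prod, Nat.card_eq_fintype_card (α := Bool), Fintype.card_bool] at h
  omega

/-- A conjugate of `t` in `Q` is the pure lift of a chart; `P` is its stabiliser modulo `t`. -/
theorem in_tensor (hT : S.TensorOf) {y : G} (hy : y ∈ S.Q) (hyt : y ≠ S.t) (hc : IsConj S.t y) :
    ∃ f : ℕ → G, ∃ P : Subgroup P3, S.Tensor f ∧ f 6 = y ∧ Nat.card P = 8 ∧
      ∀ c : ↥(centralizer ({S.t} : Set G)),
        S.proj c ∈ P ↔ (c : G) * y * (c : G)⁻¹ * y⁻¹ ∈ zpowers S.t := by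
  obtain ⟨g, rfl⟩ := isConj_iff.1 hc
  have ht' : S.t ∈ (S.conj g).Q := S.pack.mem_conj hy
  set S' := S.conj g with hS'
  have hne : S'.t ≠ S.t := hyt
  have hy1 : S'.t ≠ 1 := S'.t_ne
  have h1 := S.card_cent_in hy hy1 hyt
  have h2 := S'.card_cent_le S
  have h3 := S'.card_cent_in ht' S.t_ne hne.symm
  have h4 := S.card_cent_le S'
  have h5 := S.card_abelian_le (S.Q ⊓ S'.Q) inf_le_left fun a ha b hb => S.inf_commutes S' hne ha hb
  rw [inf_comm S'.Q S.Q] at h2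
  have hX : Nat.card (S.Q ⊓ S'.Q : Subgroup G) = 32 := by
    have : Nat.card (S.Q ⊓ centralizer ({S'.t} : Set G) : Subgroup G) ≥ 256 := h1
    omega
  obtain ⟨h8, hst⟩ := S.stab_image S' (by
    have : Nat.card (S'.Q ⊓ centralizer ({S.t} : Set G) : Subgroup G) ≥ 256 := h3
    omega)
  have hP : ∀ c : ↥(centralizer ({S.t} : Set G)),
      (c : G) * S'.t * (c : G)⁻¹ = S'.t ∨ (c : G) * S'.t * (c : G)⁻¹ = S'.t * S.t →
        S.proj c ∈ S.img (S'.Q ⊓ centralizer ({S.t} : Set G)) := by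
    intro c hcc
    rcases hcc with e | e
    · exact hst c (mul_inv_eq_iff_eq_mul.1 e)
    · obtain ⟨q, hq, hqy⟩ := S.exists_mover hy hy1 hyt
      have hqy' : q * S'.t * q⁻¹ = S'.t * S.t := hqy.trans (S.t_comm hy).symm
      set d : ↥(centralizer ({S.t} : Set G)) := ⟨q, S.Q_le hq⟩⁻¹ * c with hd
      have h := hst d (by
        show q⁻¹ * (c : G) * S'.t = S'.t * (q⁻¹ * (c : G))
        calc q⁻¹ * (c : G) * S'.t = q⁻¹ * ((c : G) * S'.t * (c : G)⁻¹) * (c : G) := by group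
          _ = _ := by rw [e, ← hqy']; group)
      rwa [hd, map_mul, map_inv, (S.proj_ker ⟨q, S.Q_le hq⟩).2 hq, inv_one, one_mul] at h
  obtain ⟨f, hf, hf6⟩ := hT S'.t hy S'.t_sq hy1 hyt (S.Q ⊓ S'.Q) inf_le_left ⟨S.t_mem, ht'⟩
    ⟨hy, S'.t_mem⟩ hX (fun a ha => S.inf_sq S' hne ha) (fun a ha b hb => S.inf_commutes S' hne ha hb)
    ((S'.Q ⊓ centralizer ({S.t} : Set G)).subgroupOf (centralizer ({S.t} : Set G))) h8
    (fun h hh => S'.t_comm (Subgroup.mem_subgroupOf.1 hh).1)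
    (fun h hh a ha => S'.Q_comm _ (Subgroup.mem_subgroupOf.1 hh).1 _ ha.2)
    (fun h hh q hq hqy => ⟨S.Q.mul_mem (S.conj_mem (mem_centralizer_singleton_iff.1 h.2) hq) (S.Q.inv_mem hq),
      by
        rw [show (h : G) * q * (h : G)⁻¹ * q⁻¹ = (h : G) * (q * (h : G)⁻¹ * q⁻¹) by group]
        exact mul_mem (Subgroup.mem_subgroupOf.1 hh).1
          (S'.conj_mem hqy (inv_mem (Subgroup.mem_subgroupOf.1 hh).1))⟩)
    hP
  refine ⟨f, _, hf, hf6, h8, fun c => ⟨fun hcP => ?_, fun h => hP c ((S.conj_eq_or_iff hy).1 h)⟩⟩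
  obtain ⟨h, hh, e⟩ := S.mem_img.1 hcP
  have hm : ((h⁻¹ * c : ↥(centralizer ({S.t} : Set G))) : G) ∈ S.Q :=
    (S.proj_ker _).1 (by rw [map_mul, map_inv, e, inv_mul_cancel])
  have hq := S.Q_comm _ hm _ hy
  have hht : (h : G) * S.t * (h : G)⁻¹ = S.t :=
    mul_inv_eq_iff_eq_mul.2 (mem_centralizer_singleton_iff.1 h.2)
  show (c : G) * S'.t * (c : G)⁻¹ * S'.t⁻¹ ∈ _
  have e' : (c : G) * S'.t * (c : G)⁻¹ * S'.t⁻¹ =
      (h : G) * ((h⁻¹ * c : ↥(centralizer ({S.t} : Set G))) * S'.t *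
        ((h⁻¹ * c : ↥(centralizer ({S.t} : Set G))) : G)⁻¹ * S'.t⁻¹) * (h : G)⁻¹ *
        ((h : G) * S'.t * (h : G)⁻¹ * S'.t⁻¹) := by
    simp only [Subgroup.coe_mul, Subgroup.coe_inv]
    group
  rw [e', mul_inv_eq_one.2 (mul_inv_eq_iff_eq_mul.2 (S'.t_comm hh.1)), mul_one]
  rcases S.mem_zp.1 hq with z | z
  · rw [show (((h⁻¹ * c : ↥(centralizer ({S.t} : Set G))) : G) * S'.t *
      ((h⁻¹ * c : ↥(centralizer ({S.t} : Set G))) : G)⁻¹ * S'.t⁻¹) = 1 from z, mul_one,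
      mul_inv_cancel]
    exact one_mem _
  · rw [show (((h⁻¹ * c : ↥(centralizer ({S.t} : Set G))) : G) * S'.t *
      ((h⁻¹ * c : ↥(centralizer ({S.t} : Set G))) : G)⁻¹ * S'.t⁻¹) = S.t from z, hht]
    exact mem_zpowers _

end Setup

end CfsgLib.Recog.OEightCent
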