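import Cfsg.Agent.Lib.Recog.OEightCent.Setup
import Cfsg.Agent.Lib.PLocal.LargeExtraCriterion
import Cfsg.Agent.Lib.Coprime.ExtraspecialRank
import Cfsg.Agent.Lib.PLocal.ReplaceA

/-!
Fusion of `t`: elementary facts about a setup, its conjugates and the subgroups of order eight of
`S₃ × S₃ × S₃`.
-/

set_option autoImplicit false

namespace CfsgLib.Recog.OEightCent

open Subgroup

namespace Fus

set_option synthInstance.maxSize 512 in
theorem s3_comm : ∀ a x : Equiv.Perm (Fin 3), a ≠ 1 → a * a = 1 → x * a = a * x → x = 1 ∨ x = a := by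
  decide

theorem s3_conj : ∀ a b : Equiv.Perm (Fin 3), a ≠ 1 → a * a = 1 → b ≠ 1 → b * b = 1 →
    ∃ k : Equiv.Perm (Fin 3), k * a * k⁻¹ = b := by
  decide

/-- A 2-subgroup of `S₃`. -/
theorem s3_small (Y : Subgroup (Equiv.Perm (Fin 3))) (hY : Nat.card Y ∣ 8) :
    ∃ a : Equiv.Perm (Fin 3), a ≠ 1 ∧ a * a = 1 ∧ ∀ y ∈ Y, y = 1 ∨ y = a := by
  classical
  have h6 : Nat.card Y ∣ 6 := by
    have := Subgroup.card_subgroup_dvd_card Y
    rwa [show Nat.card (Equiv.Perm (Fin 3)) = 6 by rw [Nat.card_eq_fintype_card]; decide] at this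
  have h2 : Nat.card Y ∣ 2 := by simpa using Nat.dvd_gcd hY h6
  have hle := Nat.le_of_dvd (by norm_num) h2
  by_cases hbot : ∀ y ∈ Y, y = 1
  · exact ⟨Equiv.swap 0 1, by decide, by decide, fun y hy => Or.inl (hbot y hy)⟩
  push Not at hbot
  obtain ⟨a, ha, ha1⟩ := hbot
  have hall : ∀ y ∈ Y, y = 1 ∨ y = a := by
    intro y hy
    by_contra hne
    push Not at hne
    have h3 : ({1, a, y} : Finset (Equiv.Perm (Fin 3))).card ≤ Nat.card Y := by
      rw [← Nat.card_eq_finsetCard]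
      refine Nat.card_le_card_of_injective (fun b => (⟨b.1, ?_⟩ : Y)) (fun b c e =>
        Subtype.ext (congrArg Subtype.val e :))
      have := b.2
      simp only [Finset.mem_insert, Finset.mem_singleton] at this
      rcases this with e | e | e <;> rw [e]
      exacts [Y.one_mem, ha, hy]
    rw [Finset.card_eq_three.2 ⟨1, a, y, Ne.symm ha1, Ne.symm hne.1, Ne.symm hne.2, rfl⟩] at h3
    omega
  refine ⟨a, ha1, ?_, hall⟩
  rcases hall (a * a) (Y.mul_mem ha ha) with e | e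
  · exact e
  · exact absurd (mul_left_cancel (e.trans (mul_one a).symm)) ha1

/-- A subgroup of order eight is the product of three transpositions' groups. -/
theorem p3_eight {P : Subgroup P3} (hP : Nat.card P = 8) :
    ∃ a b c : Equiv.Perm (Fin 3), a ≠ 1 ∧ a * a = 1 ∧ b ≠ 1 ∧ b * b = 1 ∧ c ≠ 1 ∧ c * c = 1 ∧
      ∀ x : P3, x ∈ P ↔ (x.1 = 1 ∨ x.1 = a) ∧ (x.2.1 = 1 ∨ x.2.1 = b) ∧ (x.2.2 = 1 ∨ x.2.2 = c) := by
  classical
  let p1 : P3 →* Equiv.Perm (Fin 3) := MonoidHom.fst _ _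
  let p2 : P3 →* Equiv.Perm (Fin 3) := (MonoidHom.fst _ _).comp (MonoidHom.snd _ _)
  let p3 : P3 →* Equiv.Perm (Fin 3) := (MonoidHom.snd _ _).comp (MonoidHom.snd _ _)
  obtain ⟨a, ha1, ha, hA⟩ := s3_small (P.map p1) (hP ▸ Subgroup.card_map_dvd P p1)
  obtain ⟨b, hb1, hb, hB⟩ := s3_small (P.map p2) (hP ▸ Subgroup.card_map_dvd P p2)
  obtain ⟨c, hc1, hc, hC⟩ := s3_small (P.map p3) (hP ▸ Subgroup.card_map_dvd P p3)
  refine ⟨a, b, c, ha1, ha, hb1, hb, hc1, hc, ?_⟩
  set T : Finset P3 := ({1, a} : Finset (Equiv.Perm (Fin 3))) ×ˢ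
    (({1, b} : Finset (Equiv.Perm (Fin 3))) ×ˢ ({1, c} : Finset (Equiv.Perm (Fin 3)))) with hT
  have hsub : (P : Set P3).toFinset ⊆ T := by
    intro x hx
    simp only [Set.mem_toFinset, SetLike.mem_coe] at hx
    simp only [hT, Finset.mem_product, Finset.mem_insert, Finset.mem_singleton]
    exact ⟨hA _ ⟨x, hx, rfl⟩, hB _ ⟨x, hx, rfl⟩, hC _ ⟨x, hx, rfl⟩⟩
  have hcard : T.card ≤ (P : Set P3).toFinset.card := by
    rw [← Set.ncard_eq_toFinset_card', ← Nat.card_coe_set_eq, show Nat.card ↥(P : Set P3) = 8 from hP,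
      hT, Finset.card_product, Finset.card_product]
    exact Nat.mul_le_mul Finset.card_le_two
      (Nat.mul_le_mul Finset.card_le_two Finset.card_le_two)
  have he := Finset.eq_of_subset_of_card_le hsub hcard
  intro x
  rw [← SetLike.mem_coe, ← Set.mem_toFinset, he]
  simp [hT]

theorem p3_self_normal {P : Subgroup P3} (hP : Nat.card P = 8) {x : P3}
    (hx : ∀ p ∈ P, x * p * x⁻¹ ∈ P) : x ∈ P := by
  obtain ⟨a, b, c, ha1, ha, hb1, hb, hc1, hc, h⟩ := p3_eight hP
  have key : ∀ (a x : Equiv.Perm (Fin 3)), a ≠ 1 → a * a = 1 →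
      (x * a * x⁻¹ = 1 ∨ x * a * x⁻¹ = a) → x = 1 ∨ x = a := fun a x ha1 ha hh =>
    hh.elim (fun e => absurd (by
        have := mul_inv_eq_one.1 e
        exact mul_left_cancel (this.trans (mul_one x).symm)) ha1)
      fun e => s3_comm a x ha1 ha (mul_inv_eq_iff_eq_mul.1 e)
  have h1 := (h _).1 (hx (a, b, c) ((h _).2 ⟨Or.inr rfl, Or.inr rfl, Or.inr rfl⟩))
  exact (h x).2 ⟨key a _ ha1 ha h1.1, key b _ hb1 hb h1.2.1, key c _ hc1 hc h1.2.2⟩

theorem p3_conj {P R : Subgroup P3} (hP : Nat.card P = 8) (hR : Nat.card R = 8) :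
    ∃ k : P3, ∀ x, x ∈ P ↔ k * x * k⁻¹ ∈ R := by
  obtain ⟨a, b, c, ha1, ha, hb1, hb, hc1, hc, h⟩ := p3_eight hP
  obtain ⟨a', b', c', ha1', ha', hb1', hb', hc1', hc', h'⟩ := p3_eight hR
  obtain ⟨k₁, e₁⟩ := s3_conj a a' ha1 ha ha1' ha'
  obtain ⟨k₂, e₂⟩ := s3_conj b b' hb1 hb hb1' hb'
  obtain ⟨k₃, e₃⟩ := s3_conj c c' hc1 hc hc1' hc'
  refine ⟨(k₁, k₂, k₃), fun x => ?_⟩
  rw [h, h']
  simp only [Prod.fst_mul, Prod.snd_mul, Prod.fst_inv, Prod.snd_inv]
  rw [← e₁, ← e₂, ← e₃]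
  simp

/-- A subgroup of order eight has no element of order three in a coordinate. -/
theorem p3_no_three {P : Subgroup P3} (hP : Nat.card P = 8) {x : P3} (hx : x ∈ P) :
    x * x = 1 := by
  obtain ⟨a, b, c, ha1, ha, hb1, hb, hc1, hc, h⟩ := p3_eight hP
  obtain ⟨h1, h2, h3⟩ := (h x).1 hx
  refine Prod.ext ?_ (Prod.ext ?_ ?_)
  · rcases h1 with e | e <;> simp [e, ha]
  · rcases h2 with e | e <;> simp [e, hb]
  · rcases h3 with e | e <;> simp [e, hc]

theorem card_P3 : Nat.card P3 = 216 := by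
  rw [Nat.card_prod, Nat.card_prod, Nat.card_eq_fintype_card, Fintype.card_perm, Fintype.card_fin]
  rfl

end Fus

variable {G : Type*} [Group G]

namespace Setup

variable (S : Setup G)

theorem t_sq : S.t * S.t = 1 := by
  rw [← pow_two, ← S.t_ord]; exact pow_orderOf_eq_one S.t

theorem t_ne : S.t ≠ 1 := fun h => by
  have := S.t_ord
  rw [h, orderOf_one] at this
  omega

theorem t_inv : S.t⁻¹ = S.t := inv_eq_of_mul_eq_one_right S.t_sq

theorem t_comm {q : G} (hq : q ∈ S.Q) : q * S.t = S.t * q :=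
  mem_centralizer_singleton_iff.1 (S.Q_le hq)

theorem mem_zp {q : G} : q ∈ zpowers S.t ↔ q = 1 ∨ q = S.t := by
  refine ⟨fun h => CfsgLib.Trans3.mem_zpowers_invol S.t_ord h, fun h => ?_⟩
  rcases h with rfl | rfl
  · exact one_mem _
  · exact mem_zpowers _

theorem conj_cases {a b : G} (ha : a ∈ S.Q) (hb : b ∈ S.Q) :
    a * b * a⁻¹ = b ∨ a * b * a⁻¹ = S.t * b := by
  rcases (S.mem_zp).1 (S.Q_comm a ha b hb) with e | e
  · exact Or.inl (mul_inv_eq_one.1 e)
  · exact Or.inr (mul_inv_eq_iff_eq_mul.1 e)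

theorem mul_self_cases {a : G} (ha : a ∈ S.Q) : a * a = 1 ∨ a * a = S.t :=
  (S.mem_zp).1 (S.Q_sq a ha)

theorem exists_mover {x : G} (hx : x ∈ S.Q) (hx1 : x ≠ 1) (hxt : x ≠ S.t) :
    ∃ q ∈ S.Q, q * x * q⁻¹ = S.t * x := by
  by_contra hn
  push Not at hn
  rcases (S.mem_zp).1 (S.Q_center x hx fun r hr =>
    (mul_inv_eq_iff_eq_mul.1 ((S.conj_cases hr hx).resolve_right (hn r hr))).symm) with e | e
  exacts [hx1 e, hxt e]

theorem pack [Finite G] : CfsgLib.PLocal.LargeExtra.Pack S.Q S.t := by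
  refine CfsgLib.PLocal.LargeExtra.pack_mk (IsPGroup.of_card (n := 9) S.Q_card) S.t_ord S.t_mem
    (fun a ha b hb => (S.mem_zp).1 (S.Q_comm a ha b hb)) (fun a ha => S.mul_self_cases ha)
    (fun a ha h => (S.mem_zp).1 (S.Q_center a ha h)) (fun a ha => S.t_comm ha) ?_ S.Q_cent ?_
  · by_contra hn
    push Not at hn
    have hle : S.Q ≤ zpowers S.t := fun b hb => by
      by_cases h1 : b = 1
      · rw [h1]; exact one_mem _
      · rw [hn b hb h1]; exact mem_zpowers _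
    have h1 := Subgroup.card_le_of_le hle
    rw [S.Q_card, Nat.card_zpowers, S.t_ord] at h1
    norm_num at h1
  · intro c hc
    refine Subgroup.mem_normalizer_iff.2 fun q => ⟨fun hq => S.Q_normal c hc q hq, fun hq => ?_⟩
    have := S.Q_normal c⁻¹ (inv_mem hc) _ hq
    simpa [mul_assoc] using this

theorem card_abelian_le [Finite G] (A : Subgroup G) (hA : A ≤ S.Q)
    (hc : ∀ a ∈ A, ∀ b ∈ A, a * b = b * a) : Nat.card A ≤ 32 := by
  have h := CfsgLib.Coprime.comm_card_sq_le S.pack.ext (Nat.card (⊤ : Subgroup S.Q)) ⊤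
    (A.subgroupOf S.Q) CfsgLib.Transfer.isEsGood_top rfl le_top
    (fun a ha b hb => Subtype.ext (hc _ ha _ hb))
  rw [Nat.card_congr (Subgroup.subgroupOfEquivOfLe hA).toEquiv, Subgroup.card_top, S.Q_card] at h
  nlinarith

/-- The image of a subgroup of the centralizer in `S₃ × S₃ × S₃`. -/
def img (H : Subgroup G) : Subgroup P3 := (H.subgroupOf (centralizer ({S.t} : Set G))).map S.proj

theorem mem_img {H : Subgroup G} {x : P3} :
    x ∈ S.img H ↔ ∃ h : ↥(centralizer ({S.t} : Set G)), (h : G) ∈ H ∧ S.proj h = x :=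
  Subgroup.mem_map

theorem card_img [Finite G] {H : Subgroup G} (hH : H ≤ centralizer ({S.t} : Set G)) :
    Nat.card (S.img H) * Nat.card (H ⊓ S.Q : Subgroup G) = Nat.card H := by
  set H' := H.subgroupOf (centralizer ({S.t} : Set G)) with hH'
  have h1 := Subgroup.card_mul_index (S.proj.comp H'.subtype).ker
  rw [Subgroup.index_ker, MonoidHom.range_comp, Subgroup.range_subtype] at h1
  have e : Nat.card (S.proj.comp H'.subtype).ker = Nat.card (H ⊓ S.Q : Subgroup G) := by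
    refine Nat.card_congr
      { toFun := fun h => ⟨((h : H') : ↥(centralizer ({S.t} : Set G))), (h : H').2,
          (S.proj_ker _).1 h.2⟩
        invFun := fun g => ⟨⟨⟨(g : G), hH g.2.1⟩, g.2.1⟩, (S.proj_ker _).2 g.2.2⟩
        left_inv := fun _ => rfl
        right_inv := fun _ => rfl }
  rw [e, Nat.card_congr (Subgroup.subgroupOfEquivOfLe hH).toEquiv] at h1
  rw [mul_comm]
  exact h1

theorem card_img_le [Finite G] {H : Subgroup G} (hH : H ≤ centralizer ({S.t} : Set G))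
    (hd : Nat.card H ∣ 2 ^ 9) : Nat.card (S.img H) ≤ 8 := by
  have h1 : Nat.card (S.img H) ∣ Nat.gcd (2 ^ 9) 216 :=
    Nat.dvd_gcd ((Dvd.intro _ (S.card_img hH)).trans hd)
      (Fus.card_P3 ▸ Subgroup.card_subgroup_dvd_card _)
  exact Nat.le_of_dvd (by norm_num) (by simpa using h1)

/-- The setup at a conjugate of `t`. -/
def conj (g : G) : Setup G where
  t := g * S.t * g⁻¹
  t_ord := by rw [CfsgLib.Trans3.orderOf_conj, S.t_ord]
  Q := S.Q.map (MulAut.conj g).toMonoidHom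
  Q_le := by
    rintro _ ⟨q, hq, rfl⟩
    refine mem_centralizer_singleton_iff.2 ?_
    simp only [MulEquiv.coe_toMonoidHom, MulAut.conj_apply]
    rw [show g * q * g⁻¹ * (g * S.t * g⁻¹) = g * (q * S.t) * g⁻¹ by group, S.t_comm hq]
    group
  t_mem := ⟨S.t, S.t_mem, rfl⟩
  Q_normal := by
    rintro c hc _ ⟨q, hq, rfl⟩
    refine ⟨g⁻¹ * c * g * q * (g⁻¹ * c * g)⁻¹, S.Q_normal _ ?_ q hq, ?_⟩
    · refine mem_centralizer_singleton_iff.2 ?_
      have h := mem_centralizer_singleton_iff.1 hc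
      calc g⁻¹ * c * g * S.t = g⁻¹ * (c * (g * S.t * g⁻¹)) * g := by group
        _ = _ := by rw [h]; group
    · simp only [MulEquiv.coe_toMonoidHom, MulAut.conj_apply]; group
  Q_card := by rw [Subgroup.card_map_of_injective (MulAut.conj g).injective, S.Q_card]
  Q_sq := by
    rintro _ ⟨q, hq, rfl⟩
    rw [← map_mul]
    have h : (MulAut.conj g).toMonoidHom (q * q) ∈ (zpowers S.t).map (MulAut.conj g).toMonoidHom :=
      Subgroup.mem_map_of_mem _ (S.Q_sq q hq)
    rwa [MonoidHom.map_zpowers] at h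
  Q_comm := by
    rintro _ ⟨q, hq, rfl⟩ _ ⟨r, hr, rfl⟩
    rw [← map_inv, ← map_inv, ← map_mul, ← map_mul, ← map_mul]
    have h : (MulAut.conj g).toMonoidHom (q * r * q⁻¹ * r⁻¹) ∈
        (zpowers S.t).map (MulAut.conj g).toMonoidHom :=
      Subgroup.mem_map_of_mem _ (S.Q_comm q hq r hr)
    rwa [MonoidHom.map_zpowers] at h
  Q_center := by
    rintro _ ⟨q, hq, rfl⟩ h
    have h1 : q ∈ zpowers S.t := S.Q_center q hq fun r hr =>
      (MulAut.conj g).injective (by simpa using h _ ⟨r, hr, rfl⟩)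
    have h2 := Subgroup.mem_map_of_mem (MulAut.conj g).toMonoidHom h1
    rwa [MonoidHom.map_zpowers] at h2
  Q_cent := by
    intro x hx
    refine ⟨g⁻¹ * x * g, S.Q_cent (mem_centralizer_iff.2 fun q hq => ?_), ?_⟩
    · have h := mem_centralizer_iff.1 hx _ ⟨q, hq, rfl⟩
      simp only [MulEquiv.coe_toMonoidHom, MulAut.conj_apply] at h
      calc q * (g⁻¹ * x * g) = g⁻¹ * (g * q * g⁻¹ * x) * g := by group
        _ = _ := by rw [h]; group
    · simp only [MulEquiv.coe_toMonoidHom, MulAut.conj_apply]; group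
  proj := S.proj.comp
    { toFun := fun x => ⟨g⁻¹ * (x : G) * g, mem_centralizer_singleton_iff.2 (by
        have h := mem_centralizer_singleton_iff.1 x.2
        calc g⁻¹ * (x : G) * g * S.t = g⁻¹ * ((x : G) * (g * S.t * g⁻¹)) * g := by group
          _ = _ := by rw [h]; group)⟩
      map_one' := Subtype.ext (by simp)
      map_mul' := fun x y => Subtype.ext (by simp [mul_assoc]) }
  proj_surj := fun p => by
    obtain ⟨c, rfl⟩ := S.proj_surj p
    refine ⟨⟨g * (c : G) * g⁻¹, mem_centralizer_singleton_iff.2 ?_⟩, ?_⟩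
    · have h := mem_centralizer_singleton_iff.1 c.2
      calc g * (c : G) * g⁻¹ * (g * S.t * g⁻¹) = g * ((c : G) * S.t) * g⁻¹ := by group
        _ = _ := by rw [h]; group
    · refine congrArg S.proj (Subtype.ext ?_)
      show g⁻¹ * (g * (c : G) * g⁻¹) * g = c
      group
  proj_ker := fun c => by
    show S.proj _ = 1 ↔ _
    rw [S.proj_ker]
    refine ⟨fun h => ⟨_, h, ?_⟩, ?_⟩
    · show g * (g⁻¹ * (c : G) * g) * g⁻¹ = _
      group
    · rintro ⟨q, hq, e⟩
      show g⁻¹ * (c : G) * g ∈ S.Q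
      rw [← e]
      simpa [mul_assoc] using hq

@[simp] theorem conj_t (g : G) : (S.conj g).t = g * S.t * g⁻¹ := rfl

theorem conj_Q (g : G) : (S.conj g).Q = S.Q.map (MulAut.conj g).toMonoidHom := rfl

/-- Conjugation of `Q`-elements by elements of the centralizer. -/
theorem conj_mem {c q : G} (hc : c * S.t = S.t * c) (hq : q ∈ S.Q) : c * q * c⁻¹ ∈ S.Q :=
  S.Q_normal c (mem_centralizer_singleton_iff.2 hc) q hq

end Setup

end CfsgLib.Recog.OEightCent
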