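import Cfsg.Agent.Lib.Recog.OEightCent.FusionWords
import Cfsg.Agent.Lib.Recog.OEightCent.FusionBasic

/-!
The only elements of `Q` fixed modulo `t` by the three raising letters of a chart are `1`, `t`, the pure
lift and its product with `t`.
-/

set_option autoImplicit false

namespace CfsgLib.Recog.OEightCent

open Subgroup
open scoped IsMulCommutative

namespace Fus

namespace Rel

variable {K : Type*} [Group K] [Finite K] {φ : ℕ → K} (h : Rel φ)
include h

theorem fixed {V : Subgroup K} [V.Normal] (h6 : φ 6 ∈ V) (hidx : V.index = 216)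
    (hcomm : ∀ a ∈ V, ∀ b ∈ V, a * b = b * a) (hcard : Nat.card V = 256) {z : K} (hz : z ∈ V)
    (hfix : ∀ i : Fin 3, φ i * z = z * φ i) : z = 1 ∨ z = φ 6 := by
  classical
  have hXV : ∀ s, X φ s ∈ V := fun s => by
    rw [X_eq, h.low_inv]
    exact Subgroup.Normal.conj_mem ‹_› _ h6 _
  have hle : closure (Set.range (X φ)) ≤ V := (closure_le _).2 (by rintro _ ⟨s, rfl⟩; exact hXV s)
  have hW : closure (Set.range (X φ)) = V := by
    refine le_antisymm hle (Subgroup.relIndex_eq_one.1 ?_)
    have h1 := Subgroup.relIndex_mul_index hle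
    have h2 := h.index_le
    have h3 : (closure (Set.range (X φ))).relIndex V ≠ 0 := Subgroup.index_ne_zero_of_finite
    rw [← h1, hidx] at h2
    omega
  have : IsMulCommutative V := ⟨⟨fun a b => Subtype.ext (hcomm _ a.2 _ b.2)⟩⟩
  let y : Fin 8 → V := fun s => ⟨X φ s, hXV s⟩
  let F : (Fin 8 → Bool) → V := fun e => ∏ s, if e s then y s else 1
  have hy : ∀ s, y s * y s = 1 := fun s => Subtype.ext (h.X_sq s)
  have hFmul : ∀ e e', F e * F e' = F fun s => xor (e s) (e' s) := by
    intro e e'
    simp only [F, ← Finset.prod_mul_distrib]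
    refine Finset.prod_congr rfl fun s _ => ?_
    by_cases a : e s = true <;> by_cases b : e' s = true <;> simp [a, b, hy]
  have hFsurj : Function.Surjective F := by
    rintro ⟨v, hvV⟩
    have hv : v ∈ closure (Set.range (X φ)) := hW ▸ hvV
    suffices ∃ e, (F e : K) = v by
      obtain ⟨e, he⟩ := this
      exact ⟨e, Subtype.ext he⟩
    clear hvV
    have hF1 : F (fun _ => false) = 1 := by simp [F]
    induction hv using closure_induction with
    | mem x hx =>
      obtain ⟨s, rfl⟩ := hx
      refine ⟨fun r => decide (r = s), ?_⟩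
      simp [F, y]
    | one => exact ⟨fun _ => false, by rw [hF1]; rfl⟩
    | mul a b _ _ ha hb =>
      obtain ⟨e, rfl⟩ := ha
      obtain ⟨e', rfl⟩ := hb
      exact ⟨fun s => xor (e s) (e' s), by rw [← hFmul]; rfl⟩
    | inv a _ ha =>
      obtain ⟨e, rfl⟩ := ha
      refine ⟨e, ?_⟩
      have h1 : F e * F e = 1 := by
        rw [hFmul, ← hF1]
        simp
      rw [← InvMemClass.coe_inv, inv_eq_of_mul_eq_one_right h1]
  have hFinj : Function.Injective F :=
    ((Nat.bijective_iff_surjective_and_card F).2 ⟨hFsurj, by simp [hcard]⟩).1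
  obtain ⟨e, he⟩ := hFsurj ⟨z, hz⟩
  have hzero : ∀ i : Fin 3, ∀ s, bit i s = true → e s = false := by
    intro i s hs
    let ψ : V →* V :=
      { toFun := fun v => ⟨φ i * (v : K) * (φ i)⁻¹ * (v : K)⁻¹,
          mul_mem (Subgroup.Normal.conj_mem ‹_› _ v.2 _) (inv_mem v.2)⟩
        map_one' := Subtype.ext (by simp)
        map_mul' := fun v w => Subtype.ext (by
          show φ i * ((v : K) * (w : K)) * (φ i)⁻¹ * ((v : K) * (w : K))⁻¹ =
            φ i * (v : K) * (φ i)⁻¹ * (v : K)⁻¹ * (φ i * (w : K) * (φ i)⁻¹ * (w : K)⁻¹)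
          have hm : φ i * (w : K) * (φ i)⁻¹ * (w : K)⁻¹ ∈ V :=
            mul_mem (Subgroup.Normal.conj_mem ‹_› _ w.2 _) (inv_mem w.2)
          calc φ i * ((v : K) * (w : K)) * (φ i)⁻¹ * ((v : K) * (w : K))⁻¹
              = φ i * (v : K) * (φ i)⁻¹ *
                  ((φ i * (w : K) * (φ i)⁻¹ * (w : K)⁻¹) * (v : K)⁻¹) := by group
            _ = _ := by rw [hcomm _ hm _ (inv_mem v.2)]; group) }
    have hψy : ∀ r, ψ (y r) = if bit i r then y (flip i r) else 1 := by
      intro r
      apply Subtype.ext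
      show φ i * X φ r * (φ i)⁻¹ * (X φ r)⁻¹ = _
      rw [h.act i r]
      split_ifs <;> rfl
    have h1 : ψ (F e) = F (fun r => !bit i r && e (flip i r)) := by
      simp only [F, map_prod]
      refine Fintype.prod_equiv ⟨flip i, flip i, flip_flip i, flip_flip i⟩ _ _ fun r => ?_
      show ψ (if e r = true then y r else 1) =
        if (!bit i (flip i r) && e (flip i (flip i r))) = true then y (flip i r) else 1
      rw [bit_flip, flip_flip, Bool.not_not]
      cases e r <;> cases hb : bit i r <;> simp [hψy, hb]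
    have h2 : ψ (F e) = 1 := by
      rw [he]
      apply Subtype.ext
      show φ i * z * (φ i)⁻¹ * z⁻¹ = 1
      rw [hfix i, mul_inv_cancel_right, mul_inv_cancel]
    have h3 := congrFun (hFinj ((h1.symm.trans h2).trans
      (show (1 : V) = F fun _ => false by simp [F]))) (flip i s)
    simpa [bit_flip, flip_flip, hs] using h3
  have he' : e = fun r => decide (r = 0) && e 0 := by
    funext r
    by_cases hr : r = 0
    · subst hr; simp
    · rw [decide_eq_false hr, Bool.false_and]
      by_contra hne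
      exact hr (eq_zero_of_bits r fun i => by
        by_contra hb
        exact hne (hzero i r (by simpa using hb)))
  have hz' : z = (F e : K) := by rw [he]
  rw [hz', he']
  rcases e 0 with _ | _
  · exact Or.inl (by simp [F])
  · refine Or.inr ?_
    rw [show φ 6 = X φ 0 by simp [X, xw, low, bit, wprod, List.finRange_succ]]
    simp [F, y]

end Rel

end Fus

variable {G : Type*} [Group G]

namespace Setup

variable (S : Setup G) [Finite G]

theorem tensor_fixed {f : ℕ → G} (hf : S.Tensor f) {z : G} (hz : z ∈ S.Q)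
    (hfix : ∀ i < 3, f i * z * (f i)⁻¹ * z⁻¹ ∈ zpowers S.t) :
    z = 1 ∨ z = S.t ∨ z = f 6 ∨ z = f 6 * S.t := by
  classical
  set C : Subgroup G := centralizer ({S.t} : Set G) with hC
  have hfC : ∀ k < 7, f k ∈ C := fun k hk => by
    rw [hC, ← hf.gen]; exact subset_closure ⟨k, hk, rfl⟩
  set N : Subgroup C := (zpowers S.t).subgroupOf C with hN
  have : N.Normal := ⟨fun n hn c => by
    show (c : G) * (n : G) * (c : G)⁻¹ ∈ zpowers S.t
    rcases S.mem_zp.1 (show (n : G) ∈ zpowers S.t from hn) with e | e <;> rw [e]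
    · simp
    · rw [mem_centralizer_singleton_iff.1 c.2, mul_inv_cancel_right]
      exact mem_zpowers _⟩
  let π := QuotientGroup.mk' N
  let ι : ℕ → C := fun k => if hk : k < 7 then ⟨f k, hfC k hk⟩ else 1
  let φ : ℕ → C ⧸ N := fun k => π (ι k)
  have hι : ∀ k < 7, (ι k : G) = f k := fun k hk => by simp only [ι, dif_pos hk]
  have hrel : Fus.Rel φ := by
    refine ⟨?_, fun r hr => ?_⟩
    · have e : φ '' Set.Iio 7 = π '' (ι '' Set.Iio 7) := by rw [Set.image_image]
      have hgen : closure (ι '' Set.Iio 7) = ⊤ := by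
        apply Subgroup.map_injective C.subtype_injective
        rw [MonoidHom.map_closure, Set.image_image, ← MonoidHom.range_eq_map, C.range_subtype]
        exact (congrArg Subgroup.closure (Set.image_congr fun k hk => hι k hk)).trans hf.gen
      rw [e, ← MonoidHom.map_closure, hgen,
        Subgroup.map_top_of_surjective _ (QuotientGroup.mk'_surjective N)]
    · have e : wprod φ r = π (wprod ι r) := by
        simp [wprod, φ, map_list_prod, List.map_map, Function.comp_def]
      rw [e]
      refine (QuotientGroup.eq_one_iff _).2 ?_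
      have e2 : ((wprod ι r : C) : G) = wprod f r := by
        rw [show ((wprod ι r : C) : G) = C.subtype (wprod ι r) from rfl, wprod, wprod, map_list_prod,
          List.map_map]
        exact congrArg List.prod (List.map_congr_left fun a ha => by
          simpa using hι a (Fus.relsC_lt r hr a ha))
      show ((wprod ι r : C) : G) ∈ zpowers S.t
      rw [e2]; exact hf.rels r hr
  let V : Subgroup (C ⧸ N) := (S.Q.subgroupOf C).map π
  have hQn : (S.Q.subgroupOf C).Normal := ⟨fun n hn c => S.Q_normal _ c.2 _ hn⟩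
  have : V.Normal := hQn.map π (QuotientGroup.mk'_surjective N)
  have hNQ : N ≤ S.Q.subgroupOf C := fun n hn => (zpowers_le.2 S.t_mem) hn
  have hcC : Nat.card C = 216 * 512 := by
    have h := S.card_img (H := C) le_rfl
    have e1 : S.img C = ⊤ := top_le_iff.1 fun p _ => by
      obtain ⟨c, rfl⟩ := S.proj_surj p
      exact S.mem_img.2 ⟨c, c.2, rfl⟩
    rw [e1, Subgroup.card_top, Fus.card_P3, inf_eq_right.2 S.Q_le, S.Q_card] at h
    rw [← h]; norm_num
  have hcQ : Nat.card (S.Q.subgroupOf C) = 512 := by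
    rw [Nat.card_congr (Subgroup.subgroupOfEquivOfLe S.Q_le).toEquiv, S.Q_card]; norm_num
  have hidxQ : (S.Q.subgroupOf C).index = 216 := by
    have := Subgroup.card_mul_index (S.Q.subgroupOf C)
    rw [hcQ, hcC] at this
    omega
  have hVidx : V.index = 216 := by
    rw [Subgroup.index_map_eq _ (QuotientGroup.mk'_surjective N) (by rw [QuotientGroup.ker_mk']; exact hNQ),
      hidxQ]
  have hVcard : Nat.card V = 256 := by
    have h1 := Subgroup.card_mul_index V
    have h2 := Subgroup.card_mul_index N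
    rw [hVidx, ← Subgroup.index_eq_card] at h1
    have h3 : Nat.card N = 2 := by
      rw [Nat.card_congr (Subgroup.subgroupOfEquivOfLe ((zpowers_le.2 S.t_mem).trans S.Q_le)).toEquiv,
        Nat.card_zpowers, S.t_ord]
    rw [hcC, h3] at h2
    omega
  have hVc : ∀ a ∈ V, ∀ b ∈ V, a * b = b * a := by
    rintro _ ⟨a, ha, rfl⟩ _ ⟨b, hb, rfl⟩
    rw [← map_mul, ← map_mul]
    refine (QuotientGroup.eq).2 ?_
    show ((a * b : C) : G)⁻¹ * ((b * a : C) : G) ∈ zpowers S.t
    have := S.Q_comm (b : G)⁻¹ (inv_mem hb) (a : G)⁻¹ (inv_mem ha)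
    simpa [mul_assoc] using this
  have h6C : f 6 ∈ C := hfC 6 (by norm_num)
  have hφ6 : φ 6 ∈ V := ⟨ι 6, by
    show (ι 6 : G) ∈ S.Q
    rw [hι 6 (by norm_num)]; exact hf.mem_Q, rfl⟩
  let zC : C := ⟨z, S.Q_le hz⟩
  have key := hrel.fixed (V := V) hφ6 hVidx hVc hVcard (z := π zC) ⟨zC, hz, rfl⟩ (fun i => by
    show π (ι i.val) * π zC = π zC * π (ι i.val)
    rw [← map_mul, ← map_mul, eq_comm]
    refine (QuotientGroup.eq).2 ?_
    show ((zC * ι i.val : C) : G)⁻¹ * ((ι i.val * zC : C) : G) ∈ zpowers S.t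
    simp only [Subgroup.coe_mul, hι i.val (by omega)]
    have hm := hfix i.val i.isLt
    have hcen : ∀ g ∈ C, ∀ w ∈ zpowers S.t, g * w * g⁻¹ = w := fun g hg w hw => by
      rcases S.mem_zp.1 hw with e | e <;> rw [e]
      · simp
      · rw [mem_centralizer_singleton_iff.1 hg, mul_inv_cancel_right]
    have := hcen ((z * f i.val)⁻¹) (inv_mem (mul_mem (S.Q_le hz) (hfC i.val (by omega)))) _ hm
    rw [show (z * f i.val)⁻¹ * (f i.val * z) = (z * f i.val)⁻¹ *
      (f i.val * z * (f i.val)⁻¹ * z⁻¹) * ((z * f i.val)⁻¹)⁻¹ by group, this]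
    exact hm)
  rcases key with e | e
  · rcases S.mem_zp.1 ((QuotientGroup.eq_one_iff zC).1 e : z ∈ zpowers S.t) with r | r
    · exact Or.inl r
    · exact Or.inr (Or.inl r)
  · have h1 : (f 6)⁻¹ * z ∈ zpowers S.t := by
      have := (QuotientGroup.eq).1 (e.symm : π (ι 6) = π zC)
      have h2 : ((ι 6 : C) : G)⁻¹ * z ∈ zpowers S.t := this
      rwa [hι 6 (by norm_num)] at h2
    rcases S.mem_zp.1 h1 with r | r
    · exact Or.inr (Or.inr (Or.inl (inv_mul_eq_one.1 r).symm))
    · exact Or.inr (Or.inr (Or.inr (inv_mul_eq_iff_eq_mul.1 r)))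

end Setup

end CfsgLib.Recog.OEightCent
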