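import Cfsg.Agent.Lib.Recog.OEightCent.FusionOutFalse
import Cfsg.Agent.Lib.Recog.OEightCent.FusionIn
import Cfsg.Agent.Lib.Recog.OEightCent.FusionTensor
import Cfsg.Agent.Lib.Invol.BrauerSuzuki

/-!
Fusion of `t`: either `t` is central modulo the odd core, or a conjugate is the pure lift of a tensor
chart, all conjugates in `Q` other than `t` are conjugate to it in the centralizer, and some element
exchanges it with `t`.
-/

set_option autoImplicit false

namespace CfsgLib.Recog.OEightCent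

open Subgroup

variable {G : Type*} [Group G]

namespace Setup

variable (S : Setup G) [Finite G]

/-- All conjugates of `t` in `Q` other than `t` are conjugate to the pure lift. -/
theorem pure_of_tensor (hT : S.TensorOf) {f : ℕ → G} {P : Subgroup P3} (hf : S.Tensor f)
    (h6 : f 6 ∈ S.Q) (h6t : f 6 ≠ S.t) (h61 : f 6 ≠ 1) (hP : Nat.card P = 8)
    (hstab : ∀ c : ↥(centralizer ({S.t} : Set G)),
      S.proj c ∈ P ↔ (c : G) * f 6 * (c : G)⁻¹ * (f 6)⁻¹ ∈ zpowers S.t) :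
    ∀ y ∈ S.Q, y ≠ S.t → IsConj S.t y →
      ∃ c ∈ centralizer ({S.t} : Set G), c * f 6 * c⁻¹ = y := by
  intro y hy hyt hcy
  obtain ⟨-, P', -, -, hP', hstab'⟩ := S.in_tensor hT hy hyt hcy
  obtain ⟨k, hk⟩ := Fus.p3_conj hP' hP
  obtain ⟨c, rfl⟩ := S.proj_surj k
  have hct : (c : G) * S.t = S.t * (c : G) := mem_centralizer_singleton_iff.1 c.2
  set y2 := (c : G) * y * (c : G)⁻¹ with hy2
  have hy2Q : y2 ∈ S.Q := S.conj_mem hct hy
  have hfix : ∀ i < 3, f i * y2 * (f i)⁻¹ * y2⁻¹ ∈ zpowers S.t := by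
    intro i hi
    have hiC : f i ∈ centralizer ({S.t} : Set G) := by
      rw [← hf.gen]; exact subset_closure ⟨i, show i < 7 by omega, rfl⟩
    have hr : wprod f [i, 6, i, 6] ∈ zpowers S.t := hf.rels _ (by
      rcases (show i = 0 ∨ i = 1 ∨ i = 2 by omega) with rfl | rfl | rfl <;> decide)
    have hii : f i * f i ∈ zpowers S.t := by
      have := hf.rels [i, i] (by
        rcases (show i = 0 ∨ i = 1 ∨ i = 2 by omega) with rfl | rfl | rfl <;> decide)
      simpa [wprod] using this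
    have h66 : f 6 * f 6 ∈ zpowers S.t := S.Q_sq _ h6
    simp only [wprod, List.map_cons, List.map_nil, List.prod_cons, List.prod_nil, mul_one] at hr
    have hz : ∀ g ∈ centralizer ({S.t} : Set G), ∀ w ∈ zpowers S.t, g * w = w * g :=
      fun g hg w hw => by
        rcases S.mem_zp.1 hw with e | e <;> rw [e]
        · rw [mul_one, one_mul]
        · exact mem_centralizer_singleton_iff.1 hg
    have hmem : S.proj ⟨f i, hiC⟩ ∈ P := by
      rw [hstab]
      show f i * f 6 * (f i)⁻¹ * (f 6)⁻¹ ∈ zpowers S.t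
      have e : f i * f 6 * (f i)⁻¹ * (f 6)⁻¹ =
          f i * (f 6 * ((f i * f i)⁻¹ * (f i * (f 6 * (f 6)⁻¹ * (f 6)⁻¹)))) := by group
      rw [e, show f 6 * (f 6)⁻¹ * (f 6)⁻¹ = f 6 * (f 6 * f 6)⁻¹ by group,
        ← mul_assoc (f 6) ((f i * f i)⁻¹), hz _ (S.Q_le h6) _ (inv_mem hii), mul_assoc,
        ← mul_assoc (f i) ((f i * f i)⁻¹), hz _ hiC _ (inv_mem hii), mul_assoc]
      refine mul_mem (inv_mem hii) ?_
      rw [show f i * (f 6 * (f i * (f 6 * (f 6 * f 6)⁻¹))) =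
        (f i * (f 6 * (f i * f 6))) * (f 6 * f 6)⁻¹ by group]
      exact mul_mem hr (inv_mem h66)
    have h1 : S.proj (c⁻¹ * ⟨f i, hiC⟩ * c) ∈ P' := by
      rw [hk]
      simpa [mul_assoc] using hmem
    have h2 := (hstab' _).1 h1
    simp only [Subgroup.coe_mul, Subgroup.coe_inv] at h2
    have e : f i * y2 * (f i)⁻¹ * y2⁻¹ = (c : G) * ((c : G)⁻¹ * f i * (c : G) * y *
        ((c : G)⁻¹ * f i * (c : G))⁻¹ * y⁻¹) * (c : G)⁻¹ := by
      rw [hy2]; group
    rw [e, hz _ c.2 _ h2, mul_inv_cancel_right]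
    exact h2
  have hne : y2 ≠ S.t ∧ y2 ≠ 1 := by
    constructor <;> intro e <;> rw [hy2] at e
    · refine hyt ?_
      calc y = (c : G)⁻¹ * ((c : G) * y * (c : G)⁻¹) * (c : G) := by group
        _ = S.t := by rw [e, mul_assoc, ← hct, inv_mul_cancel_left]
    · have hy1 : y = 1 := conj_eq_one_iff.1 e
      obtain ⟨g, hg⟩ := isConj_iff.1 hcy
      rw [hy1] at hg
      exact S.t_ne (conj_eq_one_iff.1 hg)
  have hfin : ∃ d ∈ centralizer ({S.t} : Set G), d * y * d⁻¹ = f 6 := by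
    rcases S.tensor_fixed hf hy2Q hfix with e | e | e | e
    · exact absurd e hne.2
    · exact absurd e hne.1
    · exact ⟨c, c.2, e⟩
    · obtain ⟨q, hq, hqy⟩ := S.exists_mover h6 h61 h6t
      refine ⟨q * (c : G), mul_mem (S.Q_le hq) c.2, ?_⟩
      calc q * (c : G) * y * (q * (c : G))⁻¹ = q * y2 * q⁻¹ := by rw [hy2]; group
        _ = (q * f 6 * q⁻¹) * (q * S.t * q⁻¹) := by rw [e]; group
        _ = f 6 := by
          rw [hqy, S.t_comm hq, mul_inv_cancel_right, mul_assoc, S.t_comm h6, ← mul_assoc, S.t_sq,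
            one_mul]
  obtain ⟨d, hd, hdy⟩ := hfin
  exact ⟨d⁻¹, inv_mem hd, by rw [← hdy]; group⟩

theorem fusion (hM : S.Mixed) (hN : S.NoFixed) (hT : S.TensorOf) :
    (∀ g : G, g * S.t * g⁻¹ * S.t⁻¹ ∈ Cfsg.oddCore G) ∨
      ∃ f : ℕ → G, S.Tensor f ∧ S.Fused f := by
  by_cases hiso : Cfsg.IsIsolatedInvolution S.t
  · refine Or.inl fun g => ?_
    have h := CfsgLib.Invol.zstar G hiso g
    have e : g * S.t * g⁻¹ * S.t⁻¹ = (S.t * g * S.t⁻¹ * g⁻¹)⁻¹ := by group
    rw [e]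
    exact inv_mem h
  refine Or.inr ?_
  by_cases hin : ∃ y ∈ S.Q, y ≠ S.t ∧ IsConj S.t y
  · obtain ⟨y, hy, hyt, hcy⟩ := hin
    obtain ⟨f, P, hf, rfl, hP, hstab⟩ := S.in_tensor hT hy hyt hcy
    obtain ⟨g, hg⟩ := isConj_iff.1 hcy
    have h61 : f 6 ≠ 1 := fun e => S.t_ne (conj_eq_one_iff.1 (hg.trans e))
    have hpure := S.pure_of_tensor hT hf hy hyt h61 hP hstab
    obtain ⟨q, hq, hqe⟩ : S.t ∈ (S.conj g).Q := S.pack.mem_conj (g := g) (hg ▸ hy)
    have hqe' : g * q * g⁻¹ = S.t := hqe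
    have hqeq : q = g⁻¹ * S.t * g := by rw [← hqe']; group
    have hqt : q ≠ S.t := fun e => hyt (by rw [← hg, ← e, hqe', e])
    obtain ⟨c, hc, hce⟩ := hpure q hq hqt (isConj_iff.2 ⟨g⁻¹, by rw [hqeq]; group⟩)
    refine ⟨f, hf, ⟨g * c, ?_, ?_⟩, hpure⟩
    · rw [show g * c * S.t * (g * c)⁻¹ = g * (c * S.t * c⁻¹) * g⁻¹ by group,
        mem_centralizer_singleton_iff.1 hc, mul_inv_cancel_right, hg]
    · rw [show g * c * f 6 * (g * c)⁻¹ = g * (c * f 6 * c⁻¹) * g⁻¹ by group, hce, hqe']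
  · exfalso
    push Not at hin
    have hiso' : ∃ g, Commute S.t (g * S.t * g⁻¹) ∧ g * S.t * g⁻¹ ≠ S.t := by
      by_contra hh
      push Not at hh
      exact hiso ⟨S.t_ord, hh⟩
    obtain ⟨g, hcomm, hne⟩ := hiso'
    have O : Out S (S.conj g) :=
      { ne := hne
        comm := hcomm
        isConj := isConj_iff.2 ⟨g, rfl⟩
        iso := fun y hy h => by
          by_contra hyt
          exact hin y hy hyt h
        iso' := by
          rintro _ ⟨q, hq, rfl⟩ h
          show g * q * g⁻¹ = g * S.t * g⁻¹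
          have h' : IsConj S.t q := h.trans (isConj_iff.2 ⟨g⁻¹, by
            show g⁻¹ * (g * q * g⁻¹) * g⁻¹⁻¹ = q
            group⟩)
          have : q = S.t := by
            by_contra hyt
            exact hin q hq hyt h'
          rw [this] }
    exact O.false hM hN

end Setup

end CfsgLib.Recog.OEightCent
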