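import Cfsg.Agent.Lib.Recog.OEightCent.FusionPair

/-!
A commuting conjugate `t'` outside `Q` when `t` is the only conjugate in `Q`: the commutator group
`[Q, t']⟨t⟩` and the orders it forces.
-/

set_option autoImplicit false
set_option linter.unusedSectionVars false

namespace CfsgLib.Recog.OEightCent

open Subgroup

variable {G : Type*} [Group G]

/-- `t'` commutes with `t`, is conjugate to it, and neither extraspecial group contains another conjugate. -/
structure Out (S S' : Setup G) : Prop where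
  ne : S'.t ≠ S.t
  comm : S.t * S'.t = S'.t * S.t
  isConj : IsConj S.t S'.t
  iso : ∀ y ∈ S.Q, IsConj S.t y → y = S.t
  iso' : ∀ y ∈ S'.Q, IsConj S.t y → y = S'.t

namespace Out

variable {S S' : Setup G} (O : Out S S')
include O

theorem symm : Out S' S where
  ne := O.ne.symm
  comm := O.comm.symm
  isConj := O.isConj.symm
  iso := fun y hy h => O.iso' y hy (O.isConj.trans h)
  iso' := fun y hy h => O.iso y hy (O.isConj.trans h)

theorem not_mem : S'.t ∉ S.Q := fun h => O.ne (O.iso _ h O.isConj)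

theorem not_mem' : S.t ∉ S'.Q := fun h => O.ne (O.iso' _ h (IsConj.refl _)).symm

theorem conj_mem_Q {q : G} (hq : q ∈ S.Q) : S'.t * q * S'.t ∈ S.Q := by
  have h := S.conj_mem O.comm.symm hq
  rwa [S'.t_inv] at h

omit O in
/-- The commutator with `t'`. -/
def v (S' : Setup G) (w : G) : G := w * S'.t * w⁻¹ * S'.t

omit O in
theorem v_one : v S' 1 = 1 := by simp [v, S'.t_sq]

theorem v_mem {w : G} (hw : w ∈ S.Q) : v S' w ∈ S.Q := by
  have e : v S' w = w * (S'.t * w⁻¹ * S'.t) := by simp only [v, mul_assoc]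
  rw [e]
  exact mul_mem hw (O.conj_mem_Q (inv_mem hw))

omit O in
theorem v_eq (w : G) : v S' w = w * S'.t * w⁻¹ * S'.t⁻¹ := by rw [v, S'.t_inv]

omit O in
theorem v_mul (a b : G) : v S' (a * b) = a * v S' b * a⁻¹ * v S' a := by
  rw [v_eq, v_eq, v_eq]
  group

theorem v_inv_conj {w : G} : S'.t * v S' w * S'.t = (v S' w)⁻¹ := by
  simp only [v, mul_inv_rev, inv_inv, S'.t_inv, mul_assoc, S'.t_sq, mul_one]

theorem inf_zp : ∀ x ∈ S.Q ⊓ S'.Q, x ∈ zpowers S.t → x = 1 := fun x hx hz => by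
  rcases S.mem_zp.1 hz with e | e
  · exact e
  · exact absurd (e ▸ hx.2) O.not_mem'

theorem conj_t' {x : G} (hx : x ∈ S.Q) (hx' : S'.t * x * S'.t = x⁻¹) :
    x * S'.t * x⁻¹ = S'.t ∨ x * S'.t * x⁻¹ = S.t * S'.t := by
  have e : x * S'.t * x⁻¹ = x * x * S'.t := by
    calc x * S'.t * x⁻¹ = x * S'.t * (S'.t * x * S'.t) := by rw [hx']
      _ = x * (S'.t * S'.t) * x * S'.t := by group
      _ = _ := by rw [S'.t_sq, mul_one]
  rcases S.mul_self_cases hx with h | h <;> rw [e, h]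
  · exact Or.inl (one_mul _)
  · exact Or.inr rfl

/-- Elements sent to their inverses by `t'` commute with every commutator. -/
theorem comm_v {x : G} (hx : x ∈ S.Q) (hx' : S'.t * x * S'.t = x⁻¹) {a : G} (ha : a ∈ S.Q) :
    x * v S' a = v S' a * x := by
  have hz : ∀ y : G, y * S.t = S.t * y → S.t * y * S.t = y := fun y hy => by
    rw [mul_assoc, hy, ← mul_assoc, S.t_sq, one_mul]
  have hta := S.t_comm ha
  have key : x * v S' a * x⁻¹ =
      (x * a * x⁻¹) * (x * S'.t * x⁻¹) * (x * a * x⁻¹)⁻¹ * (x * S'.t * x⁻¹) := by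
    rw [v]; group
  refine mul_inv_eq_iff_eq_mul.1 ?_
  rw [key]
  have hc1 : Commute S.t a := hta.symm
  have hc2 : Commute S.t S'.t := O.comm
  rcases S.conj_cases hx ha with e1 | e1 <;> rcases O.conj_t' hx hx' with e2 | e2 <;>
    rw [e1, e2]
  · rfl
  · calc a * (S.t * S'.t) * a⁻¹ * (S.t * S'.t)
        = (a * S.t) * S'.t * (a⁻¹ * S.t) * S'.t := by group
      _ = S.t * (a * S'.t) * (S.t * a⁻¹) * S'.t := by rw [hta, (hc1.inv_right).eq]; group
      _ = S.t * S.t * (a * S'.t * a⁻¹ * S'.t) := by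
          have : Commute S.t (a * S'.t) := hc1.mul_right hc2
          rw [show S.t * (a * S'.t) * (S.t * a⁻¹) * S'.t =
            S.t * (a * S'.t * S.t) * a⁻¹ * S'.t by group, ← this.eq]
          group
      _ = _ := by rw [S.t_sq, one_mul]; rfl
  · calc S.t * a * S'.t * (S.t * a)⁻¹ * S'.t
        = S.t * (a * S'.t * a⁻¹) * S.t⁻¹ * S'.t := by group
      _ = _ := by
          have : Commute S.t (a * S'.t * a⁻¹) := (hc1.mul_right hc2).mul_right hc1.inv_right
          rw [this.eq, mul_inv_cancel_right]; rfl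
  · have : Commute S.t (a * S'.t * a⁻¹) := (hc1.mul_right hc2).mul_right hc1.inv_right
    calc S.t * a * (S.t * S'.t) * (S.t * a)⁻¹ * (S.t * S'.t)
        = S.t * (a * S.t) * S'.t * a⁻¹ * (S.t⁻¹ * S.t) * S'.t := by group
      _ = S.t * (S.t * a) * S'.t * a⁻¹ * S'.t := by rw [hta]; group
      _ = _ := by rw [← mul_assoc S.t S.t a, S.t_sq, one_mul]; rfl

theorem v_comm {a b : G} (ha : a ∈ S.Q) (hb : b ∈ S.Q) : v S' a * v S' b = v S' b * v S' a :=
  O.comm_v (O.v_mem ha) O.v_inv_conj hb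

theorem cent_v {x : G} (hx : x ∈ S.Q) (hx' : S'.t * x = x * S'.t) {a : G} (ha : a ∈ S.Q) :
    x * v S' a = v S' a * x := by
  rcases S.mul_self_cases hx with e | e
  · refine O.comm_v hx ?_ ha
    rw [hx', mul_assoc, S'.t_sq, mul_one]
    exact (inv_eq_of_mul_eq_one_right e).symm
  · -- `x` of order four
    have key : x * v S' a * x⁻¹ =
        (x * a * x⁻¹) * (x * S'.t * x⁻¹) * (x * a * x⁻¹)⁻¹ * (x * S'.t * x⁻¹) := by
      rw [v]; group
    refine mul_inv_eq_iff_eq_mul.1 ?_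
    rw [key, show x * S'.t * x⁻¹ = S'.t by rw [← hx', mul_inv_cancel_right]]
    have hca : Commute S.t a := (S.t_comm ha).symm
    have hc2 : Commute S.t S'.t := O.comm
    have hc : Commute S.t (a * S'.t * a⁻¹) := (hca.mul_right hc2).mul_right hca.inv_right
    rcases S.conj_cases hx ha with e1 | e1 <;> rw [e1]
    · rfl
    · calc S.t * a * S'.t * (S.t * a)⁻¹ * S'.t = S.t * (a * S'.t * a⁻¹) * S.t⁻¹ * S'.t := by group
        _ = _ := by rw [hc.eq, mul_inv_cancel_right]; rfl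

theorem v_mul_mem {a b : G} (ha : a ∈ S.Q) (hb : b ∈ S.Q) :
    (v S' a * v S' b)⁻¹ * v S' (a * b) ∈ zpowers S.t := by
  rw [v_mul, O.v_comm ha hb]
  have hvb := O.v_mem hb
  have hva := O.v_mem ha
  rcases S.conj_cases ha hvb with e | e <;> rw [e]
  · rw [inv_mul_cancel]; exact one_mem _
  · rw [show S.t * v S' b * v S' a = v S' b * v S' a * S.t by
      rw [mul_assoc, ← S.t_comm (mul_mem hvb hva)], inv_mul_cancel_left]
    exact mem_zpowers _

/-- `[Q, t']⟨t⟩`. -/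
def R : Subgroup G where
  carrier := {y | ∃ w ∈ S.Q, ∃ e ∈ zpowers S.t, y = v S' w * e}
  one_mem' := ⟨1, one_mem _, 1, one_mem _, by rw [v_one, one_mul]⟩
  mul_mem' := by
    rintro _ _ ⟨a, ha, e, he, rfl⟩ ⟨b, hb, e', he', rfl⟩
    refine ⟨a * b, mul_mem ha hb, ((v S' a * v S' b)⁻¹ * v S' (a * b))⁻¹ * (e * e'),
      mul_mem (inv_mem (O.v_mul_mem ha hb)) (mul_mem he he'), ?_⟩
    have hec : e * v S' b = v S' b * e := by
      rcases S.mem_zp.1 he with h | h <;> rw [h]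
      · rw [one_mul, mul_one]
      · exact (S.t_comm (O.v_mem hb)).symm
    calc v S' a * e * (v S' b * e') = v S' a * (e * v S' b) * e' := by group
      _ = _ := by rw [hec]; group
  inv_mem' := by
    rintro _ ⟨w, hw, e, he, rfl⟩
    have hm : v S' w * e ∈ S.Q := mul_mem (O.v_mem hw) ((zpowers_le.2 S.t_mem) he)
    refine ⟨w, hw, e * (v S' w * e * (v S' w * e))⁻¹, mul_mem he (inv_mem (S.Q_sq _ hm)), ?_⟩
    group

theorem mem_R {y : G} : y ∈ O.R ↔ ∃ w ∈ S.Q, y = v S' w ∨ y = v S' w * S.t := by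
  constructor
  · rintro ⟨w, hw, e, he, rfl⟩
    rcases S.mem_zp.1 he with h | h
    · exact ⟨w, hw, Or.inl (by rw [h, mul_one])⟩
    · exact ⟨w, hw, Or.inr (by rw [h])⟩
  · rintro ⟨w, hw, rfl | rfl⟩
    · exact ⟨w, hw, 1, one_mem _, (mul_one _).symm⟩
    · exact ⟨w, hw, S.t, mem_zpowers _, rfl⟩

theorem R_le : O.R ≤ S.Q := by
  rintro _ ⟨w, hw, e, he, rfl⟩
  exact mul_mem (O.v_mem hw) ((zpowers_le.2 S.t_mem) he)

theorem t_mem_R : S.t ∈ O.R := O.mem_R.2 ⟨1, one_mem _, Or.inr (by rw [v_one, one_mul])⟩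

theorem v_mem_R {w : G} (hw : w ∈ S.Q) : v S' w ∈ O.R := O.mem_R.2 ⟨w, hw, Or.inl rfl⟩

theorem comm_R_of {x : G} (hx : x ∈ S.Q) (h : ∀ a ∈ S.Q, x * v S' a = v S' a * x) :
    ∀ y ∈ O.R, x * y = y * x := by
  rintro _ ⟨w, hw, e, he, rfl⟩
  rcases S.mem_zp.1 he with rfl | rfl
  · rw [mul_one]; exact h w hw
  · rw [← mul_assoc, h w hw, mul_assoc, S.t_comm hx, mul_assoc]

theorem R_comm : ∀ a ∈ O.R, ∀ b ∈ O.R, a * b = b * a := by
  intro a ha
  refine O.comm_R_of (O.R_le ha) fun w hw => ?_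
  exact (O.comm_R_of (O.v_mem hw) (fun u hu => O.v_comm hw hu) a ha).symm

theorem cent_R {x : G} (hx : x ∈ S.Q ⊓ centralizer ({S'.t} : Set G)) : ∀ y ∈ O.R, x * y = y * x :=
  O.comm_R_of hx.1 fun _ ha => O.cent_v hx.1 (mem_centralizer_singleton_iff.1 hx.2).symm ha

variable [Finite G]

/-- The kernel of `w ↦ [w, t']` modulo `t`. -/
def K : Subgroup G where
  carrier := {w | w ∈ S.Q ∧ v S' w ∈ zpowers S.t}
  one_mem' := ⟨one_mem _, by rw [v_one]; exact one_mem _⟩
  mul_mem' := fun {a b} ha hb => ⟨mul_mem ha.1 hb.1, by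
    have := mul_mem (mul_mem ha.2 hb.2) (O.v_mul_mem ha.1 hb.1)
    rwa [mul_inv_cancel_left] at this⟩
  inv_mem' := fun {a} ha => ⟨inv_mem ha.1, by
    have h1 := O.v_mul_mem ha.1 (inv_mem ha.1)
    rw [mul_inv_cancel, v_one, mul_one, mul_inv_rev] at h1
    have h2 := mul_mem h1 ha.2
    rw [inv_mul_cancel_right] at h2
    simpa using inv_mem h2⟩

theorem card_KR : Nat.card O.K * Nat.card O.R = 1024 := by
  classical
  let f : S.Q × zpowers S.t → O.R := fun z =>
    ⟨v S' (z.1 : G) * (z.2 : G), (z.1 : G), z.1.2, (z.2 : G), z.2.2, rfl⟩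
  have hfib : ∀ y : O.R, Nat.card {z // f z = y} = Nat.card O.K := by
    rintro ⟨y, w₀, hw₀, e₀, he₀, rfl⟩
    have hk : ∀ k : O.K, (v S' (w₀ * (k : G)))⁻¹ * (v S' w₀ * e₀) ∈ zpowers S.t := by
      intro k
      have h1 := inv_mem (mul_mem k.2.2 (O.v_mul_mem hw₀ k.2.1))
      have h2 := mul_mem h1 he₀
      convert h2 using 1
      group
    refine Nat.card_congr
      { toFun := fun z => ⟨w₀⁻¹ * (z.1.1 : G), mul_mem (inv_mem hw₀) z.1.1.2, ?_⟩
        invFun := fun k => ⟨(⟨w₀ * (k : G), mul_mem hw₀ k.2.1⟩, ⟨_, hk k⟩),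
          Subtype.ext (by simp only [f]; group)⟩
        left_inv := ?_
        right_inv := fun k => Subtype.ext (by simp) }
    · have e : v S' (z.1.1 : G) * (z.1.2 : G) = v S' w₀ * e₀ := congrArg Subtype.val z.2
      have h1 := O.v_mul_mem hw₀ (mul_mem (inv_mem hw₀) z.1.1.2)
      rw [mul_inv_cancel_left, mul_inv_rev, mul_assoc] at h1
      have h2 : (v S' w₀)⁻¹ * v S' (z.1.1 : G) ∈ zpowers S.t := by
        rw [eq_mul_inv_of_mul_eq e, ← mul_assoc, ← mul_assoc, inv_mul_cancel, one_mul]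
        exact mul_mem he₀ (inv_mem z.1.2.2)
      have h3 := mul_mem h2 (inv_mem h1)
      convert h3 using 1
      group
    · rintro ⟨⟨w, e⟩, he⟩
      have he' : v S' (w : G) * (e : G) = v S' w₀ * e₀ := congrArg Subtype.val he
      apply Subtype.ext
      refine Prod.ext (Subtype.ext (by simp)) (Subtype.ext ?_)
      simp [← he']
  have h := Nat.card_congr (Equiv.sigmaFiberEquiv f)
  have := Fintype.ofFinite O.R
  rw [Nat.card_sigma, Finset.sum_congr rfl (fun y _ => hfib y), Finset.sum_const, Finset.card_univ,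
    ← Nat.card_eq_fintype_card, smul_eq_mul, Nat.card_prod, S.Q_card, Nat.card_zpowers, S.t_ord] at h
  rw [mul_comm, h]; norm_num

theorem inf_R_trivial {x w : G} (hx : x ∈ S.Q ⊓ S'.Q) (hw : w ∈ S.Q) (e : x = v S' w) : x = 1 := by
  have hm : x * S'.t ∈ S'.Q := mul_mem hx.2 S'.t_mem
  have he : x * S'.t = w * S'.t * w⁻¹ := by
    rw [e, v, mul_assoc _ S'.t S'.t, S'.t_sq, mul_one]
  have h1 := O.iso' _ hm (O.isConj.trans (isConj_iff.2 ⟨w, he.symm⟩))
  exact mul_eq_right.1 h1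

theorem X_le_D : S.Q ⊓ S'.Q ≤ S.Q ⊓ centralizer ({S'.t} : Set G) :=
  inf_le_inf_left _ S'.Q_le

theorem card_XR :
    Nat.card (S.Q ⊓ S'.Q : Subgroup G) * Nat.card O.R ≤
      32 * Nat.card (S.Q ⊓ S'.Q ⊓ O.R : Subgroup G) := by
  set X : Subgroup G := S.Q ⊓ S'.Q
  have hn : O.R ≤ normalizer (X : Set G) := fun r hr => mem_normalizer_iff.2 fun x => by
    have key : ∀ y ∈ X, r * y * r⁻¹ = y := fun y hy =>
      mul_inv_eq_iff_eq_mul.2 (O.cent_R (O.X_le_D hy) r hr).symm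
    refine ⟨fun hx => (key x hx).symm ▸ hx, fun hx => ?_⟩
    have h1 := key _ hx
    have h2 : r * x * r⁻¹ = x :=
      mul_left_cancel (mul_right_cancel h1)
    exact h2 ▸ hx
  rw [CfsgLib.PLocal.card_mul_card_eq_of_normalizes hn]
  refine Nat.mul_le_mul_right _ (S.card_abelian_le _ (sup_le inf_le_left O.R_le) ?_)
  intro a ha b hb
  have hcomm : ∀ y ∈ (X : Set G) ∪ O.R, ∀ z ∈ (X : Set G) ∪ O.R, y * z = z * y := by
    rintro y (hy | hy) z (hz | hz)
    · exact S.inf_commutes S' O.ne hy hz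
    · exact O.cent_R (O.X_le_D hy) z hz
    · exact (O.cent_R (O.X_le_D hz) y hy).symm
    · exact O.R_comm y hy z hz
  have hle : X ⊔ O.R ≤ centralizer ((X : Set G) ∪ O.R) :=
    sup_le (fun y hy => mem_centralizer_iff.2 fun z hz => hcomm z hz y (Or.inl hy))
      (fun y hy => mem_centralizer_iff.2 fun z hz => hcomm z hz y (Or.inr hy))
  have hsup : centralizer ((X ⊔ O.R : Subgroup G) : Set G) = centralizer ((X : Set G) ∪ O.R) := by
    conv_lhs => rw [← closure_eq X, ← closure_eq O.R, ← Subgroup.closure_union]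
    exact Subgroup.centralizer_closure _
  exact (mem_centralizer_iff.1 (hsup ▸ hle ha) b hb).symm

theorem K_le : O.K ≤ S.Q := fun _ h => h.1

/-- Some commutator with `t'` equal to `t` is impossible. -/
theorem v_ne_t {w : G} (hw : w ∈ S.Q) : v S' w ≠ S.t := by
  classical
  intro h0
  have hY : ∀ x ∈ S.Q ⊓ S'.Q ⊓ O.R, x = 1 := by
    rintro x ⟨hx, hxR⟩
    obtain ⟨u, hu, e | e⟩ := O.mem_R.1 hxR
    · exact O.inf_R_trivial hx hu e
    · refine O.inf_R_trivial hx (mul_mem hu hw) ?_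
      rw [v_mul, h0, mul_inv_eq_iff_eq_mul.2 (S.t_comm hu), e]
      exact S.t_comm (O.v_mem hu)
  have h1 : Nat.card (S.Q ⊓ S'.Q ⊓ O.R : Subgroup G) = 1 :=
    Subgroup.card_eq_one.2 ((Subgroup.eq_bot_iff_forall _).2 hY)
  have hKD : Nat.card O.K ≤ 2 * Nat.card (S.Q ⊓ centralizer ({S'.t} : Set G) : Subgroup G) := by
    have hkey : ∀ k : O.K, v S' (k : G) = 1 → (k : G) ∈ S.Q ⊓ centralizer ({S'.t} : Set G) :=
      fun k hk => ⟨k.2.1, mem_centralizer_singleton_iff.2 (mul_inv_eq_iff_eq_mul.1 (by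
        rw [v] at hk
        rw [eq_inv_of_mul_eq_one_left hk, S'.t_inv]))⟩
    have hkey' : ∀ k : O.K, v S' (k : G) ≠ 1 → v S' (w⁻¹ * (k : G)) = 1 := by
      intro k hk
      have ek : v S' (k : G) = S.t := (S.mem_zp.1 k.2.2).resolve_left hk
      have := v_mul (S' := S') w (w⁻¹ * (k : G))
      rw [mul_inv_cancel_left, ek, h0] at this
      have h2 : w * v S' (w⁻¹ * (k : G)) * w⁻¹ = 1 := mul_eq_right.1 this.symm
      exact conj_eq_one_iff.1 h2
    let g : O.K → Bool × (S.Q ⊓ centralizer ({S'.t} : Set G) : Subgroup G) := fun k =>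
      if hk : v S' (k : G) = 1 then (true, ⟨k, hkey k hk⟩)
      else (false, ⟨w⁻¹ * (k : G), hkey ⟨w⁻¹ * (k : G), mul_mem (inv_mem hw) k.2.1, by
        rw [hkey' k hk]; exact one_mem _⟩ (hkey' k hk)⟩)
    have hg : Function.Injective g := by
      intro k l e
      simp only [g] at e
      split_ifs at e with hk hl hl
      · exact Subtype.ext (congrArg (fun z => (z.2 : G)) e)
      · exact absurd (congrArg Prod.fst e) (by simp)
      · exact absurd (congrArg Prod.fst e) (by simp)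
      · exact Subtype.ext (mul_left_cancel (congrArg (fun z => (z.2 : G)) e))
    have := Nat.card_le_card_of_injective g hg
    rwa [Nat.card_prod, Nat.card_eq_fintype_card (α := Bool), Fintype.card_bool] at this
  have hD := S'.card_cent_le S
  rw [inf_comm S'.Q S.Q] at hD
  have hXR := O.card_XR
  rw [h1] at hXR
  have hKR := O.card_KR
  nlinarith [Nat.mul_le_mul_right (Nat.card O.R) (hKD.trans (Nat.mul_le_mul_left 2 hD))]

theorem K_eq : O.K = S.Q ⊓ centralizer ({S'.t} : Set G) := by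
  ext k
  constructor
  · rintro ⟨hk, hv⟩
    have hk1 := (S.mem_zp.1 hv).resolve_right (O.v_ne_t hk)
    rw [v] at hk1
    exact ⟨hk, mem_centralizer_singleton_iff.2 (mul_inv_eq_iff_eq_mul.1
      (by rw [eq_inv_of_mul_eq_one_left hk1, S'.t_inv]))⟩
  · rintro ⟨hk, hc⟩
    refine ⟨hk, ?_⟩
    have e : v S' k = 1 := by
      rw [v, mem_centralizer_singleton_iff.1 hc, mul_inv_cancel_right, S'.t_sq]
    rw [e]; exact one_mem _

theorem v_sq {w : G} (hw : w ∈ S.Q) : v S' w * v S' w = 1 := by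
  refine (S.mul_self_cases (O.v_mem hw)).resolve_right fun h => O.v_ne_t (O.v_mem hw) ?_
  have hi : S'.t * (v S' w)⁻¹ * S'.t = v S' w := by
    rw [← O.v_inv_conj (w := w)]
    simp only [← mul_assoc, S'.t_sq, one_mul]
    rw [mul_assoc, S'.t_sq, mul_one]
  show v S' w * S'.t * (v S' w)⁻¹ * S'.t = S.t
  rw [mul_assoc, mul_assoc, ← mul_assoc S'.t, hi, h]

theorem R_le_D : O.R ≤ S.Q ⊓ centralizer ({S'.t} : Set G) := by
  intro y hy
  refine ⟨O.R_le hy, mem_centralizer_singleton_iff.2 ?_⟩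
  obtain ⟨w, hw, e | e⟩ := O.mem_R.1 hy <;> subst e
  · have hi : S'.t * v S' w * S'.t = v S' w :=
      O.v_inv_conj.trans (inv_eq_of_mul_eq_one_right (O.v_sq hw))
    calc v S' w * S'.t = S'.t * v S' w * S'.t * S'.t := by rw [hi]
      _ = _ := by rw [mul_assoc, S'.t_sq, mul_one]
  · have hi : S'.t * v S' w * S'.t = v S' w :=
      O.v_inv_conj.trans (inv_eq_of_mul_eq_one_right (O.v_sq hw))
    calc v S' w * S.t * S'.t = S'.t * v S' w * S'.t * (S.t * S'.t) := by rw [hi, mul_assoc]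
      _ = _ := by rw [O.comm, ← mul_assoc, mul_assoc _ S'.t S'.t, S'.t_sq, mul_one, mul_assoc]

theorem comm_self {w : G} (hw : w ∈ S.Q) : w * v S' w = v S' w * w := by
  set u := S'.t * w⁻¹ * S'.t with hu
  have huQ : u ∈ S.Q := O.conj_mem_Q (inv_mem hw)
  have hv : v S' w = w * u := by rw [v, hu]; group
  have huu : u * u = w⁻¹ * w⁻¹ := by
    rcases S.mul_self_cases (inv_mem hw) with h | h
    · rw [h, hu]
      calc _ = S'.t * w⁻¹ * (S'.t * S'.t) * w⁻¹ * S'.t := by group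
        _ = S'.t * (w⁻¹ * w⁻¹) * S'.t := by rw [S'.t_sq]; group
        _ = 1 := by rw [h, mul_one, S'.t_sq]
    · rw [h, hu]
      calc _ = S'.t * w⁻¹ * (S'.t * S'.t) * w⁻¹ * S'.t := by group
        _ = S'.t * (w⁻¹ * w⁻¹) * S'.t := by rw [S'.t_sq]; group
        _ = S.t := by rw [h, ← O.comm, mul_assoc, S'.t_sq, mul_one]
  rcases S.conj_cases hw huQ with e | e
  · have h1 := mul_inv_eq_iff_eq_mul.1 e
    rw [hv, mul_assoc w u w, ← h1]
  · exfalso
    have h1 := O.v_sq hw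
    rw [hv] at h1
    have e' : u * w = S.t * (w * u) := by
      rw [mul_inv_eq_iff_eq_mul.1 e, ← mul_assoc, ← mul_assoc, S.t_sq, one_mul]
    have h2 : w * (u * w) * u = 1 := by rw [← h1]; group
    rw [e'] at h2
    have h3 : S.t * (w * (w * (u * u))) = 1 := by
      rw [← h2, show w * (S.t * (w * u)) * u = (w * S.t) * (w * (u * u)) by group, S.t_comm hw]
      group
    rw [huu, mul_inv_cancel_left, mul_inv_cancel, mul_one] at h3
    exact S.t_ne h3

/-- The form `(a, b) ↦ [a, [b, t']]` is symmetric. -/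
theorem comm_symm {a b : G} (ha : a ∈ S.Q) (hb : b ∈ S.Q) :
    a * v S' b = v S' b * a ↔ b * v S' a = v S' a * b := by
  have hv : ∀ c : G, v S' c = c * (S'.t * c⁻¹ * S'.t) := fun c => by simp only [v, mul_assoc]
  have ha' := O.conj_mem_Q (inv_mem ha)
  have hb' := O.conj_mem_Q (inv_mem hb)
  have key : a * (S'.t * b⁻¹ * S'.t) = S'.t * b⁻¹ * S'.t * a ↔
      b * (S'.t * a⁻¹ * S'.t) = S'.t * a⁻¹ * S'.t * b := by
    have hti := S'.t_inv
    let φ := MulAut.conj S'.t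
    have hφ : ∀ y, φ y = S'.t * y * S'.t := fun y => by rw [MulAut.conj_apply, hti]
    have hφφ : ∀ y, φ (φ y) = y := fun y => by
      rw [hφ, hφ]
      calc _ = (S'.t * S'.t) * y * (S'.t * S'.t) := by group
        _ = y := by rw [S'.t_sq, one_mul, mul_one]
    rw [← hφ, ← hφ, ← φ.injective.eq_iff, map_mul, map_mul, hφφ, Setup.comm_inv_iff, map_inv,
      Setup.comm_inv_iff]
    exact eq_comm
  rw [hv b, hv a, S.comm_mul_iff ha hb hb', S.comm_mul_iff hb ha ha', key, eq_comm (a := a * b)]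

theorem comm_t_mul {a y : G} (ha : a ∈ S.Q) : a * (y * S.t) = y * S.t * a ↔ a * y = y * a := by
  rw [mul_assoc y S.t a, ← S.t_comm ha, ← mul_assoc, ← mul_assoc, mul_left_inj]

/-- A nontrivial element of `Q ∩ Q'` in `[Q, t']⟨t⟩` is a commutator times `t`. -/
theorem exists_wit {x : G} (hx : x ∈ S.Q ⊓ S'.Q ⊓ O.R) (h1 : x ≠ 1) :
    ∃ a ∈ S.Q, x = v S' a * S.t := by
  obtain ⟨a, ha, e | e⟩ := O.mem_R.1 hx.2
  · exact absurd (O.inf_R_trivial hx.1 ha e) h1
  · exact ⟨a, ha, e⟩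

theorem wit_noncomm {x y a : G} (hx : x ∈ S.Q ⊓ S'.Q ⊓ O.R) (hy : y ∈ S.Q ⊓ S'.Q ⊓ O.R)
    (hy1 : y ≠ 1) (hxy : x ≠ y) (ha : a ∈ S.Q) (ea : x = v S' a * S.t) : a * y ≠ y * a := by
  obtain ⟨b, hb, eb⟩ := O.exists_wit hy hy1
  intro hc
  rw [eb, O.comm_t_mul ha] at hc
  have e : v S' (a * b) = x * y := by
    rw [v_mul, mul_inv_eq_iff_eq_mul.2 hc, ea, eb, O.v_comm hb ha]
    calc v S' a * v S' b = v S' a * v S' b * (S.t * S.t) := by rw [S.t_sq, mul_one]
      _ = v S' a * (v S' b * S.t) * S.t := by group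
      _ = v S' a * (S.t * v S' b) * S.t := by rw [S.t_comm (O.v_mem hb)]
      _ = _ := by group
  have h := O.inf_R_trivial (mul_mem hx.1 hy.1) (mul_mem ha hb) e.symm
  refine hxy ?_
  rw [eq_inv_of_mul_eq_one_left h, inv_eq_of_mul_eq_one_right (S.inf_sq S' O.ne hy.1)]

theorem XR_cases {x y u : G} (hx : x ∈ S.Q ⊓ S'.Q ⊓ O.R) (hy : y ∈ S.Q ⊓ S'.Q ⊓ O.R)
    (hu : u ∈ S.Q ⊓ S'.Q ⊓ O.R) (hx1 : x ≠ 1) (hy1 : y ≠ 1) (hxy : x ≠ y) :
    u = 1 ∨ u = x ∨ u = y ∨ u = x * y := by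
  by_contra hn
  push Not at hn
  obtain ⟨hu1, hux, huy, huxy⟩ := hn
  obtain ⟨a, ha, ea⟩ := O.exists_wit hx hx1
  have hy2 := S.inf_sq S' O.ne hy.1
  have h1 := O.wit_noncomm hx hy hy1 hxy ha ea
  have h2 := O.wit_noncomm hx hu hu1 (Ne.symm hux) ha ea
  have hyu1 : y * u ≠ 1 := fun e => huy (by
    rw [eq_inv_of_mul_eq_one_right e, inv_eq_of_mul_eq_one_right hy2])
  have hxyu : x ≠ y * u := fun e => huxy (by
    rw [S.inf_commutes S' O.ne hx.1 hy.1, e, ← mul_assoc, hy2, one_mul])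
  refine O.wit_noncomm hx (mul_mem hy hu) hyu1 hxyu ha ea ?_
  exact (S.comm_mul_iff ha hy.1.1 hu.1.1).2 (iff_of_false h1 h2)

theorem card_XR_le : Nat.card (S.Q ⊓ S'.Q ⊓ O.R : Subgroup G) ≤ 4 := by
  classical
  by_cases hall : ∀ x ∈ S.Q ⊓ S'.Q ⊓ O.R, x = 1
  · rw [(Subgroup.eq_bot_iff_forall _).2 hall, Subgroup.card_bot]; norm_num
  push Not at hall
  obtain ⟨x, hx, hx1⟩ := hall
  by_cases hall2 : ∀ y ∈ S.Q ⊓ S'.Q ⊓ O.R, y = 1 ∨ y = x
  · refine le_trans (Nat.card_le_card_of_injective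
      (fun u : (S.Q ⊓ S'.Q ⊓ O.R : Subgroup G) => decide ((u : G) = 1)) fun u v e => ?_)
      (by rw [Nat.card_eq_fintype_card, Fintype.card_bool]; norm_num)
    rcases hall2 u u.2 with a | a <;> rcases hall2 v v.2 with b | b <;>
      simp [a, b, hx1, Subtype.ext_iff] at e ⊢
  push Not at hall2
  obtain ⟨y, hy, hy1, hyx⟩ := hall2
  have hsub : ((S.Q ⊓ S'.Q ⊓ O.R : Subgroup G) : Set G) ⊆
      (({1, x, y, x * y} : Finset G) : Set G) := by
    intro u hu
    rcases O.XR_cases hx hy hu hx1 hy1 hyx.symm with e | e | e | e <;> simp [e]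
  have h := Nat.card_mono (Finset.finite_toSet _) hsub
  rw [Nat.card_coe_set_eq ((({1, x, y, x * y} : Finset G)) : Set G), Set.ncard_coe_finset] at h
  exact h.trans Finset.card_le_four

theorem orders :
    Nat.card (S.Q ⊓ centralizer ({S'.t} : Set G) : Subgroup G) =
        8 * Nat.card (S.Q ⊓ S'.Q : Subgroup G) ∧
      Nat.card (S.Q ⊓ S'.Q : Subgroup G) * Nat.card O.R = 128 ∧
      Nat.card (S.Q ⊓ S'.Q ⊓ O.R : Subgroup G) = 4 := by
  have h1 := O.card_KR
  rw [O.K_eq] at h1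
  have h2 := S'.card_cent_le S
  rw [inf_comm S'.Q S.Q] at h2
  have h3 := O.card_XR
  have h4 := O.card_XR_le
  have hR : 0 < Nat.card O.R := Nat.card_pos
  have h5 : Nat.card (S.Q ⊓ S'.Q : Subgroup G) * Nat.card O.R = 128 := by
    have := Nat.mul_le_mul_right (Nat.card O.R) h2
    nlinarith
  refine ⟨Nat.eq_of_mul_eq_mul_right hR (by rw [h1, mul_assoc, h5]; norm_num), h5, ?_⟩
  omega

/-- `|[Q, t']⟨t⟩|` is `8` or `32`. -/
theorem card_R : Nat.card O.R = 8 ∨ Nat.card O.R = 32 := by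
  classical
  obtain ⟨-, -, hY4⟩ := O.orders
  set Y : Subgroup G := S.Q ⊓ S'.Q ⊓ O.R with hY
  set P : Subgroup G := Y ⊔ zpowers S.t with hP
  have hn : zpowers S.t ≤ normalizer (Y : Set G) := by
    rw [zpowers_le]
    refine mem_normalizer_iff.2 fun u => ?_
    have key : ∀ z ∈ S.Q, S.t * z * S.t⁻¹ = z := fun z hz =>
      mul_inv_eq_iff_eq_mul.2 (S.t_comm hz).symm
    refine ⟨fun hu => (key u hu.1.1).symm ▸ hu, fun hu => ?_⟩
    have hk := key _ hu.1.1
    exact (mul_left_cancel (mul_right_cancel hk)) ▸ hu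
  have hP8 : Nat.card P = 8 := by
    have h := CfsgLib.PLocal.card_mul_card_eq_of_normalizes hn
    have hbot : Y ⊓ zpowers S.t = ⊥ :=
      (Subgroup.eq_bot_iff_forall _).2 fun u hu => O.inf_zp u hu.1.1 hu.2
    rw [hbot, Subgroup.card_bot, mul_one, hY4, Nat.card_zpowers, S.t_ord] at h
    exact h.symm
  have hPR : P ≤ O.R := sup_le inf_le_right (zpowers_le.2 O.t_mem_R)
  have h32 : Nat.card O.R ≤ 32 := S.card_abelian_le _ O.R_le O.R_comm
  obtain ⟨m, hm⟩ := hP8 ▸ Subgroup.card_dvd_of_le hPR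
  obtain ⟨j, -, hj⟩ := (Nat.dvd_prime_pow Nat.prime_two).1
    (S.Q_card ▸ Subgroup.card_dvd_of_le O.R_le)
  suffices h16 : Nat.card O.R ≠ 16 by
    have : j ≤ 5 := by
      by_contra hlt
      have := Nat.pow_le_pow_right (n := 2) (by norm_num) (show 6 ≤ j by omega)
      omega
    interval_cases j <;> omega
  intro h16
  obtain ⟨z, hz, hzP⟩ := SetLike.exists_of_lt (lt_of_le_of_ne hPR fun e => by
    rw [e, h16] at hP8; omega)
  obtain ⟨c, hc, e0, he0, ez⟩ := hz
  have hYbot : Y ≠ ⊥ := fun e => by rw [e, Subgroup.card_bot] at hY4; omega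
  obtain ⟨x, hx, hx1⟩ : ∃ x ∈ Y, x ≠ 1 := by
    by_contra hh
    push Not at hh
    exact hYbot ((Subgroup.eq_bot_iff_forall _).2 hh)
  obtain ⟨y, hy, hy1, hyx⟩ : ∃ y ∈ Y, y ≠ 1 ∧ y ≠ x := by
    by_contra hh
    push Not at hh
    have hsub : (Y : Set G) ⊆ (({1, x} : Finset G) : Set G) := fun u hu => by
      by_cases h1 : u = 1
      · simp [h1]
      · simp [hh u hu h1]
    have h := Nat.card_mono (Finset.finite_toSet _) hsub
    rw [Nat.card_coe_set_eq ((({1, x} : Finset G)) : Set G), Set.ncard_coe_finset] at h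
    have := h.trans Finset.card_le_two
    rw [show Nat.card ↥(Y : Set G) = 4 from hY4] at this
    omega
  obtain ⟨a, ha, ea⟩ := O.exists_wit hx hx1
  obtain ⟨b, hb, eb⟩ := O.exists_wit hy hy1
  have hax : a * x = x * a := by rw [ea, O.comm_t_mul ha]; exact O.comm_self ha
  have hby : b * y = y * b := by rw [eb, O.comm_t_mul hb]; exact O.comm_self hb
  have hbx := O.wit_noncomm hy hx hx1 hyx hb eb
  have hay := O.wit_noncomm hx hy hy1 hyx.symm ha ea
  have hmul : ∀ {p q w : G}, p ∈ S.Q → q ∈ S.Q → w ∈ S.Q →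
      (p * q * w = w * (p * q) ↔ (p * w = w * p ↔ q * w = w * q)) := fun hp hq hw => by
    rw [eq_comm, S.comm_mul_iff hw hp hq]
    exact iff_congr eq_comm eq_comm
  have hfix : ∀ u ∈ S.Q, ∃ s ∈ S.Q, v S' s ∈ P ∧ (u * s) * x = x * (u * s) ∧
      (u * s) * y = y * (u * s) := by
    intro u hu
    have hva : v S' a ∈ P := by
      rw [show v S' a = x * S.t⁻¹ from eq_mul_inv_of_mul_eq ea.symm]
      exact mul_mem (mem_sup_left hx) (inv_mem (mem_sup_right (mem_zpowers _)))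
    have hvb : v S' b ∈ P := by
      rw [show v S' b = y * S.t⁻¹ from eq_mul_inv_of_mul_eq eb.symm]
      exact mul_mem (mem_sup_left hy) (inv_mem (mem_sup_right (mem_zpowers _)))
    have hvab : v S' (a * b) ∈ P := by
      have h := mul_mem (mul_mem hva hvb)
        ((le_sup_right : zpowers S.t ≤ P) (O.v_mul_mem ha hb))
      rwa [mul_inv_cancel_left] at h
    by_cases h1 : u * x = x * u <;> by_cases h2 : u * y = y * u
    · exact ⟨1, one_mem _, by rw [v_one]; exact one_mem _, by rwa [mul_one], by rwa [mul_one]⟩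
    · exact ⟨a, ha, hva, (hmul hu ha hx.1.1).2 (iff_of_true h1 hax),
        (hmul hu ha hy.1.1).2 (iff_of_false h2 hay)⟩
    · exact ⟨b, hb, hvb, (hmul hu hb hx.1.1).2 (iff_of_false h1 hbx),
        (hmul hu hb hy.1.1).2 (iff_of_true h2 hby)⟩
    · exact ⟨a * b, mul_mem ha hb, hvab,
        (hmul hu (mul_mem ha hb) hx.1.1).2 (iff_of_false h1 fun h =>
          hbx (((hmul ha hb hx.1.1).1 h).1 hax)),
        (hmul hu (mul_mem ha hb) hy.1.1).2 (iff_of_false h2 fun h =>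
          hay (((hmul ha hb hy.1.1).1 h).2 hby))⟩
  obtain ⟨s, hs, hvs, h1, h2⟩ := hfix c hc
  have hw : c * s ∈ S.Q := mul_mem hc hs
  set W : Subgroup G := O.R ⊓ centralizer ({c * s} : Set G) with hW
  have hvW : v S' (c * s) ∈ W :=
    ⟨O.v_mem_R hw, mem_centralizer_singleton_iff.2 (O.comm_self hw).symm⟩
  have hPW : P ≤ W := by
    refine sup_le (fun u hu => ⟨hu.2, mem_centralizer_singleton_iff.2 ?_⟩)
      (zpowers_le.2 ⟨O.t_mem_R, mem_centralizer_singleton_iff.2 (S.t_comm hw).symm⟩)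
    rcases O.XR_cases hx hy hu hx1 hy1 hyx.symm with e | e | e | e <;> rw [e]
    · rw [one_mul, mul_one]
    · exact h1.symm
    · exact h2.symm
    · exact ((S.comm_mul_iff hw hx.1.1 hy.1.1).2 (iff_of_true h1 h2)).symm
  have hvP : v S' (c * s) ∉ P := fun h => hzP (by
    have h3 := mul_mem (mul_mem h (inv_mem ((le_sup_right : zpowers S.t ≤ P)
      (O.v_mul_mem hc hs)))) (inv_mem hvs)
    rw [mul_inv_rev, inv_inv, mul_inv_cancel_left, mul_inv_cancel_right] at h3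
    rw [ez]
    exact mul_mem h3 ((le_sup_right : zpowers S.t ≤ P) he0))
  have hWR : W = O.R := by
    refine Subgroup.eq_of_le_of_card_ge inf_le_left ?_
    obtain ⟨k, hk⟩ := Subgroup.card_dvd_of_le hPW
    have hne : Nat.card W ≠ Nat.card P := fun e =>
      hvP ((Subgroup.eq_of_le_of_card_ge hPW e.le).symm ▸ hvW)
    have : 0 < Nat.card W := Nat.card_pos
    rw [hP8] at hk hne
    rw [h16]
    omega
  have hcen : v S' (c * s) ∈ zpowers S.t := S.Q_center _ (O.v_mem hw) fun u hu => by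
    have h := (hWR.symm ▸ O.v_mem_R hu : v S' u ∈ W).2
    exact ((O.comm_symm hw hu).1 (mem_centralizer_singleton_iff.1 h).symm).symm
  exact hvP ((le_sup_right : zpowers S.t ≤ P) hcen)

end Out

end CfsgLib.Recog.OEightCent
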