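import Cfsg.Agent.Lib.Recog.OEightCent.FusionOut

/-!
The outside case is impossible: `|[Q, t']⟨t⟩| = 8` contradicts `NoFixed`, and for order `32` an element of
order three centralising the image of `t'` gives a too large common centralizer.
-/

set_option autoImplicit false
set_option linter.unusedSectionVars false

namespace CfsgLib.Recog.OEightCent

open Subgroup

variable {G : Type*} [Group G]

namespace Out

variable {S S' : Setup G} (O : Out S S')
include O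

omit O in
/-- `(Q ∩ Q')⟨t⟩`. -/
def A (_O : Out S S') : Subgroup G where
  carrier := {a | ∃ x ∈ S.Q ⊓ S'.Q, ∃ e ∈ zpowers S.t, a = x * e}
  one_mem' := ⟨1, one_mem _, 1, one_mem _, (mul_one 1).symm⟩
  mul_mem' := by
    rintro _ _ ⟨x, hx, e, he, rfl⟩ ⟨y, hy, f, hf, rfl⟩
    refine ⟨x * y, mul_mem hx hy, e * f, mul_mem he hf, ?_⟩
    have hc : e * y = y * e := by
      rcases S.mem_zp.1 he with h | h <;> rw [h]
      · rw [one_mul, mul_one]
      · exact (S.t_comm hy.1).symm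
    calc x * e * (y * f) = x * (e * y) * f := by group
      _ = _ := by rw [hc]; group
  inv_mem' := by
    rintro _ ⟨x, hx, e, he, rfl⟩
    refine ⟨x⁻¹, inv_mem hx, e⁻¹, inv_mem he, ?_⟩
    have hc : Commute x e := by
      rcases S.mem_zp.1 he with h | h <;> rw [h]
      · exact Commute.one_right x
      · exact S.t_comm hx.1
    rw [mul_inv_rev, (hc.inv_inv).eq]

theorem A_le : O.A ≤ S.Q := by
  rintro _ ⟨x, hx, e, he, rfl⟩
  exact mul_mem hx.1 ((zpowers_le.2 S.t_mem) he)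

theorem A_comm : ∀ a ∈ O.A, ∀ b ∈ O.A, a * b = b * a := by
  rintro a ⟨x, hx, e, he, rfl⟩ b ⟨y, hy, f, hf, rfl⟩
  have h1 : Commute x y := S.inf_commutes S' O.ne hx hy
  have h2 : ∀ {z g : G}, z ∈ S.Q → g ∈ zpowers S.t → Commute z g := fun hz hg => by
    rcases S.mem_zp.1 hg with h | h <;> rw [h]
    · exact Commute.one_right _
    · exact S.t_comm hz
  exact Commute.mul_left (h1.mul_right (h2 hx.1 hf))
    (((h2 hy.1 he).symm).mul_right (h2 ((zpowers_le.2 S.t_mem) he) hf))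

theorem A_sq : ∀ a ∈ O.A, a * a = 1 := by
  rintro a ⟨x, hx, e, he, rfl⟩
  have hx2 := S.inf_sq S' O.ne hx
  rcases S.mem_zp.1 he with h | h <;> rw [h]
  · rw [mul_one, hx2]
  · rw [mul_assoc, ← mul_assoc S.t x, ← S.t_comm hx.1, mul_assoc x S.t, S.t_sq, mul_one, hx2]

variable [Finite G]

theorem card_A : Nat.card O.A = 2 * Nat.card (S.Q ⊓ S'.Q : Subgroup G) := by
  let f : (S.Q ⊓ S'.Q : Subgroup G) × zpowers S.t → O.A :=
    fun z => ⟨(z.1 : G) * (z.2 : G), (z.1 : G), z.1.2, (z.2 : G), z.2.2, rfl⟩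
  have hf : Function.Bijective f := by
    refine ⟨fun a b h => ?_, fun ⟨_, x, hx, e, he, hh⟩ => ⟨(⟨x, hx⟩, ⟨e, he⟩), Subtype.ext hh.symm⟩⟩
    have h' : (a.1 : G) * (a.2 : G) = (b.1 : G) * (b.2 : G) := congrArg Subtype.val h
    have h1 : (b.1 : G)⁻¹ * (a.1 : G) = (b.2 : G) * (a.2 : G)⁻¹ := by
      rw [eq_mul_inv_iff_mul_eq, mul_assoc, h', inv_mul_cancel_left]
    have h2 := O.inf_zp _ (mul_mem (inv_mem b.1.2) a.1.2) (h1 ▸ mul_mem b.2.2 (inv_mem a.2.2))
    have h3 : (a.1 : G) = b.1 := (inv_mul_eq_one.1 h2).symm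
    rw [h3, mul_right_inj] at h'
    exact Prod.ext (Subtype.ext h3) (Subtype.ext h')
  rw [← Nat.card_congr (Equiv.ofBijective f hf), Nat.card_prod, Nat.card_zpowers, S.t_ord, mul_comm]

/-- The common centralizer has the image of `C_{Q'}(t)`. -/
theorem stab :
    Nat.card (S.img (S'.Q ⊓ centralizer ({S.t} : Set G))) = 8 ∧
      ∀ c : ↥(centralizer ({S.t} : Set G)), (c : G) * S'.t = S'.t * (c : G) →
        S.proj c ∈ S.img (S'.Q ⊓ centralizer ({S.t} : Set G)) := by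
  refine S.stab_image S' ?_
  rw [O.symm.orders.1, inf_comm]

theorem no_eight (hN : S.NoFixed) (h8 : Nat.card O.R = 8) : False := by
  have h := O.orders.2.1
  rw [h8] at h
  refine hN O.A O.A_le ⟨1, one_mem _, S.t, mem_zpowers _, (one_mul _).symm⟩ (by rw [O.card_A]; omega)
    O.A_sq O.A_comm _ O.stab.1 ?_
  rintro g hg a ⟨x, hx, e, he, rfl⟩
  obtain ⟨hgQ, hgC⟩ := Subgroup.mem_subgroupOf.1 hg
  have hgt : (g : G) * S.t = S.t * (g : G) := mem_centralizer_singleton_iff.1 hgC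
  have hm : (g : G) * x * (g : G)⁻¹ * x⁻¹ = 1 := by
    rcases S'.mem_zp.1 (S'.Q_comm _ hgQ _ hx.2) with h | h
    · exact h
    · exact absurd (h ▸ mul_mem (S.conj_mem hgt hx.1) (inv_mem hx.1)) O.not_mem
  have hge : (g : G) * e * (g : G)⁻¹ = e := by
    rcases S.mem_zp.1 he with h | h <;> rw [h]
    · simp
    · rw [hgt, mul_inv_cancel_right]
  have key : (g : G) * (x * e) * (g : G)⁻¹ * (x * e)⁻¹ = 1 := by
    rw [show (g : G) * (x * e) * (g : G)⁻¹ = ((g : G) * x * (g : G)⁻¹) * ((g : G) * e * (g : G)⁻¹) by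
      group, hge, mul_inv_eq_one.1 hm, mul_inv_cancel]
  rw [key]
  exact one_mem _

theorem no_big (hM : S.Mixed) (h32 : Nat.card O.R = 32) : False := by
  have hX := O.orders.2.1
  rw [h32] at hX
  have hD := O.orders.1
  have hRK : O.R = O.K := by
    rw [O.K_eq]
    exact Subgroup.eq_of_le_of_card_ge O.R_le_D (by rw [hD, h32]; omega)
  set T : ↥(centralizer ({S.t} : Set G)) :=
    ⟨S'.t, mem_centralizer_singleton_iff.2 O.comm.symm⟩ with hT
  set τ := S.proj T with hτ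
  have hτ2 : τ * τ = 1 := by
    rw [hτ, ← map_mul, show T * T = 1 from Subtype.ext S'.t_sq, map_one]
  by_cases hall : τ.1 ≠ 1 ∧ τ.2.1 ≠ 1 ∧ τ.2.2 ≠ 1
  · obtain ⟨q, hq, hu⟩ := hM T hτ2 hall.1 hall.2.1 hall.2.2
    have e : (T : G) * q * (T : G)⁻¹ * q⁻¹ = (v S' q)⁻¹ := by
      rw [v]
      simp only [mul_inv_rev, inv_inv, S'.t_inv, hT, mul_assoc]
    rw [e, ← mul_inv_rev, O.v_sq hq, inv_one] at hu
    exact S.t_ne hu.symm
  obtain ⟨p, hpc, hp2, hp4⟩ : ∃ p : P3, p * τ = τ * p ∧ p * p ≠ 1 ∧ p * p * (p * p) ≠ 1 := by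
    let σ : Equiv.Perm (Fin 3) := Equiv.swap 0 1 * Equiv.swap 1 2
    have h2 : σ * σ ≠ 1 := by decide
    have h4 : σ * σ * (σ * σ) ≠ 1 := by decide
    rcases not_and_or.1 hall with h | h
    · refine ⟨(σ, 1, 1), Prod.ext ?_ (Prod.ext ?_ ?_), fun e => h2 (congrArg Prod.fst e),
        fun e => h4 (congrArg Prod.fst e)⟩ <;> simp [not_not.1 h]
    rcases not_and_or.1 h with h | h
    · refine ⟨(1, σ, 1), Prod.ext ?_ (Prod.ext ?_ ?_),
        fun e => h2 (congrArg (fun z => z.2.1) e),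
        fun e => h4 (congrArg (fun z => z.2.1) e)⟩ <;> simp [not_not.1 h]
    · refine ⟨(1, 1, σ), Prod.ext ?_ (Prod.ext ?_ ?_),
        fun e => h2 (congrArg (fun z => z.2.2) e),
        fun e => h4 (congrArg (fun z => z.2.2) e)⟩ <;> simp [not_not.1 h]
  obtain ⟨c, rfl⟩ := S.proj_surj p
  have hct : (c : G) * S.t = S.t * (c : G) := mem_centralizer_singleton_iff.1 c.2
  set t2 := (c : G) * S'.t * (c : G)⁻¹ with ht2
  have hq : S'.t * t2 ∈ S.Q := by
    have h1 : S.proj (T * (c * T * c⁻¹)) = 1 := by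
      rw [map_mul, map_mul, map_mul, map_inv, ← hτ, hpc, mul_inv_cancel_right, hτ2]
    exact (S.proj_ker _).1 h1
  have ht22 : t2 * t2 = 1 := by
    rw [ht2, show (c : G) * S'.t * (c : G)⁻¹ * ((c : G) * S'.t * (c : G)⁻¹) =
      (c : G) * (S'.t * S'.t) * (c : G)⁻¹ by group, S'.t_sq]
    simp
  have hqR : S'.t * t2 ∈ O.R := by
    rw [hRK]
    refine ⟨hq, ?_⟩
    have e : v S' (S'.t * t2) = S'.t * t2 * (S'.t * t2) := by
      rw [v, mul_inv_rev, inv_eq_of_mul_eq_one_right ht22, S'.t_inv]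
      simp only [mul_assoc, S'.t_sq, mul_one]
    rw [e]
    exact S.Q_sq _ hq
  obtain ⟨w, hw, hwe⟩ := O.mem_R.1 hqR
  have hvc : S'.t * v S' w = w * S'.t * w⁻¹ := by
    have h1 := (O.R_le_D (O.v_mem_R hw)).2
    rw [← mem_centralizer_singleton_iff.1 h1, v]
    simp only [mul_assoc, S'.t_sq, mul_one]
  obtain ⟨h8, hst⟩ := O.stab
  have hW : ∀ u (hu : u ∈ S.Q), S.proj ⟨u, S.Q_le hu⟩ = 1 := fun u hu => (S.proj_ker _).2 hu
  rcases hwe with e | e
  · have e' : t2 = w * S'.t * w⁻¹ := by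
      rw [← hvc, ← e, ← mul_assoc, S'.t_sq, one_mul]
    set d : ↥(centralizer ({S.t} : Set G)) := ⟨w, S.Q_le hw⟩⁻¹ * c
    have hd : (d : G) * S'.t = S'.t * (d : G) := by
      show w⁻¹ * (c : G) * S'.t = S'.t * (w⁻¹ * (c : G))
      calc w⁻¹ * (c : G) * S'.t = w⁻¹ * t2 * (c : G) := by rw [ht2]; group
        _ = _ := by rw [e']; group
    have h1 := hst d hd
    rw [map_mul, map_inv, hW w hw, inv_one, one_mul] at h1
    exact hp2 (Fus.p3_no_three h8 h1)
  · have e' : t2 = w * S'.t * w⁻¹ * S.t := by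
      rw [← hvc, mul_assoc, ← e, ← mul_assoc, S'.t_sq, one_mul]
    have hw1 : (c : G) * w * (c : G)⁻¹ ∈ S.Q := S.conj_mem hct hw
    set w2 := (c : G) * w * (c : G)⁻¹ * w with hw2
    have hw2Q : w2 ∈ S.Q := mul_mem hw1 hw
    have key : (c : G) * t2 * (c : G)⁻¹ = w2 * S'.t * w2⁻¹ := by
      calc (c : G) * t2 * (c : G)⁻¹
          = (c : G) * (w * S'.t * w⁻¹) * (c : G)⁻¹ * ((c : G) * S.t * (c : G)⁻¹) := by
            rw [e']; group
        _ = ((c : G) * w * (c : G)⁻¹) * t2 * ((c : G) * w * (c : G)⁻¹)⁻¹ * S.t := by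
            rw [hct, mul_inv_cancel_right, ht2]; group
        _ = ((c : G) * w * (c : G)⁻¹) * (w * S'.t * w⁻¹) *
              (S.t * ((c : G) * w * (c : G)⁻¹)⁻¹) * S.t := by
            rw [e']; group
        _ = _ := by
            rw [← S.t_comm (inv_mem hw1), hw2, mul_inv_rev]
            simp only [mul_assoc, mul_inv_rev, inv_inv, S.t_sq, mul_one]
    set d : ↥(centralizer ({S.t} : Set G)) := ⟨w2, S.Q_le hw2Q⟩⁻¹ * (c * c)
    have hd : (d : G) * S'.t = S'.t * (d : G) := by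
      show w2⁻¹ * ((c : G) * (c : G)) * S'.t = S'.t * (w2⁻¹ * ((c : G) * (c : G)))
      calc w2⁻¹ * ((c : G) * (c : G)) * S'.t
          = w2⁻¹ * ((c : G) * t2 * (c : G)⁻¹) * ((c : G) * (c : G)) := by rw [ht2]; group
        _ = _ := by rw [key]; group
    have h1 := hst d hd
    rw [map_mul, map_inv, hW w2 hw2Q, inv_one, one_mul, map_mul] at h1
    exact hp4 (Fus.p3_no_three h8 h1)

theorem false (hM : S.Mixed) (hN : S.NoFixed) : False :=
  O.card_R.elim (O.no_eight hN) (O.no_big hM)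

end Out

end CfsgLib.Recog.OEightCent
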