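import Cfsg.Agent.Lib.Recog.OEightCent.FusionBasic

/-!
Two commuting conjugate involutions with their extraspecial subgroups: orders of the intersections and
the image of the common centralizer.
-/

set_option autoImplicit false

namespace CfsgLib.Recog.OEightCent

open Subgroup

variable {G : Type*} [Group G]

namespace Setup

variable (S S' : Setup G)

/-- The two subgroups meet in an elementary abelian group. -/
theorem inf_commutes (hne : S'.t ≠ S.t) {a b : G} (ha : a ∈ S.Q ⊓ S'.Q) (hb : b ∈ S.Q ⊓ S'.Q) :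
    a * b = b * a := by
  rcases S.mem_zp.1 (S.Q_comm a ha.1 b hb.1) with e | e
  · exact mul_inv_eq_iff_eq_mul.1 (mul_inv_eq_one.1 e)
  · rcases S'.mem_zp.1 (S'.Q_comm a ha.2 b hb.2) with e' | e'
    · exact absurd (e.symm.trans e') S.t_ne
    · exact absurd (e'.symm.trans e) hne

theorem inf_sq (hne : S'.t ≠ S.t) {a : G} (ha : a ∈ S.Q ⊓ S'.Q) : a * a = 1 := by
  rcases S.mul_self_cases ha.1 with e | e
  · exact e
  · rcases S'.mul_self_cases ha.2 with e' | e'
    · exact absurd (e.symm.trans e') S.t_ne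
    · exact absurd (e'.symm.trans e) hne

theorem inf_cent_inf :
    S'.Q ⊓ centralizer ({S.t} : Set G) ⊓ S.Q = S.Q ⊓ S'.Q := by
  ext x
  exact ⟨fun h => ⟨h.2, h.1.1⟩, fun h => ⟨⟨h.2, S.Q_le h.1⟩, h.1⟩⟩

variable [Finite G]

omit [Finite G] in
theorem card_cent_dvd : Nat.card (S'.Q ⊓ centralizer ({S.t} : Set G) : Subgroup G) ∣ 2 ^ 9 :=
  S'.Q_card ▸ Subgroup.card_dvd_of_le inf_le_left

theorem card_cent_le :
    Nat.card (S'.Q ⊓ centralizer ({S.t} : Set G) : Subgroup G) ≤
      8 * Nat.card (S.Q ⊓ S'.Q : Subgroup G) := by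
  have h := S.card_img (H := S'.Q ⊓ centralizer ({S.t} : Set G)) inf_le_right
  rw [S.inf_cent_inf S'] at h
  rw [← h]
  exact Nat.mul_le_mul_right _ (S.card_img_le inf_le_right (S.card_cent_dvd S'))

/-- When the bound is attained the common centralizer has the same image as `C_{Q'}(t)`. -/
theorem stab_image (hcard : Nat.card (S'.Q ⊓ centralizer ({S.t} : Set G) : Subgroup G) =
      8 * Nat.card (S.Q ⊓ S'.Q : Subgroup G)) :
    Nat.card (S.img (S'.Q ⊓ centralizer ({S.t} : Set G))) = 8 ∧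
      ∀ c : ↥(centralizer ({S.t} : Set G)), (c : G) * S'.t = S'.t * (c : G) →
        S.proj c ∈ S.img (S'.Q ⊓ centralizer ({S.t} : Set G)) := by
  have h := S.card_img (H := S'.Q ⊓ centralizer ({S.t} : Set G)) inf_le_right
  rw [S.inf_cent_inf S', hcard] at h
  have h8 := Nat.eq_of_mul_eq_mul_right Nat.card_pos h
  refine ⟨h8, fun c hc => Fus.p3_self_normal h8 fun p hp => ?_⟩
  obtain ⟨u, hu, rfl⟩ := S.mem_img.1 hp
  exact S.mem_img.2 ⟨c * u * c⁻¹, ⟨S'.conj_mem hc hu.1,
    Subgroup.mul_mem _ (Subgroup.mul_mem _ c.2 hu.2) (Subgroup.inv_mem _ c.2)⟩, by simp⟩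

/-- Commutation with a product, for elements of `Q`. -/
theorem comm_mul_iff {a b c : G} (ha : a ∈ S.Q) (hb : b ∈ S.Q) (hc : c ∈ S.Q) :
    a * (b * c) = b * c * a ↔ (a * b = b * a ↔ a * c = c * a) := by
  by_cases h1 : a * b = b * a
  · have e : a * (b * c) = b * (a * c) := by rw [← mul_assoc, h1, mul_assoc]
    rw [e, mul_assoc b c a, mul_right_inj]
    exact ⟨fun h => ⟨fun _ => h, fun _ => h1⟩, fun h => h.1 h1⟩
  · by_cases h2 : a * c = c * a
    · refine ⟨fun h => absurd ?_ h1, fun h => absurd (h.2 h2) h1⟩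
      have e : b * c * a = b * a * c := by rw [mul_assoc, ← h2, mul_assoc]
      rw [e, ← mul_assoc] at h
      exact mul_right_cancel h
    · exact ⟨fun _ => iff_of_false h1 h2, fun _ => (S.pack.mul_commute hb hc ha
        (Ne.symm h1) (Ne.symm h2)).symm⟩

omit [Finite G] in
theorem comm_inv_iff {a b : G} : a * b⁻¹ = b⁻¹ * a ↔ a * b = b * a :=
  ⟨fun h => by
    calc a * b = b * (b⁻¹ * a) * b := by group
      _ = b * a := by rw [← h]; group,
  fun h => by
    calc a * b⁻¹ = b⁻¹ * (b * a) * b⁻¹ := by group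
      _ = b⁻¹ * a := by rw [← h]; group⟩

end Setup

end CfsgLib.Recog.OEightCent
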