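import Cfsg.Agent.Lib.Recog.OEightCent.Setup

/-!
The eight conjugates of letter 6 by lowering words in a group satisfying the relators of the centraliser:
they span a normal subgroup of index at most 216, and the raising letters act on them triangularly.
-/

set_option autoImplicit false
set_option linter.unusedSimpArgs false

namespace CfsgLib.Recog.OEightCent

open Subgroup

namespace Fus

/-- Free reduction of a word in involutions. -/
def red : List ℕ → List ℕ
  | [] => []
  | a :: w =>
    match red w with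
    | [] => [a]
    | b :: r => if a = b then r else a :: b :: r

/-- Bit `i` of an index. -/
def bit (i : Fin 3) (s : Fin 8) : Bool := Nat.testBit s.val i.val

/-- Change bit `i`. -/
def flip (i : Fin 3) (s : Fin 8) : Fin 8 := Fin.ofNat 8 (s.val ^^^ 2 ^ i.val)

/-- The lowering word of an index. -/
def low (s : Fin 8) : List ℕ :=
  ((List.finRange 3).filter (fun i => bit i s)).map (fun i => 3 + i.val)

/-- The word of a conjugate of letter 6. -/
def xw (s : Fin 8) : List ℕ := low s ++ [6] ++ (low s).reverse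

/-- The relator giving the action of raising letter `i`. -/
def actWord (i : Fin 3) (s : Fin 8) : List ℕ :=
  [i.val] ++ xw s ++ [i.val] ++ xw s ++ (if bit i s then xw (flip i s) else [])

theorem act_mem : ∀ (i : Fin 3) (s : Fin 8), red (actWord i s) ∈ relsC.map red := by decide +kernel

theorem braid_mem : ∀ i : Fin 3,
    [i.val, i.val + 3, i.val, i.val + 3, i.val, i.val + 3] ∈ relsC := by decide +kernel

theorem act_lt : ∀ (i : Fin 3) (s : Fin 8), ∀ a ∈ actWord i s, a < 7 := by decide +kernel

theorem relsC_lt : ∀ r ∈ relsC, ∀ a ∈ r, a < 7 := by decide +kernel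

theorem flip_flip : ∀ (i : Fin 3) (s : Fin 8), flip i (flip i s) = s := by decide

theorem bit_flip : ∀ (i : Fin 3) (s : Fin 8), bit i (flip i s) = !bit i s := by decide

theorem eq_zero_of_bits : ∀ s : Fin 8, (∀ i : Fin 3, bit i s = false) → s = 0 := by decide

variable {K : Type*} [Group K]

theorem wprod_append (φ : ℕ → K) (u v : List ℕ) : wprod φ (u ++ v) = wprod φ u * wprod φ v := by
  simp [wprod]

theorem wprod_red (φ : ℕ → K) (hinv : ∀ a < 7, φ a * φ a = 1) :
    ∀ w : List ℕ, (∀ a ∈ w, a < 7) → wprod φ (red w) = wprod φ w := by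
  intro w
  induction w with
  | nil => intro _; rfl
  | cons a w ih =>
    intro h
    have ih' := ih fun b hb => h b (List.mem_cons_of_mem _ hb)
    simp only [red]
    rcases hw : red w with _ | ⟨b, r⟩
    · rw [hw] at ih'
      simp only [wprod, List.map_cons, List.prod_cons] at *
      rw [← ih']
    · rw [hw] at ih'
      simp only [wprod, List.map_cons, List.prod_cons] at *
      split_ifs with hab
      · rw [← ih', ← hab, ← mul_assoc, hinv a (h a List.mem_cons_self), one_mul]
      · simp only [List.map_cons, List.prod_cons]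
        rw [ih']

/-- A group satisfying the relators of the centraliser. -/
structure Rel (φ : ℕ → K) : Prop where
  gen : closure (φ '' Set.Iio 7) = ⊤
  rels : ∀ r ∈ relsC, wprod φ r = 1

namespace Rel

variable {φ : ℕ → K} (h : Rel φ)
include h

theorem inv : ∀ a < 7, φ a * φ a = 1 := by
  intro a ha
  have := h.rels [a, a] (by revert a; decide)
  simpa [wprod] using this

omit h in
/-- The conjugate of letter 6. -/
def X (φ : ℕ → K) (s : Fin 8) : K := wprod φ (xw s)

omit h in
theorem X_eq (s : Fin 8) : X φ s = wprod φ (low s) * φ 6 * wprod φ (low s).reverse := by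
  simp [X, xw, wprod, mul_assoc]

theorem low_inv (s : Fin 8) : wprod φ (low s).reverse = (wprod φ (low s))⁻¹ := by
  have : ∀ w : List ℕ, (∀ a ∈ w, a < 7) → wprod φ w.reverse = (wprod φ w)⁻¹ := by
    intro w
    induction w with
    | nil => intro _; simp [wprod]
    | cons a w ih =>
      intro hw
      rw [List.reverse_cons, wprod_append, ih fun b hb => hw b (List.mem_cons_of_mem _ hb)]
      simp only [wprod, List.map_cons, List.map_nil, List.prod_cons, List.prod_nil, mul_one,
        mul_inv_rev]
      rw [inv_eq_of_mul_eq_one_right (h.inv a (hw a List.mem_cons_self))]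
  exact this _ (by revert s; decide +kernel)

theorem X_sq (s : Fin 8) : X φ s * X φ s = 1 := by
  rw [X_eq, h.low_inv]
  calc _ = wprod φ (low s) * (φ 6 * φ 6) * (wprod φ (low s))⁻¹ := by group
    _ = 1 := by rw [h.inv 6 (by norm_num)]; simp

theorem act (i : Fin 3) (s : Fin 8) :
    φ i * X φ s * (φ i)⁻¹ * (X φ s)⁻¹ = if bit i s then X φ (flip i s) else 1 := by
  obtain ⟨r, hr, e⟩ := List.mem_map.1 (act_mem i s)
  have h1 : wprod φ (actWord i s) = 1 := by
    rw [← wprod_red φ h.inv _ (act_lt i s), ← e, wprod_red φ h.inv _ (relsC_lt r hr), h.rels r hr]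
  have hi := inv_eq_of_mul_eq_one_right (h.inv i.val (by omega))
  have hs := inv_eq_of_mul_eq_one_right (h.X_sq s)
  rw [hi, hs]
  rw [actWord, wprod_append, wprod_append, wprod_append, wprod_append] at h1
  have e1 : wprod φ [i.val] = φ i := by simp [wprod]
  rw [e1] at h1
  by_cases hb : bit i s = true
  · rw [if_pos hb] at h1 ⊢
    exact (eq_inv_of_mul_eq_one_left h1).trans (inv_eq_of_mul_eq_one_right (h.X_sq (flip i s)))
  · rw [if_neg hb] at h1 ⊢
    rwa [show wprod φ ([] : List ℕ) = 1 from rfl, mul_one] at h1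

theorem lowering (i : Fin 3) (s : Fin 8) :
    φ (3 + i.val) * wprod φ (low s) = wprod φ (low (flip i s)) := by
  have i3 : φ 3 * φ 3 = 1 := h.inv 3 (by norm_num)
  have i4 : φ 4 * φ 4 = 1 := h.inv 4 (by norm_num)
  have i5 : φ 5 * φ 5 = 1 := h.inv 5 (by norm_num)
  have hc : ∀ a b : ℕ, [a, b, a, b] ∈ relsC → a < 7 → b < 7 → φ b * φ a = φ a * φ b := by
    intro a b hm ha hb
    have := h.rels _ hm
    simp only [wprod, List.map_cons, List.map_nil, List.prod_cons, List.prod_nil, mul_one] at this
    rw [← inv_eq_of_mul_eq_one_right (h.inv a ha), ← inv_eq_of_mul_eq_one_right (h.inv b hb),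
      ← mul_inv_rev, inv_eq_of_mul_eq_one_right (h.inv a ha), inv_eq_of_mul_eq_one_right (h.inv b hb)]
    exact inv_eq_of_mul_eq_one_right (by rwa [mul_assoc])
  have c34 := hc 3 4 (by decide) (by norm_num) (by norm_num)
  have c35 := hc 3 5 (by decide) (by norm_num) (by norm_num)
  have c45 := hc 4 5 (by decide) (by norm_num) (by norm_num)
  have k34 : ∀ x, φ 4 * (φ 3 * x) = φ 3 * (φ 4 * x) := fun x => by
    rw [← mul_assoc, c34, mul_assoc]
  have k35 : ∀ x, φ 5 * (φ 3 * x) = φ 3 * (φ 5 * x) := fun x => by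
    rw [← mul_assoc, c35, mul_assoc]
  have k45 : ∀ x, φ 5 * (φ 4 * x) = φ 4 * (φ 5 * x) := fun x => by
    rw [← mul_assoc, c45, mul_assoc]
  have j3 : ∀ x, φ 3 * (φ 3 * x) = x := fun x => by rw [← mul_assoc, i3, one_mul]
  have j4 : ∀ x, φ 4 * (φ 4 * x) = x := fun x => by rw [← mul_assoc, i4, one_mul]
  have j5 : ∀ x, φ 5 * (φ 5 * x) = x := fun x => by rw [← mul_assoc, i5, one_mul]
  fin_cases i <;> fin_cases s <;>
    simp [wprod, low, flip, bit, List.finRange_succ, List.filter, Nat.testBit, i3, i4, i5, c34, c35,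
      c45, k34, k35, k45, j3, j4, j5]

theorem lowering_conj (i : Fin 3) (s : Fin 8) :
    φ (3 + i.val) * X φ s * (φ (3 + i.val))⁻¹ = X φ (flip i s) := by
  rw [X_eq, X_eq, h.low_inv, h.low_inv, ← h.lowering i s]
  group

/-- The span of the eight conjugates. -/
theorem span_normal : (closure (Set.range (X φ))).Normal := by
  set W := closure (Set.range (X φ))
  have hX : ∀ s, X φ s ∈ W := fun s => subset_closure ⟨s, rfl⟩
  have hk : ∀ k < 7, ∀ s, φ k * X φ s * (φ k)⁻¹ ∈ W := by
    intro k hk s
    by_cases h3 : k < 3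
    · have e := h.act ⟨k, h3⟩ s
      rw [mul_inv_eq_iff_eq_mul] at e
      rw [show φ k * X φ s * (φ k)⁻¹ = _ from e]
      split_ifs
      · exact mul_mem (hX _) (hX _)
      · exact mul_mem (one_mem _) (hX _)
    · by_cases h6 : k = 6
      · subst h6
        have : φ 6 ∈ W := by
          have := hX 0
          rwa [show X φ 0 = φ 6 by simp [X, xw, low, bit, wprod, List.finRange_succ]] at this
        exact mul_mem (mul_mem this (hX s)) (inv_mem this)
      · have e := h.lowering_conj ⟨k - 3, by omega⟩ s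
        rw [show 3 + (k - 3) = k by omega] at e
        rw [e]; exact hX _
  have hle : ∀ k < 7, ∀ w ∈ W, φ k * w * (φ k)⁻¹ ∈ W := fun k hk' =>
    (closure_le (W.comap (MulAut.conj (φ k)).toMonoidHom)).2 (by
      rintro _ ⟨s, rfl⟩; exact hk k hk' s)
  refine normalizer_eq_top_iff.1 (top_le_iff.1 ?_)
  rw [← h.gen, closure_le]
  rintro _ ⟨k, hk', rfl⟩
  refine mem_normalizer_iff.2 fun w => ⟨hle k hk' w, fun hw => ?_⟩
  have h1 := hle k hk' _ hw
  rw [inv_eq_of_mul_eq_one_right (h.inv k hk'), show φ k * (φ k * w * φ k) * φ k =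
    (φ k * φ k) * w * (φ k * φ k) by group, h.inv k hk'] at h1
  simpa using h1

/-- The six elements generated by a raising and a lowering letter. -/
theorem index_le : (closure (Set.range (X φ))).index ≤ 216 := by
  classical
  have := h.span_normal
  set W := closure (Set.range (X φ)) with hW
  let g : ℕ → K ⧸ W := fun k => QuotientGroup.mk' W (φ k)
  have g6 : g 6 = 1 := (QuotientGroup.eq_one_iff _).2 (by
    have : X φ 0 ∈ W := subset_closure ⟨0, rfl⟩
    rwa [show X φ 0 = φ 6 by simp [X, xw, low, bit, wprod, List.finRange_succ]] at this)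
  have hrel : ∀ r ∈ relsC, wprod g r = 1 := fun r hr => by
    have e : wprod g r = QuotientGroup.mk' W (wprod φ r) := by
      simp [wprod, g, map_list_prod, List.map_map, Function.comp_def]
    rw [e, h.rels r hr, map_one]
  have ginv : ∀ k < 7, g k * g k = 1 := fun k hk => by
    show QuotientGroup.mk' W (φ k) * QuotientGroup.mk' W (φ k) = 1
    rw [← map_mul, h.inv k hk, map_one]
  have hcomm : ∀ a b : Fin 6, a.val % 3 ≠ b.val % 3 → Commute (g a) (g b) := by
    intro a b hab
    have hm : [a.val, b.val, a.val, b.val] ∈ relsC ∨ [b.val, a.val, b.val, a.val] ∈ relsC := by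
      revert a b; decide +kernel
    have main : ∀ a b : Fin 6, [a.val, b.val, a.val, b.val] ∈ relsC → Commute (g a) (g b) := by
      intro a b hm
      have h1 := hrel _ hm
      simp only [wprod, List.map_cons, List.map_nil, List.prod_cons, List.prod_nil, mul_one,
        ← mul_assoc] at h1
      have ha := inv_eq_of_mul_eq_one_right (ginv a (by omega))
      have hb := inv_eq_of_mul_eq_one_right (ginv b (by omega))
      rw [mul_assoc _ (g a) (g b)] at h1
      show g a * g b = g b * g a
      rw [eq_inv_of_mul_eq_one_left h1, mul_inv_rev, ha, hb]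
    rcases hm with hm | hm
    exacts [main a b hm, (main b a hm).symm]
  let six : Fin 3 → Fin 6 → K ⧸ W := fun i j =>
    ![1, g i, g (i + 3), g i * g (i + 3), g (i + 3) * g i, g i * g (i + 3) * g i] j
  have hL : ∀ i : Fin 3, ∀ j, ∃ j', g i * six i j = six i j' := by
    intro i j
    have ha : g i * g i = 1 := ginv i (by omega)
    have ha' : ∀ x, g i * (g i * x) = x := fun x => by rw [← mul_assoc, ha, one_mul]
    fin_cases j
    · exact ⟨1, by simp [six]⟩
    · exact ⟨0, by simp [six, ha]⟩
    · exact ⟨3, by simp [six]⟩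
    · exact ⟨2, by simp [six, ha']⟩
    · exact ⟨5, by simp [six, mul_assoc]⟩
    · exact ⟨4, by simp [six, mul_assoc, ha']⟩
  have hR : ∀ i : Fin 3, ∀ j, ∃ j', g (i + 3) * six i j = six i j' := by
    intro i j
    have ha : g i * g i = 1 := ginv i (by omega)
    have hb : g (i + 3) * g (i + 3) = 1 := ginv _ (by omega)
    have hb' : ∀ x, g (i + 3) * (g (i + 3) * x) = x := fun x => by rw [← mul_assoc, hb, one_mul]
    have h3 : g (i + 3) * (g i * g (i + 3)) = g i * g (i + 3) * g i := by
      have h1 := hrel _ (braid_mem i)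
      simp only [wprod, List.map_cons, List.map_nil, List.prod_cons, List.prod_nil, mul_one,
        ← mul_assoc] at h1
      rw [mul_assoc _ (g i) (g (i + 3)), mul_assoc _ (g (i + 3)) _] at h1
      rw [eq_inv_of_mul_eq_one_left h1, mul_inv_rev, mul_inv_rev,
        inv_eq_of_mul_eq_one_right ha, inv_eq_of_mul_eq_one_right hb, mul_assoc]
    fin_cases j
    · exact ⟨2, by simp [six]⟩
    · exact ⟨4, by simp [six]⟩
    · exact ⟨0, by simp [six, hb]⟩
    · exact ⟨5, by simpa [six] using h3⟩
    · exact ⟨1, by simp [six, hb']⟩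
    · refine ⟨3, ?_⟩
      show g (i + 3) * (g i * g (i + 3) * g i) = g i * g (i + 3)
      rw [← mul_assoc, h3, mul_assoc, ha, mul_one]
  have hcs : ∀ (a : Fin 6) (i : Fin 3), a.val % 3 ≠ i.val → ∀ j, Commute (g a) (six i j) := by
    intro a i hai j
    have c1 : Commute (g a) (g i) :=
      hcomm a ⟨i.val, by omega⟩ (by show a.val % 3 ≠ i.val % 3; omega)
    have c2 : Commute (g a) (g (i + 3)) :=
      hcomm a ⟨i.val + 3, by omega⟩ (by show a.val % 3 ≠ (i.val + 3) % 3; omega)
    fin_cases j
    · exact Commute.one_right _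
    · exact c1
    · exact c2
    · exact c1.mul_right c2
    · exact c2.mul_right c1
    · exact (c1.mul_right c2).mul_right c1
  let F : Fin 6 × Fin 6 × Fin 6 → K ⧸ W := fun e => six 0 e.1 * six 1 e.2.1 * six 2 e.2.2
  have hmul : ∀ k : Fin 6, ∀ e, ∃ e', g k * F e = F e' := by
    intro k e
    have h0 : (k.val = 0 ∨ k.val = 3) ∨ (k.val = 1 ∨ k.val = 4) ∨ (k.val = 2 ∨ k.val = 5) := by omega
    have step : ∀ i : Fin 3, k.val % 3 = i.val → ∀ j, ∃ j', g k * six i j = six i j' := by
      intro i hki j
      rcases (show k.val = i.val ∨ k.val = i.val + 3 by omega) with e | e <;> rw [e]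
      · exact hL i j
      · exact hR i j
    rcases h0 with h0 | h0 | h0
    · obtain ⟨j', hj⟩ := step 0 (by show k.val % 3 = 0; omega) e.1
      exact ⟨(j', e.2), by simp only [F]; rw [← mul_assoc, ← mul_assoc, hj]⟩
    · obtain ⟨j', hj⟩ := step 1 (by show k.val % 3 = 1; omega) e.2.1
      refine ⟨(e.1, j', e.2.2), ?_⟩
      simp only [F]
      rw [← mul_assoc, ← mul_assoc, (hcs k 0 (by show k.val % 3 ≠ 0; omega) e.1).eq,
        mul_assoc (six 0 e.1), hj]
    · obtain ⟨j', hj⟩ := step 2 (by show k.val % 3 = 2; omega) e.2.2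
      refine ⟨(e.1, e.2.1, j'), ?_⟩
      simp only [F]
      rw [← mul_assoc, ((hcs k 0 (by show k.val % 3 ≠ 0; omega) e.1).mul_right
        (hcs k 1 (by show k.val % 3 ≠ 1; omega) e.2.1)).eq, mul_assoc (six 0 e.1 * six 1 e.2.1), hj]
  have hF : Function.Surjective F := by
    intro x
    have hx : x ∈ closure (g '' Set.Iio 7) := by
      have : closure (g '' Set.Iio 7) = ⊤ := by
        rw [show g '' Set.Iio 7 = QuotientGroup.mk' W '' (φ '' Set.Iio 7) by
          rw [Set.image_image], ← MonoidHom.map_closure, h.gen,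
          Subgroup.map_top_of_surjective _ (QuotientGroup.mk'_surjective W)]
      rw [this]; trivial
    have step : ∀ k < 7, ∀ y, (∃ e, F e = y) → ∃ e, F e = g k * y := by
      rintro k hk _ ⟨e, rfl⟩
      by_cases h6 : k = 6
      · exact ⟨e, by rw [h6, g6, one_mul]⟩
      · obtain ⟨e', he⟩ := hmul ⟨k, by omega⟩ e
        exact ⟨e', he.symm⟩
    induction hx using closure_induction_left with
    | one => exact ⟨(0, 0, 0), by simp [F, six]⟩
    | mul_left a ha y _ ih =>
      obtain ⟨k, hk, rfl⟩ := ha
      exact step k hk y ih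
    | inv_mul_cancel a ha y _ ih =>
      obtain ⟨k, hk, rfl⟩ := ha
      rw [inv_eq_of_mul_eq_one_right (ginv k hk)]
      exact step k hk y ih
  rw [Subgroup.index_eq_card]
  refine (Nat.card_le_card_of_surjective F hF).trans ?_
  simp

end Rel

end Fus

end CfsgLib.Recog.OEightCent
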