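import Cfsg.Agent.Lib.Recog.OEightCent.PinCount

/-!
The chart: in normal form all relators hold exactly. The six letters generate a product of three copies of
`S₃`, and each relator is evaluated as a code times an element of that product.
-/

set_option autoImplicit false
set_option linter.unusedSectionVars false

namespace CfsgLib.Recog.OEightCent

open Subgroup

/-- The six elements generated by a pair of involutions `a`, `b` with `a b` of order three. -/
def pairElt {G : Type*} [Group G] (a b : G) : ℕ → G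
  | 1 => a
  | 2 => b
  | 3 => a * b
  | 4 => b * a
  | 5 => a * b * a
  | _ => 1

/-- Left multiplication by `a`. -/
def pairA (d : ℕ) : ℕ := [1, 0, 3, 2, 5, 4].getD d 0

/-- Left multiplication by `b`. -/
def pairB (d : ℕ) : ℕ := [2, 4, 0, 5, 1, 3].getD d 0

/-- A state: a code and the three components. -/
abbrev CState := ℕ × ℕ × ℕ × ℕ

/-- Left multiplication of a state by a letter. -/
def cStep (k : ℕ) (s : CState) : CState :=
  if k = 6 then (qpin 1 s.1, s.2)
  else if k = 0 then (qact 0 s.1, pairA s.2.1, s.2.2.1, s.2.2.2)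
  else if k = 1 then (qact 1 s.1, s.2.1, pairA s.2.2.1, s.2.2.2)
  else if k = 2 then (qact 2 s.1, s.2.1, s.2.2.1, pairA s.2.2.2)
  else if k = 3 then (qact 3 s.1, pairB s.2.1, s.2.2.1, s.2.2.2)
  else if k = 4 then (qact 4 s.1, s.2.1, pairB s.2.2.1, s.2.2.2)
  else (qact 5 s.1, s.2.1, s.2.2.1, pairB s.2.2.2)

/-- The state of a word. -/
def cRun (r : List ℕ) : CState := r.foldr cStep (0, 0, 0, 0)

theorem relsC_run : ∀ r ∈ relsC, cRun r = (0, 0, 0, 0) := by decide +kernel

theorem pairA_lt : ∀ d < 6, pairA d < 6 := by decide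

theorem pairB_lt : ∀ d < 6, pairB d < 6 := by decide

variable {G : Type*} [Group G]

theorem pair_step {a b : G} (ha : a * a = 1) (hb : b * b = 1) (hab : a * b * a = b * a * b) {d : ℕ}
    (hd : d < 6) : a * pairElt a b d = pairElt a b (pairA d) ∧ b * pairElt a b d = pairElt a b (pairB d) := by
  have a2 : ∀ g, a * (a * g) = g := fun g => by rw [← mul_assoc, ha, one_mul]
  have b2 : ∀ g, b * (b * g) = g := fun g => by rw [← mul_assoc, hb, one_mul]
  have h3 : a * (b * a) = b * (a * b) := by simpa [mul_assoc] using hab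
  interval_cases d <;> simp [pairElt, pairA, pairB, mul_assoc, ha, hb, a2, b2] <;>
    simp [h3, b2, hb]

theorem commute_pairElt {g a b : G} (h1 : Commute g a) (h2 : Commute g b) (d : ℕ) :
    Commute g (pairElt a b d) := by
  unfold pairElt
  split
  exacts [h1, h2, h1.mul_right h2, h2.mul_right h1, (h1.mul_right h2).mul_right h1, Commute.one_right g]

/-- The element of three components. -/
def tripElt (f : ℕ → G) (a b c : ℕ) : G :=
  pairElt (f 0) (f 3) a * (pairElt (f 1) (f 4) b * pairElt (f 2) (f 5) c)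

namespace Setup

variable {S : Setup G} {f : ℕ → G}

/-- An involution commuting up to `t` with both letters of a pair does so with the same sign. -/
theorem sign_pair {g a b : G} (hg : g ∈ centralizer ({S.t} : Set G)) (ha : a ∈ centralizer ({S.t} : Set G))
    (hb : b ∈ centralizer ({S.t} : Set G)) (hab : a * b * a = b * a * b) {c₁ c₂ : Bool}
    (h1 : g * a = a * g * pw S.t c₁) (h2 : g * b = b * g * pw S.t c₂) : c₁ = c₂ := by
  have push : ∀ (u v : G) (i j : Bool), u ∈ centralizer ({S.t} : Set G) → v ∈ centralizer ({S.t} : Set G) →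
      g * u = u * g * pw S.t i → g * v = v * g * pw S.t j → g * (u * v) = u * v * g * pw S.t (i ^^ j) := by
    intro u v i j _ hv e1 e2
    calc g * (u * v) = u * g * (pw S.t i * v) := by rw [← mul_assoc, e1, mul_assoc]
      _ = u * (g * v) * pw S.t i := by rw [(S.pw_comm' hv i).eq]; group
      _ = u * v * g * (pw S.t j * pw S.t i) := by rw [e2]; group
      _ = _ := by rw [← pw_xor S.t_mul, Bool.xor_comm]
  have e1 := push _ _ _ _ (mul_mem ha hb) ha (push _ _ _ _ ha hb h1 h2) h1
  have e2 := push _ _ _ _ (mul_mem hb ha) hb (push _ _ _ _ hb ha h2 h1) h2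
  rw [hab, e2] at e1
  have e3 := S.pw_inj (mul_left_cancel e1)
  cases c₁ <;> cases c₂ <;> first | rfl | simp at e3

namespace Normal

variable [Finite G] (h : S.Normal f)
include h

theorem letter_sq : ∀ k < 6, f k * f k = 1 := by
  have ha := h.raise_exact.1
  intro k hk
  by_cases hk3 : k < 3
  · exact ha k hk3
  obtain ⟨i, rfl⟩ : ∃ i, k = i + 3 := ⟨k - 3, by omega⟩
  obtain ⟨s, hs⟩ := h.pre.sq hk
  have hc := h.pre.cube i (by omega)
  set a := f i
  set b := f (i + 3)
  have ha' : a * a = 1 := ha i (by omega)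
  have hm := h.pre.mem (show i + 3 < 7 by omega)
  have hs' : pw S.t s * pw S.t s = 1 := by rw [← pw_xor S.t_mul, Bool.xor_self]; rfl
  have e : b * a * b * a * b = a := by
    calc b * a * b * a * b = a⁻¹ * ((a * b) * (a * b) * (a * b)) := by group
      _ = a := by rw [hc, mul_one, inv_eq_of_mul_eq_one_right ha']
  have hma : a ∈ centralizer ({S.t} : Set G) := h.pre.mem (show i < 7 by omega)
  have hmb : b ∈ centralizer ({S.t} : Set G) := hm
  have cz : ∀ g, g ∈ centralizer ({S.t} : Set G) → pw S.t s * g = g * pw S.t s := fun g hg =>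
    (S.pw_comm' hg s).eq
  have key : a * a = pw S.t s := by
    calc a * a = (b * a * b * a * b) * (b * a * b * a * b) := by rw [e]
      _ = b * a * b * a * (b * b) * (a * b * a * b) := by group
      _ = b * a * b * a * (pw S.t s * (a * b * a * b)) := by rw [hs]; group
      _ = b * a * b * (a * a) * b * a * b * pw S.t s := by
        rw [cz _ (mul_mem (mul_mem (mul_mem hma hmb) hma) hmb)]; group
      _ = b * a * (b * b) * (a * b * pw S.t s) := by rw [ha']; group
      _ = b * a * (pw S.t s * (a * b)) * pw S.t s := by rw [hs]; group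
      _ = b * (a * a) * b * (pw S.t s * pw S.t s) := by rw [cz _ (mul_mem hma hmb)]; group
      _ = b * b := by rw [ha', hs', mul_one, mul_one]
      _ = pw S.t s := hs
  rw [ha'] at key
  rw [hs, ← key]

theorem letter_braid {i : ℕ} (hi : i < 3) : f i * f (i + 3) * f i = f (i + 3) * f i * f (i + 3) := by
  have ha := h.letter_sq i (by omega)
  have hb := h.letter_sq (i + 3) (by omega)
  have hc := h.pre.cube i hi
  set a := f i
  set b := f (i + 3)
  calc a * b * a = (a * b) * (a * b) * (a * b) * (b⁻¹ * a⁻¹ * b⁻¹) := by group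
    _ = b * a * b := by
      rw [hc, one_mul, inv_eq_of_mul_eq_one_right ha, inv_eq_of_mul_eq_one_right hb]

theorem letter_comm {k l : ℕ} (hk : k < 6) (hl : l < 6) (hne : k % 3 ≠ l % 3) :
    Commute (f k) (f l) := by
  have main : ∀ {k j : ℕ}, k < 6 → j < 3 → k % 3 ≠ j → Commute (f k) (f j) →
      Commute (f k) (f (j + 3)) := by
    intro k j hk hj hne hc
    obtain ⟨b, hb⟩ := h.pre.commutes hk (show j + 3 < 6 by omega) (by omega)
    have hc' : f k * f j = f j * f k * pw S.t false := by rw [hc.eq]; simp [pw]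
    have := sign_pair (h.pre.mem (by omega)) (h.pre.mem (show j < 7 by omega))
      (h.pre.mem (show j + 3 < 7 by omega)) (h.letter_braid hj) hc' hb
    subst this
    simpa [pw, Commute, SemiconjBy] using hb
  have r1 : ∀ i < 3, ∀ j < 3, i ≠ j → Commute (f i) (f (j + 3)) := fun i hi j hj hne =>
    main (by omega) hj (by omega) (h.raise_exact.2 i hi j hj)
  by_cases hl3 : l < 3
  · by_cases hk3 : k < 3
    · exact h.raise_exact.2 k hk3 l hl3
    · obtain ⟨i, rfl⟩ : ∃ i, k = i + 3 := ⟨k - 3, by omega⟩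
      exact (r1 l hl3 i (by omega) (by omega)).symm
  · obtain ⟨j, rfl⟩ : ∃ j, l = j + 3 := ⟨l - 3, by omega⟩
    by_cases hk3 : k < 3
    · exact r1 k hk3 j (by omega) (by omega)
    · obtain ⟨i, rfl⟩ : ∃ i, k = i + 3 := ⟨k - 3, by omega⟩
      exact main (by omega) (by omega) (by omega) (r1 j (by omega) i (by omega) (by omega)).symm

/-- A letter times a state. -/
theorem letter_step {k : ℕ} (hk : k < 7) {q a b c : ℕ} (ha : a < 6) (hb : b < 6) (hc : c < 6) :
    let s := cStep k (q, a, b, c)
    f k * (qElt S.t (lft f) q * tripElt f a b c) = qElt S.t (lft f) s.1 * tripElt f s.2.1 s.2.2.1 s.2.2.2 ∧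
      s.2.1 < 6 ∧ s.2.2.1 < 6 ∧ s.2.2.2 < 6 := by
  intro s
  have hE := h.pre.eight
  by_cases h6 : k = 6
  · subst h6
    refine ⟨?_, ha, hb, hc⟩
    rw [show s.1 = qpin 1 q from rfl, hE.qElt_mul, ← h.x_code, mul_assoc]
    rfl
  have hmv : ∀ g, f k * (qElt S.t (lft f) q * g) = qElt S.t (lft f) (qact k q) * (f k * g) := fun g => by
    rw [← mul_assoc, ← mul_assoc, ← h.cf_qElt (show k < 6 by omega), cf, inv_mul_cancel_right]
  have s0 := pair_step (h.letter_sq 0 (by norm_num)) (h.letter_sq 3 (by norm_num))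
    (h.letter_braid (show 0 < 3 by norm_num)) ha
  have s1 := pair_step (h.letter_sq 1 (by norm_num)) (h.letter_sq 4 (by norm_num))
    (h.letter_braid (show 1 < 3 by norm_num)) hb
  have s2 := pair_step (h.letter_sq 2 (by norm_num)) (h.letter_sq 5 (by norm_num))
    (h.letter_braid (show 2 < 3 by norm_num)) hc
  have c0 : ∀ {k}, k < 6 → k % 3 ≠ 0 → ∀ u, Commute (f k) (pairElt (f 0) (f 3) u) := fun hk hn u =>
    commute_pairElt (h.letter_comm hk (by norm_num) (by omega)) (h.letter_comm hk (by norm_num) (by omega)) u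
  have c1 : ∀ {k}, k < 6 → k % 3 ≠ 1 → ∀ u, Commute (f k) (pairElt (f 1) (f 4) u) := fun hk hn u =>
    commute_pairElt (h.letter_comm hk (by norm_num) (by omega)) (h.letter_comm hk (by norm_num) (by omega)) u
  obtain rfl | rfl | rfl | rfl | rfl | rfl : k = 0 ∨ k = 1 ∨ k = 2 ∨ k = 3 ∨ k = 4 ∨ k = 5 := by omega
  · refine ⟨?_, pairA_lt _ ha, hb, hc⟩
    rw [hmv, tripElt, ← mul_assoc (f 0), s0.1]; rfl
  · refine ⟨?_, ha, pairA_lt _ hb, hc⟩
    rw [hmv, tripElt, (c0 (by norm_num) (by norm_num) a).left_comm, ← mul_assoc (f 1), s1.1]; rfl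
  · refine ⟨?_, ha, hb, pairA_lt _ hc⟩
    rw [hmv, tripElt, (c0 (by norm_num) (by norm_num) a).left_comm,
      (c1 (by norm_num) (by norm_num) b).left_comm, s2.1]; rfl
  · refine ⟨?_, pairB_lt _ ha, hb, hc⟩
    rw [hmv, tripElt, ← mul_assoc (f 3), s0.2]; rfl
  · refine ⟨?_, ha, pairB_lt _ hb, hc⟩
    rw [hmv, tripElt, (c0 (by norm_num) (by norm_num) a).left_comm, ← mul_assoc (f 4), s1.2]; rfl
  · refine ⟨?_, ha, hb, pairB_lt _ hc⟩
    rw [hmv, tripElt, (c0 (by norm_num) (by norm_num) a).left_comm,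
      (c1 (by norm_num) (by norm_num) b).left_comm, s2.2]; rfl

theorem wprod_run {r : List ℕ} (hr : ∀ k ∈ r, k < 7) :
    wprod f r = qElt S.t (lft f) (cRun r).1 * tripElt f (cRun r).2.1 (cRun r).2.2.1 (cRun r).2.2.2 ∧
      (cRun r).2.1 < 6 ∧ (cRun r).2.2.1 < 6 ∧ (cRun r).2.2.2 < 6 := by
  induction r with
  | nil => exact ⟨by simp [wprod, cRun, tripElt, pairElt, Eight.qElt_zero], by decide⟩
  | cons k r ih =>
    obtain ⟨e, ha, hb, hc⟩ := ih fun j hj => hr j (List.mem_cons_of_mem k hj)
    rw [wprod_cons, e]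
    exact h.letter_step (hr k List.mem_cons_self) ha hb hc

theorem chart : S.Chart f := by
  refine ⟨h.pre.tensor.gen, h.pre.tensor.mem_Q, h.pre.tensor.zword, fun r hr => ?_⟩
  have hlt : ∀ k ∈ r, k < 7 := by
    have := relsC_lt
    simp only [List.all_eq_true, decide_eq_true_eq] at this
    exact this r hr
  rw [(h.wprod_run hlt).1, relsC_run r hr]
  simp [tripElt, pairElt, Eight.qElt_zero]

end Normal

/-- Letters satisfying the relators modulo `t` can be changed to satisfy them exactly. -/
theorem chart (S : Setup G) [Finite G] {f : ℕ → G} (hT : S.Tensor f) (hF : S.Fused f) :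
    ∃ f', S.Chart f' ∧ S.Fused f' := by
  obtain ⟨f', h⟩ := exists_normal hT hF
  exact ⟨f', h.chart, h.pre.fused⟩

end Setup

end CfsgLib.Recog.OEightCent
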