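import Cfsg.Agent.Lib.Recog.OEightCent.Shapes
import Cfsg.Agent.Lib.Recog.OEightCent.Fusion
import Cfsg.Agent.Lib.Recog.OEightCent.Pin
import Cfsg.Agent.Lib.Recog.OEightCent.Complete
import Cfsg.Agent.Lib.Recog.OEightCent.CloseMain
import Cfsg.Agent.Lib.Comp.FStar
import Cfsg.Agent.Lib.Comp.Subnormal
import Cfsg.Agent.Lib.Transfer.Extraspecial
import Cfsg.Agent.Lib.StructC.BurnsideBasis

/-!
The hypotheses on the centraliser give a `Setup`; recognition from an amalgam.
-/

set_option autoImplicit false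

namespace CfsgLib.Recog.OEightCent

open Subgroup

variable {G : Type*} [Group G] [Finite G]

theorem exists_setup (t : G) (ht : orderOf t = 2)
    (hF : Cfsg.IsExtraspecial 2 (Cfsg.generalizedFittingSubgroup ↥(centralizer ({t} : Set G))))
    (hFcard : Nat.card (Cfsg.generalizedFittingSubgroup ↥(centralizer ({t} : Set G))) = 2 ^ 9)
    (e : ↥(centralizer ({t} : Set G)) ⧸ Cfsg.pCore 2 ↥(centralizer ({t} : Set G)) ≃* P3)
    (hcc : centralizer (((Cfsg.pCore 2 ↥(centralizer ({t} : Set G))).map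
        (centralizer ({t} : Set G)).subtype : Subgroup G) : Set G) ≤
      (Cfsg.pCore 2 ↥(centralizer ({t} : Set G))).map (centralizer ({t} : Set G)).subtype) :
    ∃ S : Setup G, S.t = t := by
  have : Fact (Nat.Prime 2) := ⟨Nat.prime_two⟩
  set C := centralizer ({t} : Set G)
  set O := Cfsg.pCore 2 ↥C with hO
  have hOp : IsPGroup 2 O := CfsgLib.Comp.isPGroup_pCore 2 _
  have hFO : Cfsg.generalizedFittingSubgroup ↥C = O := by
    refine le_antisymm (le_sSup ⟨CfsgLib.Comp.generalizedFittingSubgroup_normal _, hF.1.1⟩) ?_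
    refine (sSup_le fun N hN => ?_).trans (CfsgLib.Comp.fittingSubgroup_le_generalizedFitting _)
    exact le_sSup ⟨hN.1, hN.2.isNilpotent⟩
  rw [hFO] at hF hFcard
  have htc : t ∈ C := mem_centralizer_singleton_iff.2 rfl
  set t' : ↥C := ⟨t, htc⟩
  have htcen : t' ∈ center ↥C :=
    mem_center_iff.2 fun g => Subtype.ext (mem_centralizer_singleton_iff.1 g.2)
  have ht' : orderOf t' = 2 := by rw [← orderOf_coe]; exact ht
  have htO : t' ∈ O := by
    have hn : (zpowers t').Normal := ⟨fun n hn g => by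
      have hc : n ∈ center ↥C := zpowers_le.2 htcen hn
      rwa [mem_center_iff.1 hc g, mul_inv_cancel_right]⟩
    have hp : IsPGroup 2 (zpowers t') := IsPGroup.of_card (n := 1) (by rw [Nat.card_zpowers, ht', pow_one])
    exact (le_sSup (show zpowers t' ∈ {N : Subgroup ↥C | N.Normal ∧ IsPGroup 2 N} from ⟨hn, hp⟩))
      (mem_zpowers t')
  have hcen : center O = zpowers (⟨t', htO⟩ : O) := by
    refine Transfer.extraspecial_center_eq_zpowers hF
      (mem_center_iff.2 fun g => Subtype.ext (mem_center_iff.1 htcen g)) fun h => ?_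
    rw [show t' = 1 from congrArg Subtype.val h, orderOf_one] at ht'
    norm_num at ht'
  have hz : ∀ {x : O}, x ∈ center O → ((x : ↥C) : G) ∈ zpowers t := by
    intro x hx
    rw [hcen] at hx
    obtain ⟨k, rfl⟩ := mem_zpowers_iff.1 hx
    simp only [coe_zpow]
    exact mem_zpowers_iff.2 ⟨k, rfl⟩
  let Q : Subgroup G := O.map C.subtype
  have hQ : ∀ {x : G}, x ∈ Q → ∃ y : O, ((y : ↥C) : G) = x := by
    rintro x ⟨y, hy, rfl⟩; exact ⟨⟨y, hy⟩, rfl⟩
  have hOn : O.Normal := Cfsg.pCore_normal 2 _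
  refine ⟨{
    t := t
    t_ord := ht
    Q := Q
    Q_le := map_subtype_le O
    t_mem := ⟨t', htO, rfl⟩
    Q_normal := ?_
    Q_card := by rw [card_map_of_injective (subtype_injective C), hFcard]
    Q_sq := ?_
    Q_comm := ?_
    Q_center := ?_
    Q_cent := hcc
    proj := e.toMonoidHom.comp (QuotientGroup.mk' O)
    proj_surj := e.surjective.comp (QuotientGroup.mk'_surjective O)
    proj_ker := ?_ }, rfl⟩
  · rintro c hc q ⟨y, hy, rfl⟩
    exact ⟨⟨c, hc⟩ * y * ⟨c, hc⟩⁻¹, hOn.conj_mem y hy _, rfl⟩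
  · intro q hq
    obtain ⟨y, rfl⟩ := hQ hq
    have h := hz (x := y ^ 2) (by rw [← hF.1.2.1]; exact StructC.pow_mem_frattini hOp y)
    simpa [pow_two] using h
  · intro q hq r hr
    obtain ⟨y, rfl⟩ := hQ hq
    obtain ⟨z, rfl⟩ := hQ hr
    have h := hz (x := y * z * y⁻¹ * z⁻¹) (by
      rw [← hF.1.2.2]
      exact commutator_mem_commutator (mem_top y) (mem_top z))
    simpa using h
  · intro q hq hcomm
    obtain ⟨y, rfl⟩ := hQ hq
    refine hz (mem_center_iff.2 fun z => Subtype.ext (Subtype.ext ?_))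
    exact (hcomm _ ⟨z, z.2, rfl⟩).symm
  · intro c
    rw [MonoidHom.comp_apply, MulEquiv.coe_toMonoidHom, map_eq_one_iff e e.injective, QuotientGroup.mk'_apply,
      QuotientGroup.eq_one_iff]
    exact (mem_map_iff_mem (subtype_injective C)).symm

/-- An amalgam forces the model. -/
theorem Setup.iso_model (S : Setup G) {f : ℕ → G} (h : S.Amalgam f) : Nonempty (G ≃* Om) := by
  obtain ⟨φ, hinj, hgen⟩ := S.embed h
  exact ⟨(MulEquiv.ofBijective φ ⟨hinj, S.embed_surjective h φ hinj hgen⟩).symm⟩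

end CfsgLib.Recog.OEightCent
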