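import Cfsg.Agent.Lib.Recog.OEightCent.Setup
import Cfsg.Agent.Lib.Recog.OEightCent.ModelData
import Cfsg.Agent.Lib.StructC.OrthCohomData
import Cfsg.Agent.Lib.ClassK.ConwayMain

/-!
The matrix model: eight generators of `Ω⁺₈(2)` coded by the images of the basis, and their relations.
-/

set_option autoImplicit false
set_option maxRecDepth 100000
set_option Elab.async false

namespace CfsgLib.Recog.OEightCent

open CfsgLib.StructC.OrthCohom
open scoped commutatorElement

/-- The isometry group. -/
abbrev O8 : Type := ↥(Cfsg.isometryGroup (ZMod 2) (Cfsg.quadFormPlus 4 (ZMod 2)))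

/-- The model group. -/
abbrev Om : Type := ↥(Cfsg.Omega (ZMod 2) (Cfsg.quadFormPlus 4 (ZMod 2)))

/-- The matrix of an isometry. -/
abbrev omat (g : O8) : Matrix (Fin 4 ⊕ Fin 4) (Fin 4 ⊕ Fin 4) (ZMod 2) :=
  mat (Cfsg.quadFormPlus 4 (ZMod 2)) g

/-- The code of a generator. -/
def mcol (k : ℕ) : List ℕ := modelCols.getD k [1, 2, 4, 8, 16, 32, 64, 128]

/-- The code of a word. -/
def codeW (w : List ℕ) : List ℕ := w.foldr (fun k r => mulL (mcol k) r) (idL 8)

/-- A self-inverse coded isometry. -/
abbrev IsInv (M : List ℕ) : Prop := IsIso eEight (Cfsg.quadFormPlus 4 (ZMod 2)) M M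

theorem gens_iso : (∀ k < 8, IsInv (mcol k)) ∧ IsInv reflCols := by decide +kernel

theorem comm_iso : ∀ k < 8, IsInv (commCols.getD k ([], [])).1 ∧ IsInv (commCols.getD k ([], [])).2 := by
  decide +kernel

theorem comm_eq : ∀ k < 8, mcol k = mulL (mulL (mulL (commCols.getD k ([], [])).1 (commCols.getD k ([], [])).2)
    (commCols.getD k ([], [])).1) (commCols.getD k ([], [])).2 := by
  decide +kernel

theorem inv_of_mat {g : O8} {M : List ℕ} (hg : omat g = toMat eEight M) (h : IsInv M) : omat g⁻¹ = toMat eEight M :=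
  mat_inv eEight _ hg h.1 h.1 h.2.2.1

theorem exists_gen {k : ℕ} (hk : k < 8) : ∃ g : Om, omat g.1 = toMat eEight (mcol k) := by
  obtain ⟨h1, h2⟩ := comm_iso k hk
  obtain ⟨a, ha⟩ := exists_iso eEight _ h1
  obtain ⟨b, hb⟩ := exists_iso eEight _ h2
  refine ⟨⟨⁅a, b⁆, Subgroup.commutator_mem_commutator (Subgroup.mem_top a) (Subgroup.mem_top b)⟩, ?_⟩
  simp only [omat, commutatorElement_def, mat_mul]
  have ha' : mat (Cfsg.quadFormPlus 4 (ZMod 2)) a⁻¹ = _ := inv_of_mat ha h1
  have hb' : mat (Cfsg.quadFormPlus 4 (ZMod 2)) b⁻¹ = _ := inv_of_mat hb h2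
  rw [ha', hb', ha, hb, comm_eq k hk, toMat_mul eEight (by rw [mulL_length]; exact h1.1) h2.1,
    toMat_mul eEight (by rw [mulL_length]; exact h2.1) h1.1, toMat_mul eEight h1.1 h2.1]

/-- The generators of the model. -/
noncomputable def o8gen (k : ℕ) : Om := if hk : k < 8 then (exists_gen hk).choose else 1

theorem mat_gen (k : ℕ) : omat (o8gen k).1 = toMat eEight (mcol k) := by
  by_cases hk : k < 8
  · rw [o8gen, dif_pos hk]; exact (exists_gen hk).choose_spec
  · rw [o8gen, dif_neg hk, mcol, List.getD_eq_default _ _ (by simpa [modelCols] using Nat.le_of_not_lt hk)]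
    exact (mat_one _).trans (toMat_idL eEight).symm

theorem mcol_length (k : ℕ) : (mcol k).length = 8 := by
  by_cases hk : k < 8
  · exact (gens_iso.1 k hk).1
  · rw [mcol, List.getD_eq_default _ _ (by simpa [modelCols] using Nat.le_of_not_lt hk)]; rfl

theorem codeW_length : ∀ w : List ℕ, (codeW w).length = 8
  | [] => rfl
  | k :: w => by rw [show codeW (k :: w) = mulL (mcol k) (codeW w) from rfl, mulL_length, codeW_length w]

/-- The matrix of a word. -/
theorem mat_word : ∀ w : List ℕ, omat (wprod o8gen w).1 = toMat eEight (codeW w)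
  | [] => (mat_one _).trans (toMat_idL eEight).symm
  | k :: w => by
    have : wprod o8gen (k :: w) = o8gen k * wprod o8gen w := by simp [wprod]
    rw [this, show codeW (k :: w) = mulL (mcol k) (codeW w) from rfl,
      toMat_mul eEight (mcol_length k) (codeW_length w), ← mat_gen, ← mat_word w]
    rfl

theorem wprod_eq {v w : List ℕ} (h : codeW v = codeW w) : wprod o8gen v = wprod o8gen w :=
  Subtype.ext (mat_inj _ (by have := mat_word v; have := mat_word w; simp_all [omat]))

theorem rels_ok : (∀ r ∈ relsC, codeW r = idL 8) ∧ (∀ r ∈ relsS, codeW r = idL 8) ∧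
    ∀ i < 3, codeW [7, i, i + 3, i, 7, i, i + 3, i, 7, i, i + 3, i] = idL 8 := by
  decide +kernel

theorem tables_ok : (∀ i < 4, TableOK eEight (Cfsg.quadFormPlus 4 (ZMod 2)) modelEls (modelTabs.getD i []) i) ∧
    ∀ i < 8, 4 ≤ i → TableOK eEight (Cfsg.quadFormPlus 4 (ZMod 2)) modelEls (modelTabs.getD i []) i := by
  constructor <;> decide +kernel

theorem els_ok : (∀ k < 10, (modelEls.getD k ([], 0, 0)).1 =
      if k < 8 then mcol k else if k = 8 then reflCols else idL 8) ∧
    (∀ k < modelEls.length, (modelEls.getD k ([], 0, 0)).1.length = 8) ∧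
    ∀ k < modelEls.length, 10 ≤ k → (modelEls.getD k ([], 0, 0)).2.1 < k ∧ (modelEls.getD k ([], 0, 0)).2.2 < k ∧
      (modelEls.getD k ([], 0, 0)).1 = mulL (modelEls.getD (modelEls.getD k ([], 0, 0)).2.1 ([], 0, 0)).1
        (modelEls.getD (modelEls.getD k ([], 0, 0)).2.2 ([], 0, 0)).1 := by
  decide +kernel

/-- The reflection permutes the generators. -/
def reflPerm (k : ℕ) : ℕ := [0, 2, 1, 3, 5, 4, 6, 7].getD k k

theorem refl_ok : ∀ k < 8, mulL (mulL reflCols (mcol k)) reflCols = mcol (reflPerm k) := by decide +kernel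

/-- The generators generate the model. -/
theorem closure_gen : Subgroup.closure (o8gen '' Set.Iio 8) = ⊤ := by
  obtain ⟨r, hr⟩ := exists_iso eEight (Cfsg.quadFormPlus 4 (ZMod 2)) gens_iso.2
  set K : Subgroup O8 := (Subgroup.closure (o8gen '' Set.Iio 8)).map (Subgroup.subtype _) with hK
  have hrr : r * r = 1 := mat_inj _ (by
    rw [mat_mul, hr, ← toMat_mul eEight gens_iso.2.1 gens_iso.2.1, gens_iso.2.2.2.1, toMat_idL, mat_one])
  have hrinv : r⁻¹ = r := inv_eq_of_mul_eq_one_right hrr
  have hgen : ∀ k < 8, (o8gen k).1 ∈ K := fun k hk =>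
    ⟨o8gen k, Subgroup.subset_closure ⟨k, hk, rfl⟩, rfl⟩
  have hnorm : ∀ x ∈ K, r * x * r ∈ K := by
    have key : ∀ y ∈ Subgroup.closure (o8gen '' Set.Iio 8), r * y.1 * r ∈ K := by
      intro y hy
      induction hy using Subgroup.closure_induction with
      | mem s hs =>
        obtain ⟨k, hk, rfl⟩ := hs
        have hk' : reflPerm k < 8 :=
          (show ∀ j < 8, reflPerm j < 8 by decide) k hk
        rw [show r * (o8gen k).1 * r = (o8gen (reflPerm k)).1 from mat_inj _ (by
          rw [mat_mul, mat_mul, hr, show mat _ (o8gen k).1 = _ from mat_gen k,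
            ← toMat_mul eEight gens_iso.2.1 (mcol_length k),
            ← toMat_mul eEight (by rw [mulL_length, mcol_length]) gens_iso.2.1, refl_ok k hk]
          exact (mat_gen (reflPerm k)).symm)]
        exact hgen _ hk'
      | one => simp [hrr]
      | mul a b _ _ ha hb =>
        have := K.mul_mem ha hb
        rw [show r * a.1 * r * (r * b.1 * r) = r * (a * b).1 * r by
          simp [mul_assoc, ← mul_assoc r r, hrr]] at this
        exact this
      | inv a _ ha =>
        have := K.inv_mem ha
        simpa [mul_assoc, hrinv] using this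
    rintro x ⟨y, hy, rfl⟩
    exact key y hy
  -- the subgroup and the reflection give every isometry
  let H : Subgroup O8 :=
    { carrier := {x | x ∈ K ∨ x * r ∈ K}
      one_mem' := Or.inl K.one_mem
      mul_mem' := by
        rintro a b (ha | ha) (hb | hb)
        · exact Or.inl (K.mul_mem ha hb)
        · exact Or.inr (by rw [mul_assoc]; exact K.mul_mem ha hb)
        · refine Or.inr ?_
          have := K.mul_mem ha (hnorm _ hb)
          simpa [mul_assoc, ← mul_assoc r r, hrr] using this
        · refine Or.inl ?_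
          have := K.mul_mem ha (hnorm _ hb)
          simpa [mul_assoc, ← mul_assoc r r, hrr] using this
      inv_mem' := by
        rintro a (ha | ha)
        · exact Or.inl (K.inv_mem ha)
        · refine Or.inr ?_
          have := hnorm _ (K.inv_mem ha)
          simpa [mul_assoc, hrinv, ← mul_assoc r r, hrr] using this }
  obtain ⟨e10, hlen, hprod⟩ := els_ok
  have hels : ∀ k < modelEls.length, ∃ h ∈ H, omat h = toMat eEight (modelEls.getD k ([], 0, 0)).1 := by
    intro k
    induction k using Nat.strong_induction_on with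
    | _ k ih =>
      intro hk
      by_cases h10 : k < 10
      · rw [e10 k h10]
        by_cases h8 : k < 8
        · rw [if_pos h8]; exact ⟨_, Or.inl (hgen k h8), mat_gen k⟩
        rw [if_neg h8]
        by_cases h8' : k = 8
        · rw [if_pos h8']; exact ⟨r, Or.inr (by rw [hrr]; exact K.one_mem), hr⟩
        · rw [if_neg h8']; exact ⟨1, H.one_mem, (mat_one _).trans (toMat_idL eEight).symm⟩
      · obtain ⟨hi, hj, he⟩ := hprod k hk (by omega)
        obtain ⟨a, ha, ha'⟩ := ih _ hi (by omega)
        obtain ⟨b, hb, hb'⟩ := ih _ hj (by omega)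
        refine ⟨a * b, H.mul_mem ha hb, ?_⟩
        rw [he, toMat_mul eEight (hlen _ (by omega)) (hlen _ (by omega)), ← ha', ← hb']
        rfl
  have hall : ∀ g : O8, g ∈ H := mem_of_tables eEight _ H modelEls hlen hels modelTabs fun i hi =>
    if h : i < 4 then tables_ok.1 i h else tables_ok.2 i hi (Nat.le_of_not_lt h)
  -- index two in the isometries
  have hidx : K.index ≤ 2 := by
    classical
    let f : Bool → O8 ⧸ K := fun b => if b then ((r : O8) : O8 ⧸ K) else ((1 : O8) : O8 ⧸ K)
    have hf : Function.Surjective f := by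
      intro x
      obtain ⟨g, rfl⟩ := QuotientGroup.mk_surjective x
      rcases hall g with h | h
      · exact ⟨false, QuotientGroup.eq.2 (by simpa using h)⟩
      · refine ⟨true, QuotientGroup.eq.2 ?_⟩
        have h' := hnorm _ h
        show r⁻¹ * g ∈ K
        simpa [mul_assoc, hrinv, hrr] using h'
    have := Nat.card_le_card_of_surjective f hf
    simpa [Subgroup.index] using this
  have hO : (Cfsg.Omega (ZMod 2) (Cfsg.quadFormPlus 4 (ZMod 2))).index = 2 := CfsgLib.ClassK.Conway.omega8plus_index
  set L := Subgroup.closure (o8gen '' Set.Iio 8)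
  have hmul : K.index = L.index * (Cfsg.Omega (ZMod 2) (Cfsg.quadFormPlus 4 (ZMod 2))).index :=
    Subgroup.index_map_subtype L
  refine Subgroup.index_eq_one.1 ?_
  have : L.index ≠ 0 := Subgroup.index_ne_zero_of_finite
  rw [hO] at hmul
  omega

end CfsgLib.Recog.OEightCent
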