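import Cfsg.Agent.Lib.Recog.OEightCent.PinNorm

/-!
The raising letters on the lifts, the commutation pattern, and the removal of the sign.
-/

set_option autoImplicit false
set_option linter.unusedSectionVars false

namespace CfsgLib.Recog.OEightCent

open Subgroup

variable {G : Type*} [Group G]

namespace Setup

variable {S : Setup G} {f : ℕ → G}

namespace Pre

variable (h : S.Pre f)
include h

theorem lft_single {i : ℕ} (hi : i < 3) : lft f (2 ^ i) = cf f (i + 3) (f 6) := by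
  interval_cases i <;> simp [lft, cfb, Nat.testBit, Nat.shiftRight_eq_div_pow]

omit h in
theorem lft_zero : lft f 0 = f 6 := by simp [lft, cfb]

/-- A raising letter fixes `x` and adds `x` to the lift of its own index, up to a sign. -/
theorem cf_raise_base {i : ℕ} (hi : i < 3) :
    cf f i (f 6) = f 6 ∧ ∃ v, cf f i (lft f (2 ^ i)) = f 6 * lft f (2 ^ i) * pw S.t v := by
  have hx := h.mem (show 6 < 7 by norm_num)
  obtain ⟨p, hp⟩ := h.sq (show i < 6 by omega)
  obtain ⟨q, hq⟩ := h.sq (show i + 3 < 6 by omega)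
  obtain ⟨e, he⟩ := h.rel (r := [i, 6, i, 6]) ((by decide : ∀ i < 3, [i, 6, i, 6] ∈ relsC) i hi)
  obtain ⟨v, hv⟩ := h.rel (r := [i, i + 3, 6, i + 3, i, i + 3, 6, i + 3, 6])
    ((by decide : ∀ i < 3, [i, i + 3, 6, i + 3, i, i + 3, 6, i + 3, 6] ∈ relsC) i hi)
  set a := f i
  set b := f (i + 3)
  set x := f 6
  set X := cf f (i + 3) x with hX
  have ha := h.mem (show i < 7 by omega)
  have hb := h.mem (show i + 3 < 7 by omega)
  have hXm := h.cf_mem (show i + 3 < 7 by omega) hx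
  have conjB : ∀ y, b * y * b = cf f (i + 3) y * pw S.t q := fun y => by
    rw [show cf f (i + 3) y = b * y * b⁻¹ from rfl, ← hq]
    group
  have conjA : ∀ y, a * y * a = cf f i y * pw S.t p := fun y => by
    rw [show cf f i y = a * y * a⁻¹ from rfl, ← hp]
    group
  have hX2 : X * X = 1 := by rw [hX, ← cf_mul, h.x_sq, cf, mul_one, mul_inv_cancel]
  -- `c x = x t^e`, `c X = x X t^v`
  have hcx : ∃ e', cf f i x = x * pw S.t e' := by
    have e1 : cf f i x * pw S.t p * x = pw S.t e := by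
      rw [← conjA]; simpa [wprod, mul_assoc] using he
    refine ⟨e ^^ p, ?_⟩
    calc cf f i x = cf f i x * pw S.t p * x * (pw S.t p * x)⁻¹ := by group
      _ = pw S.t e * (x⁻¹ * (pw S.t p)⁻¹) := by rw [e1, mul_inv_rev]
      _ = x * (pw S.t e * pw S.t p) := by
        rw [inv_eq_of_mul_eq_one_right h.x_sq, show (pw S.t p)⁻¹ = pw S.t p from
          inv_eq_of_mul_eq_one_right (by rw [← pw_xor S.t_mul, Bool.xor_self]; rfl),
          ← mul_assoc, (S.pw_comm' hx e).eq, mul_assoc]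
      _ = _ := by rw [← pw_xor S.t_mul]
  have hcX : ∃ v', cf f i X = x * X * pw S.t v' := by
    have e1 : cf f i (X * pw S.t q) * pw S.t p * (X * pw S.t q) * x = pw S.t v := by
      rw [← conjA, hX, ← conjB]; simpa [wprod, mul_assoc] using hv
    refine ⟨v ^^ p, ?_⟩
    rw [cf_mul, h.cf_pw (by omega)] at e1
    have e2 : cf f i X * pw S.t p * (X * x) = pw S.t v := by
      rw [← e1]
      have z1 := (S.pw_comm' hXm q).eq
      have ePQ : pw S.t q * (pw S.t p * pw S.t q) = pw S.t p := by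
        rw [← pw_xor S.t_mul, ← pw_xor S.t_mul, Bool.xor_comm p q, ← Bool.xor_assoc, Bool.xor_self,
          Bool.false_xor]
      calc cf f i X * pw S.t p * (X * x)
          = cf f i X * (pw S.t q * (pw S.t p * pw S.t q)) * (X * x) := by rw [ePQ]
        _ = cf f i X * pw S.t q * pw S.t p * (pw S.t q * X) * x := by group
        _ = _ := by rw [z1]
    calc cf f i X = cf f i X * pw S.t p * (X * x) * ((X * x)⁻¹ * (pw S.t p)⁻¹) := by group
      _ = pw S.t v * (x * X * pw S.t p) := by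
        rw [e2, mul_inv_rev, inv_eq_of_mul_eq_one_right h.x_sq, inv_eq_of_mul_eq_one_right hX2,
          show (pw S.t p)⁻¹ = pw S.t p from
            inv_eq_of_mul_eq_one_right (by rw [← pw_xor S.t_mul, Bool.xor_self]; rfl)]
      _ = x * X * (pw S.t v * pw S.t p) := by
        rw [← mul_assoc, (S.pw_comm' (mul_mem hx hXm) v).eq, mul_assoc]
      _ = _ := by rw [← pw_xor S.t_mul]
  obtain ⟨e', he'⟩ := hcx
  obtain ⟨v', hv'⟩ := hcX
  have hee : pw S.t e' = 1 := by
    have h2 : cf f i (cf f i X) = X := h.cf_cf (by omega) hXm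
    rw [hv', cf_mul, cf_mul, he', hv', h.cf_pw (by omega)] at h2
    have h3 : x * (pw S.t e' * x) * X * (pw S.t v' * pw S.t v') = X :=
      (show _ = x * pw S.t e' * (x * X * pw S.t v') * pw S.t v' by group).trans h2
    rw [(S.pw_comm' hx e').eq, ← mul_assoc x x, h.x_sq, one_mul, ← pw_xor S.t_mul, Bool.xor_self,
      show pw S.t false = 1 from rfl, mul_one] at h3
    exact mul_eq_right.1 h3
  refine ⟨by rw [he', hee, mul_one], v', ?_⟩
  rw [h.lft_single hi]
  exact hv'

/-- The sign of the action of a raising letter. -/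
theorem cf_raise {i : ℕ} (hi : i < 3) :
    ∃ v, ∀ m < 8, cf f i (lft f m) =
      if m.testBit i then lft f (m ^^^ 2 ^ i) * lft f m * pw S.t v else lft f m := by
  obtain ⟨h0, v, hv⟩ := h.cf_raise_base hi
  refine ⟨v, fun m hm => ?_⟩
  have hx := h.mem (show 6 < 7 by norm_num)
  have hc := fun {k l : ℕ} (hk : k < 6) (hl : l < 6) (hne : k % 3 ≠ l % 3) q hq =>
    h.cf_comm hk hl hne (q := q) hq
  have hpw := fun {k : ℕ} (hk : k < 7) => h.cf_pw hk v
  have m3 := h.cf_mem (show 3 < 7 by norm_num) hx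
  have m4 := h.cf_mem (show 4 < 7 by norm_num) hx
  have m5 := h.cf_mem (show 5 < 7 by norm_num) hx
  have m45 := h.cf_mem (show 4 < 7 by norm_num) m5
  have m35 := h.cf_mem (show 3 < 7 by norm_num) m5
  have m34 := h.cf_mem (show 3 < 7 by norm_num) m4
  have c43 := hc (show 4 < 6 by norm_num) (show 3 < 6 by norm_num) (by norm_num)
  have c53 := hc (show 5 < 6 by norm_num) (show 3 < 6 by norm_num) (by norm_num)
  have c54 := hc (show 5 < 6 by norm_num) (show 4 < 6 by norm_num) (by norm_num)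
  interval_cases i
  · have r4 := hc (show 0 < 6 by norm_num) (show 4 < 6 by norm_num) (by norm_num)
    have r5 := hc (show 0 < 6 by norm_num) (show 5 < 6 by norm_num) (by norm_num)
    interval_cases m <;>
      simp [lft, cfb, Nat.testBit, Nat.shiftRight_eq_div_pow] at hv ⊢ <;>
      simp [cf_mul, hpw, h0, hv, ← c43 _ hx, ← c53 _ hx, ← c43 _ m5, r4 _ hx, r5 _ hx, r4 _ m3, r5 _ m3,
        r4 _ m5, r4 _ m35, r4 _ (h.cf_mem (show 5 < 7 by norm_num) m3)]
  · have r3 := hc (show 1 < 6 by norm_num) (show 3 < 6 by norm_num) (by norm_num)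
    have r5 := hc (show 1 < 6 by norm_num) (show 5 < 6 by norm_num) (by norm_num)
    interval_cases m <;>
      simp [lft, cfb, Nat.testBit, Nat.shiftRight_eq_div_pow] at hv ⊢ <;>
      simp [cf_mul, hpw, h0, hv, ← c54 _ hx, r3 _ hx, r5 _ hx, r3 _ m4, r5 _ m4, r3 _ m45, r3 _ m5, r3 _ (h.cf_mem (show 5 < 7 by norm_num) m4)]
  · have r3 := hc (show 2 < 6 by norm_num) (show 3 < 6 by norm_num) (by norm_num)
    have r4 := hc (show 2 < 6 by norm_num) (show 4 < 6 by norm_num) (by norm_num)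
    interval_cases m <;>
      simp [lft, cfb, Nat.testBit, Nat.shiftRight_eq_div_pow] at hv ⊢ <;>
      simp [cf_mul, hpw, h0, hv, r3 _ hx, r4 _ hx, r3 _ m4, r4 _ m5, r3 _ m5, r3 _ m45]

theorem t_cf {k : ℕ} (hk : k < 7) : cf f k S.t = S.t := h.cf_pw hk true

/-- The commutator of two lifts. -/
theorem lft_comm_bit (m n : ℕ) :
    ∃ b, lft f m * lft f n = lft f n * lft f m * pw S.t b := by
  obtain ⟨b, hb⟩ := S.zp_pw (S.Q_comm _ (h.lft_Q m) _ (h.lft_Q n))
  refine ⟨b, ?_⟩
  calc lft f m * lft f n = lft f m * lft f n * (lft f m)⁻¹ * (lft f n)⁻¹ * (lft f n * lft f m) := by group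
    _ = pw S.t b * (lft f n * lft f m) := by rw [hb]
    _ = _ := (S.pw_comm' (mul_mem (h.lft_mem n) (h.lft_mem m)) b).eq

theorem comm_zero {n : ℕ} (hn : n < 7) : lft f 0 * lft f n = lft f n * lft f 0 := by
  obtain ⟨i, hi, hin⟩ := (by decide : ∀ n < 7, ∃ i < 3, Nat.testBit n i = false) n hn
  have hm : n ^^^ 2 ^ i < 8 := by
    interval_cases i <;> interval_cases n <;> decide
  have hbit : (n ^^^ 2 ^ i).testBit i = true := by
    rw [Nat.testBit_xor, hin, Nat.testBit_two_pow]; simp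
  obtain ⟨v, hv⟩ := h.cf_raise hi
  obtain ⟨h0, -⟩ := h.cf_raise_base hi
  obtain ⟨b, hb⟩ := h.lft_comm_bit 0 (n ^^^ 2 ^ i)
  obtain ⟨c, hc⟩ := h.lft_comm_bit 0 n
  have e := congrArg (cf f i) hb
  rw [cf_mul, cf_mul, cf_mul, h.cf_pw (by omega), hv _ hm, hbit, if_pos rfl, lft_zero, h0,
    Nat.xor_assoc, Nat.xor_self, Nat.xor_zero, ← lft_zero (f := f)] at e
  set x := lft f 0
  set Y := lft f n
  set Z := lft f (n ^^^ 2 ^ i)
  have cz : ∀ u, u ∈ centralizer ({S.t} : Set G) → ∀ d, pw S.t d * u = u * pw S.t d := fun u hu d =>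
    (S.pw_comm' hu d).eq
  have e1 : x * (Y * Z * pw S.t v) = Y * Z * x * pw S.t (b ^^ c) * pw S.t v := by
    calc x * (Y * Z * pw S.t v) = x * Y * Z * pw S.t v := by group
      _ = Y * x * (pw S.t c * Z) * pw S.t v := by rw [hc]; group
      _ = Y * (x * Z) * pw S.t c * pw S.t v := by rw [cz Z (h.lft_mem _) c]; group
      _ = Y * Z * x * (pw S.t b * pw S.t c) * pw S.t v := by rw [hb]; group
      _ = _ := by rw [← pw_xor S.t_mul]
  have e2 : Y * Z * pw S.t v * x * pw S.t b = Y * Z * x * pw S.t b * pw S.t v := by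
    calc Y * Z * pw S.t v * x * pw S.t b = Y * Z * (pw S.t v * x) * pw S.t b := by group
      _ = Y * Z * x * (pw S.t v * pw S.t b) := by rw [cz x (h.lft_mem _) v]; group
      _ = _ := by rw [← pw_xor S.t_mul, Bool.xor_comm, pw_xor S.t_mul]; group
  rw [e1, e2] at e
  have := S.pw_inj (mul_left_cancel (mul_right_cancel e))
  have hcf : c = false := by
    cases b <;> cases c <;> simp at this ⊢
  rw [hc, hcf]; simp [pw]

theorem comm_seven : lft f 0 * lft f 7 = lft f 7 * lft f 0 * S.t := by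
  have hx := h.mem (show 6 < 7 by norm_num)
  obtain ⟨q3, hq3⟩ := h.sq (show 3 < 6 by norm_num)
  obtain ⟨q4, hq4⟩ := h.sq (show 4 < 6 by norm_num)
  obtain ⟨q5, hq5⟩ := h.sq (show 5 < 6 by norm_num)
  have cz : ∀ u, u ∈ centralizer ({S.t} : Set G) → ∀ d, pw S.t d * u = u * pw S.t d := fun u hu d =>
    (S.pw_comm' hu d).eq
  have hs : f 3 * f 4 * f 5 * f 6 * f 5 * f 4 * f 3 = lft f 7 * pw S.t (q5 ^^ q4 ^^ q3) := by
    have h7 : lft f 7 = cf f 3 (cf f 4 (cf f 5 (f 6))) := by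
      simp [lft, cfb, Nat.testBit, Nat.shiftRight_eq_div_pow]
    have d5 : f 5 * f 6 * f 5 = cf f 5 (f 6) * pw S.t q5 := by rw [← hq5, cf]; group
    have d4 : f 4 * (cf f 5 (f 6) * pw S.t q5) * f 4 = cf f 4 (cf f 5 (f 6)) * pw S.t q5 * pw S.t q4 := by
      rw [mul_assoc (f 4), mul_assoc (cf f 5 (f 6)), cz (f 4) (h.mem (by norm_num)) q5, ← hq4]
      simp only [cf]
      calc f 4 * (f 5 * f 6 * (f 5)⁻¹ * (f 4 * pw S.t q5))
          = f 4 * (f 5 * f 6 * (f 5)⁻¹) * (f 4)⁻¹ * (f 4 * f 4 * pw S.t q5) := by group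
        _ = f 4 * (f 5 * f 6 * (f 5)⁻¹) * (f 4)⁻¹ * (pw S.t q5 * (f 4 * f 4)) := by
          rw [cz _ (mul_mem (h.mem (by norm_num)) (h.mem (by norm_num))) q5]
        _ = _ := by group
    have d3 : f 3 * (cf f 4 (cf f 5 (f 6)) * pw S.t q5 * pw S.t q4) * f 3 =
        lft f 7 * pw S.t q5 * pw S.t q4 * pw S.t q3 := by
      rw [h7, ← hq3]
      set Z := cf f 4 (cf f 5 (f 6))
      calc f 3 * (Z * pw S.t q5 * pw S.t q4) * f 3
          = f 3 * Z * (pw S.t q5 * (pw S.t q4 * f 3)) := by group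
        _ = f 3 * Z * (pw S.t q5 * f 3 * pw S.t q4) := by rw [cz _ (h.mem (by norm_num)) q4]; group
        _ = f 3 * Z * (f 3)⁻¹ * (f 3 * f 3 * pw S.t q5 * pw S.t q4) := by
          rw [cz _ (h.mem (by norm_num)) q5]; group
        _ = f 3 * Z * (f 3)⁻¹ * (pw S.t q5 * pw S.t q4 * (f 3 * f 3)) := by
          have hm3 := mul_mem (h.mem (show 3 < 7 by norm_num)) (h.mem (show 3 < 7 by norm_num))
          rw [mul_assoc (f 3 * f 3), ((S.pw_comm' hm3 q5).mul_left (S.pw_comm' hm3 q4)).eq]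
        _ = _ := by simp only [cf]; group
    rw [pw_xor S.t_mul, pw_xor S.t_mul, ← mul_assoc, ← mul_assoc, ← d3, ← d4, ← d5]
    group
  set s := q5 ^^ q4 ^^ q3
  set Y := lft f 7
  have hz : f 6 * (f 3 * f 4 * f 5 * f 6 * f 5 * f 4 * f 3) *
      (f 6 * (f 3 * f 4 * f 5 * f 6 * f 5 * f 4 * f 3)) = S.t := by
    have := h.tensor.zword
    simpa [wprod, zWord, mul_assoc] using this
  rw [hs, ← lft_zero (f := f)] at hz
  set x := lft f 0
  have hsq : x * Y * (x * Y) = S.t := by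
    rw [← hz]
    calc x * Y * (x * Y) = x * Y * (pw S.t s * pw S.t s) * (x * Y) := by
          rw [← pw_xor S.t_mul, Bool.xor_self]; simp [pw]
      _ = x * (Y * pw S.t s) * (pw S.t s * (x * Y)) := by group
      _ = x * (Y * pw S.t s) * (x * (Y * pw S.t s)) := by
        rw [cz _ (mul_mem (h.lft_mem 0) (h.lft_mem 7)) s]; group; rfl
  calc x * Y = x * Y * (x * Y) * ((x * Y)⁻¹) := by group
    _ = S.t * (Y * x) := by
      rw [hsq, mul_inv_rev, inv_eq_of_mul_eq_one_right (h.lft_sq 7), inv_eq_of_mul_eq_one_right (h.lft_sq 0)]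
    _ = _ := (S.tp_comm (mul_mem (h.lft_mem 7) (h.lft_mem 0))).eq

theorem eight : Eight S.t (lft f) where
  t_sq := S.t_mul
  t_ne := S.tp_ne
  t_comm m _ := (S.tp_comm (h.lft_mem m)).eq
  sq m _ := h.lft_sq m
  comm m hm n hn := by
    -- move `m` to `0` by lowering letters
    have base : ∀ k < 8, lft f 0 * lft f k = lft f k * lft f 0 * pw S.t (k == 7) := by
      intro k hk
      by_cases h7 : k = 7
      · subst h7; exact h.comm_seven
      · rw [h.comm_zero (show k < 7 by omega), show (k == 7) = false by simpa using h7]; simp [pw]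
    have flip : ∀ j < 3, ∀ a < 8, ∀ b < 8, ∀ e : Bool,
        lft f a * lft f b = lft f b * lft f a * pw S.t e →
          lft f (a ^^^ 2 ^ j) * lft f (b ^^^ 2 ^ j) =
            lft f (b ^^^ 2 ^ j) * lft f (a ^^^ 2 ^ j) * pw S.t e := by
      intro j hj a ha b hb e he
      have := congrArg (cf f (j + 3)) he
      rw [cf_mul, cf_mul, cf_mul, h.cf_lower hj ha, h.cf_lower hj hb, h.cf_pw (by omega)] at this
      exact this
    have step : ∀ (c : Bool) (j : ℕ), j < 3 → ∀ a < 8, ∀ b < 8, ∀ e : Bool,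
        lft f a * lft f b = lft f b * lft f a * pw S.t e →
          lft f (a ^^^ cond c (2 ^ j) 0) * lft f (b ^^^ cond c (2 ^ j) 0) =
            lft f (b ^^^ cond c (2 ^ j) 0) * lft f (a ^^^ cond c (2 ^ j) 0) * pw S.t e := by
      intro c j hj a ha b hb e he
      cases c
      · simpa using he
      · exact flip j hj a ha b hb e he
    have lt8 : ∀ (c : Bool), ∀ j < 3, ∀ a < 8, a ^^^ cond c (2 ^ j) 0 < 8 := by decide
    have key : ∀ m < 8, ∀ n < 8,
        (m ^^^ n ^^^ cond (m.testBit 0) (2 ^ 0) 0 ^^^ cond (m.testBit 1) (2 ^ 1) 0 ^^^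
            cond (m.testBit 2) (2 ^ 2) 0 = n ∧
          0 ^^^ cond (m.testBit 0) (2 ^ 0) 0 ^^^ cond (m.testBit 1) (2 ^ 1) 0 ^^^
            cond (m.testBit 2) (2 ^ 2) 0 = m ∧
          m ^^^ n < 8 ∧ ((m ^^^ n) == 7) = (m + n == 7)) := by decide
    obtain ⟨k1, k2, k3, k4⟩ := key m hm n hn
    have s0 := step (m.testBit 0) 0 (by norm_num) 0 (by norm_num) _ k3 _ (base _ k3)
    have s1 := step (m.testBit 1) 1 (by norm_num) _ (lt8 _ 0 (by norm_num) _ (by norm_num))
      _ (lt8 _ 0 (by norm_num) _ k3) _ s0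
    have s2 := step (m.testBit 2) 2 (by norm_num) _ (lt8 _ 1 (by norm_num) _ (lt8 _ 0 (by norm_num) _ (by norm_num)))
      _ (lt8 _ 1 (by norm_num) _ (lt8 _ 0 (by norm_num) _ k3)) _ s1
    rwa [k1, k2, k4] at s2

/-- The three signs agree. -/
theorem sign_eq {i j : ℕ} (hi : i < 3) (hj : j < 3) (hne : i ≠ j) {v w : Bool}
    (hv : ∀ m < 8, cf f i (lft f m) =
      if m.testBit i then lft f (m ^^^ 2 ^ i) * lft f m * pw S.t v else lft f m)
    (hw : ∀ m < 8, cf f j (lft f m) =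
      if m.testBit j then lft f (m ^^^ 2 ^ j) * lft f m * pw S.t w else lft f m) : v = w := by
  have hE := h.eight
  have hmem : ∀ m, lft f m ∈ centralizer ({S.t} : Set G) := h.lft_mem
  have hcomm := h.cf_comm (show i < 6 by omega) (show j < 6 by omega) (by omega) (hmem (2 ^ i ^^^ 2 ^ j))
  obtain ⟨M, hM, hMi, hMj, h1i, h1j, hij, hji, hlti, hltj, hne'⟩ :
      ∃ M, M = 2 ^ i ^^^ 2 ^ j ∧ M.testBit i = true ∧ M.testBit j = true ∧
        (2 ^ i).testBit i = true ∧ (2 ^ j).testBit j = true ∧ M ^^^ 2 ^ i = 2 ^ j ∧ M ^^^ 2 ^ j = 2 ^ i ∧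
        2 ^ i < 8 ∧ 2 ^ j < 8 ∧ 2 ^ i + 2 ^ j ≠ 7 := by
    refine ⟨_, rfl, ?_⟩
    interval_cases i <;> interval_cases j <;> first | omega | decide
  have hlt : M < 8 := by rw [hM]; interval_cases i <;> interval_cases j <;> decide
  rw [← hM, hw M hlt, if_pos hMj, hv M hlt, if_pos hMi, cf_mul, cf_mul, cf_mul, cf_mul,
    h.cf_pw (by omega), h.cf_pw (by omega), hji, hij, hv _ hlti, if_pos h1i, hv M hlt, if_pos hMi,
    hw _ hltj, if_pos h1j, hw M hlt, if_pos hMj, hji, hij, Nat.xor_self, Nat.xor_self] at hcomm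
  set A := lft f (2 ^ i)
  set B := lft f (2 ^ j)
  set X := lft f M
  set x := lft f 0
  have cz : ∀ u, u ∈ centralizer ({S.t} : Set G) → ∀ d, pw S.t d * u = u * pw S.t d := fun u hu d =>
    (S.pw_comm' hu d).eq
  have hAB : A * B = B * A := (hE.commute_of_ne hlti hltj hne').eq
  have l1 : x * A * pw S.t v * (B * X * pw S.t v) * pw S.t w = x * (A * B) * X * pw S.t w := by
    calc x * A * pw S.t v * (B * X * pw S.t v) * pw S.t w
        = x * A * (pw S.t v * (B * X)) * pw S.t v * pw S.t w := by group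
      _ = x * (A * B) * X * (pw S.t v * pw S.t v) * pw S.t w := by
        rw [cz _ (mul_mem (hmem _) (hmem _)) v]; group; rfl
      _ = _ := by rw [← pw_xor S.t_mul, Bool.xor_self]; simp [pw]
  have l2 : x * B * pw S.t w * (A * X * pw S.t w) * pw S.t v = x * (B * A) * X * pw S.t v := by
    calc x * B * pw S.t w * (A * X * pw S.t w) * pw S.t v
        = x * B * (pw S.t w * (A * X)) * pw S.t w * pw S.t v := by group
      _ = x * (B * A) * X * (pw S.t w * pw S.t w) * pw S.t v := by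
        rw [cz _ (mul_mem (hmem _) (hmem _)) w]; group; rfl
      _ = _ := by rw [← pw_xor S.t_mul, Bool.xor_self]; simp [pw]
  rw [l1, l2, hAB] at hcomm
  exact (S.pw_inj (mul_left_cancel hcomm)).symm

end Pre

end Setup

end CfsgLib.Recog.OEightCent
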