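import Cfsg.Agent.Lib.Recog.OEightCent.PinNormal

/-!
The action of the six letters on the codes of the extraspecial group, and the arithmetic used to count the
square roots of `t`, `x` and `x t` in the centraliser of `t` and `x`.
-/

set_option autoImplicit false
set_option linter.unusedSectionVars false

namespace CfsgLib.Recog.OEightCent

/-- The image of a lift under a letter. -/
def qimg (k m : ℕ) : ℕ :=
  if k < 3 then (if m.testBit k then qpin (2 ^ (m ^^^ 2 ^ k)) (2 ^ m) else 2 ^ m)
  else 2 ^ (m ^^^ 2 ^ (k - 3))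

/-- The image of one bit. -/
def qbit (k q m : ℕ) : ℕ := if q.testBit m then (if m < 8 then qimg k m else 256) else 0

/-- The action of a letter on codes. -/
def qact (k q : ℕ) : ℕ :=
  qpin (qpin (qpin (qbit k q 0) (qpin (qbit k q 1) (qpin (qbit k q 2) (qbit k q 3))))
    (qpin (qbit k q 4) (qpin (qbit k q 5) (qpin (qbit k q 6) (qbit k q 7))))) (qbit k q 8)

/-- The action of a letter, if the bit is set. -/
def qactb (k : ℕ) (b : Bool) (q : ℕ) : ℕ := cond b (qact k q) q

/-- The action of a product of raising letters. -/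
def qactE (e q : ℕ) : ℕ := qactb 0 (e.testBit 0) (qactb 1 (e.testBit 1) (qactb 2 (e.testBit 2) q))

/-- The code of the inverse. -/
def qinv (q : ℕ) : ℕ := qpin q (qpin q q)

/-- The central part of the square of a product of raising letters. -/
def kapQ (s₀ s₁ s₂ c₀₁ c₀₂ c₁₂ : Bool) (e : ℕ) : Bool :=
  (e.testBit 0 && s₀) ^^ (e.testBit 1 && s₁) ^^ (e.testBit 2 && s₂) ^^
    (e.testBit 0 && e.testBit 1 && c₀₁) ^^ (e.testBit 0 && e.testBit 2 && c₀₂) ^^
      (e.testBit 1 && e.testBit 2 && c₁₂)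

/-- The codes of the elements of the extraspecial group commuting with `x`. -/
def qCent : Finset ℕ := (Finset.range 512).filter fun q => q.testBit 7 = false

/-- The number of codes whose part of the square is `v`. -/
def sqTab (e v : ℕ) : ℕ := (qCent.filter fun q => qpin q (qactE e q) = v).card

/-- The letters of the witness of an element of the orbit of `x`. -/
def orbWord (j : ℕ) : List ℕ :=
  [[], [3], [0, 3]].getD (j % 3) [] ++ [[], [4], [1, 4]].getD (j / 3 % 3) [] ++
    [[], [5], [2, 5]].getD (j / 9 % 3) []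

/-- The orbit of `x`. -/
def orbCode (j : ℕ) : ℕ := (orbWord j).foldr qact (if j < 27 then 1 else 257)

theorem xor_lt_512 {a b : ℕ} (ha : a < 512) (hb : b < 512) : a ^^^ b < 512 :=
  Nat.xor_lt_two_pow (n := 9) ha hb

theorem qpin_lt {q r : ℕ} (hq : q < 512) (hr : r < 512) : qpin q r < 512 :=
  xor_lt_512 (xor_lt_512 hq hr) (by split_ifs <;> norm_num)

theorem qpin_256 (a : ℕ) : qpin a 256 = a ^^^ 256 := by
  have h : ∀ i < 4, Nat.testBit 256 i = false := by decide
  simp [qpin, h]

theorem qpin_zero (a : ℕ) : qpin a 0 = a := by simp [qpin]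

theorem qimg_lt : ∀ k < 6, ∀ m < 8, qimg k m < 512 := by decide +kernel

theorem qbit_lt {k : ℕ} (hk : k < 6) (q m : ℕ) : qbit k q m < 512 := by
  unfold qbit
  split_ifs with h1 h2
  exacts [qimg_lt k hk m h2, by norm_num, by norm_num]

theorem qact_lt {k : ℕ} (hk : k < 6) (q : ℕ) : qact k q < 512 :=
  qpin_lt (qpin_lt (qpin_lt (qbit_lt hk _ _) (qpin_lt (qbit_lt hk _ _) (qpin_lt (qbit_lt hk _ _) (qbit_lt hk _ _))))
    (qpin_lt (qbit_lt hk _ _) (qpin_lt (qbit_lt hk _ _) (qpin_lt (qbit_lt hk _ _) (qbit_lt hk _ _)))))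
    (qbit_lt hk _ _)

theorem qactb_lt {k : ℕ} (hk : k < 6) (b : Bool) {q : ℕ} (hq : q < 512) : qactb k b q < 512 := by
  cases b
  exacts [hq, qact_lt hk q]

theorem qactE_lt (e : ℕ) {q : ℕ} (hq : q < 512) : qactE e q < 512 :=
  qactb_lt (by norm_num) _ (qactb_lt (by norm_num) _ (qactb_lt (by norm_num) _ hq))

theorem qactE_one : ∀ e < 8, qactE e 1 = 1 := by decide +kernel

theorem qactE_sep : ∀ e < 8, ∀ e' < 8, qactE e 128 % 256 = qactE e' 128 % 256 → e = e' := by decide +kernel

theorem qinv_spec : ∀ q < 512, qpin (qinv q) q = 0 := by decide +kernel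

theorem qinv_lt {q : ℕ} (hq : q < 512) : qinv q < 512 := qpin_lt hq (qpin_lt hq hq)

theorem qpin_mod (a b : ℕ) : qpin a b % 256 = (a % 256) ^^^ (b % 256) := by
  rw [qpin, show (256 : ℕ) = 2 ^ 8 from rfl, Nat.xor_mod_two_pow, Nat.xor_mod_two_pow]
  split_ifs <;> simp

theorem orb_inj : ((List.range 54).map orbCode).Nodup := by decide +kernel

theorem orbCode_lt : ∀ j < 54, orbCode j < 512 := by decide +kernel

theorem orbWord_lt : ∀ j < 54, ∀ k ∈ orbWord j, k < 6 := by decide +kernel

/-- The table of squares. -/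
theorem sqTab_val : ∀ e < 8,
    sqTab e 0 = (if e = 0 then 144 else 32) ∧ sqTab e 256 = (if e = 0 then 112 else 0) ∧
      sqTab e 1 = (if e = 0 then 0 else 16) ∧ sqTab e 257 = (if e = 0 then 0 else 16) := by
  decide +kernel

theorem qCent_card : qCent.card = 256 := by decide +kernel

/-- Equal numbers of roots of `t`, `x`, `x t` force every sign to vanish. -/
theorem kappa_zero : ∀ s₀ s₁ s₂ c₀₁ c₀₂ c₁₂ : Bool,
    (∑ e ∈ Finset.range 8, if kapQ s₀ s₁ s₂ c₀₁ c₀₂ c₁₂ e then (if e = 0 then 144 else 32)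
        else (if e = 0 then 112 else 0)) = (∑ e ∈ Finset.range 8, if e = 0 then (0 : ℕ) else 16) →
      s₀ = false ∧ s₁ = false ∧ s₂ = false ∧ c₀₁ = false ∧ c₀₂ = false ∧ c₁₂ = false := by
  decide +kernel

end CfsgLib.Recog.OEightCent
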