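import Cfsg.Agent.Lib.Recog.OEightCent.PinCode

/-!
The centraliser of `t` and `x` has as many square roots of `t` as of `x`; hence the raising letters are
commuting involutions.
-/

set_option autoImplicit false
set_option linter.unusedSectionVars false

namespace CfsgLib.Recog.OEightCent

open Subgroup

variable {G : Type*} [Group G]

/-- A product of raising letters. -/
def raiseElt (f : ℕ → G) (e : ℕ) : G :=
  pw (f 0) (e.testBit 0) * (pw (f 1) (e.testBit 1) * pw (f 2) (e.testBit 2))

theorem kap_eq : ∀ a b c s₀ s₁ s₂ c₀₁ c₀₂ c₁₂ : Bool,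
    ((a && s₀) ^^ (b && s₁) ^^ (c && s₂) ^^ (c && b && c₁₂) ^^ (b && a && c₀₁) ^^ (c && a && c₀₂)) =
      ((a && s₀) ^^ (b && s₁) ^^ (c && s₂) ^^ (a && b && c₀₁) ^^ (a && c && c₀₂) ^^ (b && c && c₁₂)) := by
  decide

attribute [local irreducible] qCent sqTab

namespace Setup

variable {S : Setup G} {f : ℕ → G}

namespace Normal

variable (h : S.Normal f)
include h

theorem cf_bit {k : ℕ} (hk : k < 6) (q m : ℕ) (hm : m < 8) :
    cf f k (pw (lft f m) (q.testBit m)) = qElt S.t (lft f) (qbit k q m) := by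
  have hE := h.pre.eight
  cases hq : q.testBit m
  · simp [qbit, hq, pw, cf, Eight.qElt_zero]
  · rw [qbit, hq, if_pos rfl, if_pos hm, show pw (lft f m) true = lft f m from rfl, qimg]
    by_cases h3 : k < 3
    · rw [if_pos h3, h.raise k h3 m hm]
      split_ifs
      · have hb : m ^^^ 2 ^ k < 8 := by interval_cases k <;> interval_cases m <;> decide
        rw [hE.qElt_mul, Eight.qElt_X hb, Eight.qElt_X hm]
      · rw [Eight.qElt_X hm]
    · obtain ⟨j, rfl⟩ : ∃ j, k = j + 3 := ⟨k - 3, by omega⟩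
      have hj : j < 3 := by omega
      have hb : m ^^^ 2 ^ j < 8 := by interval_cases j <;> interval_cases m <;> decide
      rw [if_neg h3, Nat.add_sub_cancel, h.pre.cf_lower hj hm, Eight.qElt_X hb]

theorem cf_qElt {k : ℕ} (hk : k < 6) (q : ℕ) :
    cf f k (qElt S.t (lft f) q) = qElt S.t (lft f) (qact k q) := by
  have hE := h.pre.eight
  have h8 : cf f k (pw S.t (q.testBit 8)) = qElt S.t (lft f) (qbit k q 8) := by
    rw [h.pre.cf_pw (by omega)]
    cases hq : q.testBit 8 <;> simp [qbit, hq, pw, Eight.qElt_zero, Eight.qElt_t]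
  conv_lhs => rw [qElt]
  simp only [qact, hE.qElt_mul, cf_mul, h.cf_bit hk q _ (show 0 < 8 by norm_num),
    h.cf_bit hk q _ (show 1 < 8 by norm_num), h.cf_bit hk q _ (show 2 < 8 by norm_num),
    h.cf_bit hk q _ (show 3 < 8 by norm_num), h.cf_bit hk q _ (show 4 < 8 by norm_num),
    h.cf_bit hk q _ (show 5 < 8 by norm_num), h.cf_bit hk q _ (show 6 < 8 by norm_num),
    h.cf_bit hk q _ (show 7 < 8 by norm_num), h8]

theorem move {k : ℕ} (hk : k < 6) (b : Bool) (q : ℕ) :
    pw (f k) b * qElt S.t (lft f) q = qElt S.t (lft f) (qactb k b q) * pw (f k) b := by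
  cases b
  · simp [pw, qactb]
  · show f k * _ = qElt S.t (lft f) (qact k q) * f k
    rw [← h.cf_qElt hk, cf, inv_mul_cancel_right]

theorem move_raise (e q : ℕ) :
    raiseElt f e * qElt S.t (lft f) q = qElt S.t (lft f) (qactE e q) * raiseElt f e := by
  simp only [raiseElt, qactE, mul_assoc]
  rw [h.move (show 2 < 6 by norm_num), ← mul_assoc (pw (f 1) _), h.move (show 1 < 6 by norm_num),
    mul_assoc _ (pw (f 1) _), ← mul_assoc (pw (f 0) _), h.move (show 0 < 6 by norm_num), mul_assoc]

theorem move_word {r : List ℕ} (hr : ∀ k ∈ r, k < 6) (q : ℕ) :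
    wprod f r * qElt S.t (lft f) q = qElt S.t (lft f) (r.foldr qact q) * wprod f r := by
  induction r with
  | nil => simp [wprod]
  | cons k r ih =>
    rw [wprod_cons, List.foldr_cons, mul_assoc, ih fun j hj => hr j (List.mem_cons_of_mem k hj),
      ← mul_assoc, show f k = pw (f k) true from rfl, h.move (hr k List.mem_cons_self), mul_assoc]
    rfl

theorem qElt_mem_C (q : ℕ) : qElt S.t (lft f) q ∈ centralizer ({S.t} : Set G) := by
  have hb : ∀ m b, pw (lft f m) b ∈ centralizer ({S.t} : Set G) := fun m b => by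
    cases b
    exacts [one_mem _, h.pre.lft_mem m]
  have ht : pw S.t (q.testBit 8) ∈ centralizer ({S.t} : Set G) := by
    cases q.testBit 8
    exacts [one_mem _, mem_centralizer_singleton_iff.2 rfl]
  exact mul_mem (mul_mem (mul_mem (hb _ _) (mul_mem (hb _ _) (mul_mem (hb _ _) (hb _ _))))
    (mul_mem (hb _ _) (mul_mem (hb _ _) (mul_mem (hb _ _) (hb _ _))))) ht

theorem raiseElt_mem (e : ℕ) : raiseElt f e ∈ centralizer ({S.t} : Set G) := by
  have hb : ∀ k < 7, ∀ b, pw (f k) b ∈ centralizer ({S.t} : Set G) := fun k hk b => by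
    cases b
    exacts [one_mem _, h.pre.mem hk]
  exact mul_mem (hb _ (by norm_num) _) (mul_mem (hb _ (by norm_num) _) (hb _ (by norm_num) _))

theorem x_code : f 6 = qElt S.t (lft f) 1 := by
  rw [← Pre.lft_zero (f := f), ← Eight.qElt_X (t := S.t) (X := lft f) (show 0 < 8 by norm_num), pow_zero]

/-- The squares of the products of raising letters. -/
theorem raiseElt_sq {s₀ s₁ s₂ c₀₁ c₀₂ c₁₂ : Bool} (h0 : f 0 * f 0 = pw S.t s₀)
    (h1 : f 1 * f 1 = pw S.t s₁) (h2 : f 2 * f 2 = pw S.t s₂) (h10 : f 1 * f 0 = f 0 * f 1 * pw S.t c₀₁)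
    (h20 : f 2 * f 0 = f 0 * f 2 * pw S.t c₀₂) (h21 : f 2 * f 1 = f 1 * f 2 * pw S.t c₁₂) (e : ℕ) :
    raiseElt f e * raiseElt f e = pw S.t (kapQ s₀ s₁ s₂ c₀₁ c₀₂ c₁₂ e) := by
  have hsq : ∀ {k : ℕ} {s : Bool}, f k * f k = pw S.t s → ∀ b,
      pw (f k) b * pw (f k) b = pw S.t (b && s) := by
    intro k s hs b
    cases b <;> simp [pw] at hs ⊢
    exact hs
  unfold raiseElt kapQ
  set a := e.testBit 0
  set b := e.testBit 1
  set c := e.testBit 2
  have vu := pw_comm h10 b a
  have wu := pw_comm h20 c a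
  have wv := pw_comm h21 c b
  set u := pw (f 0) a
  set v := pw (f 1) b
  set w := pw (f 2) c
  have hm : ∀ k < 7, ∀ d, pw (f k) d ∈ centralizer ({S.t} : Set G) := fun k hk d => by
    cases d
    exacts [one_mem _, h.pre.mem hk]
  have hv : v ∈ centralizer ({S.t} : Set G) := hm 1 (by norm_num) b
  have hw : w ∈ centralizer ({S.t} : Set G) := hm 2 (by norm_num) c
  have cz : ∀ g, g ∈ centralizer ({S.t} : Set G) → ∀ d, pw S.t d * g = g * pw S.t d := fun g hg d =>
    (S.pw_comm' hg d).eq
  calc u * (v * w) * (u * (v * w)) = u * v * (w * u) * v * w := by group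
    _ = u * v * u * w * (pw S.t (c && a && c₀₂) * (v * w)) := by rw [wu]; group
    _ = u * (v * u) * w * v * w * pw S.t (c && a && c₀₂) := by rw [cz _ (mul_mem hv hw)]; group
    _ = u * u * v * (pw S.t (b && a && c₀₁) * (w * v * w)) * pw S.t (c && a && c₀₂) := by rw [vu]; group
    _ = u * u * v * (w * v) * w * pw S.t (b && a && c₀₁) * pw S.t (c && a && c₀₂) := by
      rw [cz _ (mul_mem (mul_mem hw hv) hw)]; group
    _ = u * u * (v * v) * w * (pw S.t (c && b && c₁₂) * w) * pw S.t (b && a && c₀₁) *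
        pw S.t (c && a && c₀₂) := by rw [wv]; group
    _ = u * u * (v * v) * (w * w) * pw S.t (c && b && c₁₂) * pw S.t (b && a && c₀₁) *
        pw S.t (c && a && c₀₂) := by rw [cz _ hw]; group
    _ = _ := by
      rw [hsq h0, hsq h1, hsq h2]
      simp only [← pw_xor S.t_mul]
      rw [kap_eq]

theorem card_cent [Finite G] :
    Nat.card (centralizer ({S.t} : Set G) ⊓ centralizer ({f 6} : Set G) : Subgroup G) ≤ 2048 := by
  have hE := h.pre.eight
  have hC : Nat.card ↥(centralizer ({S.t} : Set G)) = 216 * 512 := by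
    have hk : S.proj.ker = S.Q.subgroupOf _ := ext fun c => by
      rw [MonoidHom.mem_ker, mem_subgroupOf]; exact S.proj_ker c
    have hQ : Nat.card S.proj.ker = 512 := by
      rw [hk, Nat.card_congr (subgroupOfEquivOfLe S.Q_le).toEquiv, S.Q_card]; norm_num
    have := S.proj.ker.card_mul_index
    rw [index_ker, MonoidHom.range_eq_top.2 S.proj_surj, card_top, hQ, Nat.card_prod, Nat.card_prod,
      Nat.card_perm, Nat.card_fin, mul_comm] at this
    rw [← this]; rfl
  have hw : ∀ j < 54, ∃ g ∈ centralizer ({S.t} : Set G), g * f 6 * g⁻¹ = qElt S.t (lft f) (orbCode j) := by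
    intro j hj
    have hmem : wprod f (orbWord j) ∈ centralizer ({S.t} : Set G) :=
      h.pre.tensor.wprod_mem fun k hk => by have := orbWord_lt j hj k hk; omega
    by_cases h27 : j < 27
    · refine ⟨_, hmem, ?_⟩
      rw [h.x_code, h.move_word (orbWord_lt j hj), mul_inv_cancel_right, orbCode, if_pos h27]
    · refine ⟨wprod f (orbWord j) * qElt S.t (lft f) 128, mul_mem hmem (h.qElt_mem_C _), ?_⟩
      have e : qElt S.t (lft f) 128 * qElt S.t (lft f) 1 = qElt S.t (lft f) 257 * qElt S.t (lft f) 128 := by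
        rw [← hE.qElt_mul, ← hE.qElt_mul, show qpin 128 1 = qpin 257 128 by decide]
      rw [h.x_code, mul_inv_rev, mul_assoc (wprod f (orbWord j)), e, ← mul_assoc, ← mul_assoc,
        mul_inv_cancel_right, h.move_word (orbWord_lt j hj), mul_inv_cancel_right, orbCode, if_neg h27]
  choose g hg hgx using hw
  set D := centralizer ({S.t} : Set G) ⊓ centralizer ({f 6} : Set G)
  let φ : Fin 54 × D → ↥(centralizer ({S.t} : Set G)) := fun p =>
    ⟨g p.1 p.1.2 * p.2, mul_mem (hg _ _) (mem_inf.1 p.2.2).1⟩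
  have hφ : Function.Injective φ := by
    rintro ⟨i, d⟩ ⟨j, d'⟩ e
    have e' : g i i.2 * (d : G) = g j j.2 * (d' : G) := congrArg Subtype.val e
    have key : ∀ (k : Fin 54) (d : D),
        g k k.2 * (d : G) * f 6 * (g k k.2 * (d : G))⁻¹ = qElt S.t (lft f) (orbCode k) := fun k d => by
      rw [← hgx k k.2, mul_assoc _ (d : G) (f 6), mem_centralizer_singleton_iff.1 (mem_inf.1 d.2).2]
      group
    have hcode := key i d
    rw [e', key j d'] at hcode
    have hij := hE.qElt_inj (orbCode_lt _ j.2) (orbCode_lt _ i.2) hcode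
    have hij' : i = j := by
      refine Fin.ext ?_
      have hn := List.nodup_iff_injective_get.1 orb_inj
      have := @hn ⟨i, by simpa using i.2⟩ ⟨j, by simpa using j.2⟩ (by simpa using hij.symm)
      simpa using this
    subst hij'
    exact Prod.ext rfl (Subtype.ext (mul_left_cancel e'))
  have := Nat.card_le_card_of_injective φ hφ
  rw [Nat.card_prod, Nat.card_fin, hC] at this
  omega

/-- The elements `q a` with `q` in the centraliser of `x` exhaust the centraliser of `t` and `x`, so counting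
their squares counts roots. -/
theorem card_roots [Finite G] (K : ℕ → Bool) (hK : ∀ e, raiseElt f e * raiseElt f e = pw S.t (K e))
    {v : ℕ} (hv : v < 512) :
    Nat.card {u : G // u ∈ centralizer ({S.t} : Set G) ⊓ centralizer ({f 6} : Set G) ∧
        u * u = qElt S.t (lft f) v} =
      ∑ e ∈ Finset.range 8, if K e then sqTab e (v ^^^ 256) else sqTab e v := by
  classical
  have hE := h.pre.eight
  set D := centralizer ({S.t} : Set G) ⊓ centralizer ({f 6} : Set G)
  set I := Finset.range 8 ×ˢ qCent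
  have hq512 : ∀ {q}, q ∈ qCent → q < 512 := fun hq => by
    rw [qCent, Finset.mem_filter, Finset.mem_range] at hq
    exact hq.1
  have hq7 : ∀ {q}, q ∈ qCent → q.testBit 7 = false := fun hq => by
    rw [qCent, Finset.mem_filter] at hq
    exact hq.2
  have hmem : ∀ p : I, qElt S.t (lft f) p.1.2 * raiseElt f p.1.1 ∈ D := fun p => by
    obtain ⟨he, hq⟩ := Finset.mem_product.1 p.2
    refine mem_inf.2 ⟨mul_mem (h.qElt_mem_C _) (h.raiseElt_mem _), mem_centralizer_singleton_iff.2 ?_⟩
    rw [mul_assoc, h.x_code, h.move_raise, qactE_one _ (Finset.mem_range.1 he), ← mul_assoc, ← mul_assoc,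
      ← h.x_code, ← Pre.lft_zero (f := f), hE.qElt_comm _ (show 0 < 8 by norm_num)]
    simp [hq7 hq, pw]
  let φ : I → D := fun p => ⟨_, hmem p⟩
  have hφ : Function.Injective φ := by
    rintro ⟨⟨e, q⟩, hp⟩ ⟨⟨e', q'⟩, hp'⟩ heq
    obtain ⟨he, hq⟩ := Finset.mem_product.1 hp
    obtain ⟨he', hq'⟩ := Finset.mem_product.1 hp'
    have e0 : qElt S.t (lft f) q * raiseElt f e = qElt S.t (lft f) q' * raiseElt f e' :=
      congrArg Subtype.val heq
    have hs : raiseElt f e = qElt S.t (lft f) (qpin (qinv q) q') * raiseElt f e' := by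
      calc raiseElt f e = qElt S.t (lft f) (qpin (qinv q) q) * raiseElt f e := by
            rw [qinv_spec q (hq512 hq), Eight.qElt_zero, one_mul]
        _ = _ := by rw [hE.qElt_mul, mul_assoc, e0, ← mul_assoc, ← hE.qElt_mul]
    set s := qpin (qinv q) q'
    have hs512 : s < 512 := qpin_lt (qinv_lt (hq512 hq)) (hq512 hq')
    have h1 := h.move_raise e 128
    rw [hs, mul_assoc, h.move_raise e' 128, ← mul_assoc, ← mul_assoc, ← hE.qElt_mul, ← hE.qElt_mul] at h1
    have h2 := congrArg (· % 256) (hE.qElt_inj (qpin_lt hs512 (qactE_lt e' (by norm_num)))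
      (qpin_lt (qactE_lt e (by norm_num)) hs512) (mul_right_cancel h1))
    simp only [qpin_mod] at h2
    rw [Nat.xor_comm (qactE e 128 % 256)] at h2
    have hee := qactE_sep e (Finset.mem_range.1 he) e' (Finset.mem_range.1 he') (Nat.xor_right_inj.1 h2).symm
    subst hee
    exact Subtype.ext (Prod.ext rfl (hE.qElt_inj (hq512 hq) (hq512 hq') (mul_right_cancel e0)))
  have hbij : Function.Bijective φ := hφ.bijective_of_nat_card_le (by
    rw [Nat.card_eq_finsetCard, Finset.card_product, Finset.card_range, qCent_card]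
    exact h.card_cent)
  have hcode : ∀ e q, qElt S.t (lft f) q * raiseElt f e * (qElt S.t (lft f) q * raiseElt f e) =
      qElt S.t (lft f) (qpin (qpin q (qactE e q)) (if K e then 256 else 0)) := fun e q => by
    calc qElt S.t (lft f) q * raiseElt f e * (qElt S.t (lft f) q * raiseElt f e)
        = qElt S.t (lft f) q * (raiseElt f e * qElt S.t (lft f) q) * raiseElt f e := by group
      _ = qElt S.t (lft f) q * qElt S.t (lft f) (qactE e q) * (raiseElt f e * raiseElt f e) := by
        rw [h.move_raise]; group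
      _ = _ := by
        rw [hK, hE.qElt_mul (qpin q _), hE.qElt_mul q]
        cases K e <;> simp [pw, Eight.qElt_zero, Eight.qElt_t]
  have hfilt : Nat.card {u : G // u ∈ D ∧ u * u = qElt S.t (lft f) v} =
      (I.filter fun p => qpin (qpin p.2 (qactE p.1 p.2)) (if K p.1 then 256 else 0) = v).card := by
    rw [← Nat.card_eq_finsetCard]
    refine (Nat.card_eq_of_bijective (fun p => ⟨qElt S.t (lft f) p.1.2 * raiseElt f p.1.1,
      hmem ⟨p.1, (Finset.mem_filter.1 p.2).1⟩, by rw [hcode, (Finset.mem_filter.1 p.2).2]⟩) ⟨?_, ?_⟩).symm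
    · rintro ⟨p, hp⟩ ⟨p', hp'⟩ e
      have e1 : qElt S.t (lft f) p.2 * raiseElt f p.1 = qElt S.t (lft f) p'.2 * raiseElt f p'.1 :=
        congrArg Subtype.val e
      have := @hφ ⟨p, (Finset.mem_filter.1 hp).1⟩ ⟨p', (Finset.mem_filter.1 hp').1⟩ (Subtype.ext e1)
      have hpp : p = p' := congrArg Subtype.val this
      exact Subtype.ext hpp
    · rintro ⟨u, hu, hsq⟩
      obtain ⟨⟨p, hp⟩, he⟩ := hbij.2 ⟨u, hu⟩
      have e1 : qElt S.t (lft f) p.2 * raiseElt f p.1 = u := congrArg Subtype.val he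
      subst e1
      have hq := hq512 (Finset.mem_product.1 hp).2
      rw [hcode] at hsq
      exact ⟨⟨p, Finset.mem_filter.2 ⟨hp, hE.qElt_inj (qpin_lt (qpin_lt hq (qactE_lt _ hq))
        (by split_ifs <;> norm_num)) hv hsq⟩⟩, rfl⟩
  rw [hfilt, Finset.card_filter, Finset.sum_product]
  refine Finset.sum_congr rfl fun e _ => ?_
  rw [sqTab, sqTab]
  cases hb : K e
  · simp only [hb, Bool.false_eq_true, if_false, qpin_zero]
    rw [Finset.card_filter]
  · have key : ∀ a : ℕ, qpin a 256 = v ↔ a = v ^^^ 256 := fun a => by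
      rw [qpin_256]; constructor <;> rintro rfl <;> rw [Nat.xor_assoc, Nat.xor_self, Nat.xor_zero]
    simp only [hb, if_true, key]
    rw [Finset.card_filter]

/-- The raising letters are commuting involutions. -/
theorem raise_exact [Finite G] : (∀ i < 3, f i * f i = 1) ∧ ∀ i < 3, ∀ j < 3, f i * f j = f j * f i := by
  obtain ⟨s₀, h0⟩ := h.pre.sq (show 0 < 6 by norm_num)
  obtain ⟨s₁, h1⟩ := h.pre.sq (show 1 < 6 by norm_num)
  obtain ⟨s₂, h2⟩ := h.pre.sq (show 2 < 6 by norm_num)
  obtain ⟨c₀₁, h10⟩ := h.pre.commutes (show 1 < 6 by norm_num) (show 0 < 6 by norm_num) (by norm_num)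
  obtain ⟨c₀₂, h20⟩ := h.pre.commutes (show 2 < 6 by norm_num) (show 0 < 6 by norm_num) (by norm_num)
  obtain ⟨c₁₂, h21⟩ := h.pre.commutes (show 2 < 6 by norm_num) (show 1 < 6 by norm_num) (by norm_num)
  have hK := h.raiseElt_sq h0 h1 h2 h10 h20 h21
  have ht := h.card_roots _ hK (show 256 < 512 by norm_num)
  have hx := h.card_roots _ hK (show 1 < 512 by norm_num)
  rw [Eight.qElt_t] at ht
  rw [← h.x_code] at hx
  obtain ⟨g, hg, hg'⟩ := h.pre.fused.swap
  have hswap : Nat.card {u : G // u ∈ centralizer ({S.t} : Set G) ⊓ centralizer ({f 6} : Set G) ∧ u * u = S.t} =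
      Nat.card {u : G // u ∈ centralizer ({S.t} : Set G) ⊓ centralizer ({f 6} : Set G) ∧ u * u = f 6} := by
    refine Nat.card_congr ((MulAut.conj g).toEquiv.subtypeEquiv fun u => ?_)
    have cg : ∀ w, MulAut.conj g u * MulAut.conj g w = MulAut.conj g w * MulAut.conj g u ↔ u * w = w * u :=
      fun w => by rw [← map_mul, ← map_mul, EmbeddingLike.apply_eq_iff_eq]
    have et : MulAut.conj g S.t = f 6 := by rw [MulAut.conj_apply, hg]
    have ex : MulAut.conj g (f 6) = S.t := by rw [MulAut.conj_apply, hg']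
    have c1 := cg S.t
    have c2 := cg (f 6)
    rw [et] at c1
    rw [ex] at c2
    show _ ↔ MulAut.conj g u ∈ _ ∧ MulAut.conj g u * MulAut.conj g u = f 6
    simp only [mem_inf, mem_centralizer_singleton_iff]
    rw [c1, c2, ← map_mul, ← et, EmbeddingLike.apply_eq_iff_eq, et, and_comm (a := u * S.t = _)]
  rw [ht, hx] at hswap
  have k0 : (256 : ℕ) ^^^ 256 = 0 := Nat.xor_self _
  have k1 : (1 : ℕ) ^^^ 256 = 257 := by decide
  simp only [k0, k1] at hswap
  obtain ⟨rfl, rfl, rfl, rfl, rfl, rfl⟩ := kappa_zero s₀ s₁ s₂ c₀₁ c₀₂ c₁₂ (by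
    refine (Finset.sum_congr rfl fun e he => ?_).trans (hswap.trans (Finset.sum_congr rfl fun e he => ?_))
    · obtain ⟨v0, v1, -, -⟩ := sqTab_val e (Finset.mem_range.1 he)
      rw [v0, v1]
    · obtain ⟨-, -, v2, v3⟩ := sqTab_val e (Finset.mem_range.1 he)
      rw [v2, v3, ite_self])
  simp only [pw, cond_false, mul_one] at h0 h1 h2 h10 h20 h21
  refine ⟨fun i hi => ?_, fun i hi j hj => ?_⟩
  · interval_cases i <;> assumption
  · interval_cases i <;> interval_cases j <;> first | rfl | assumption | exact Eq.symm ‹_›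

end Normal

end Setup

end CfsgLib.Recog.OEightCent
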