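import Cfsg.Agent.Lib.Recog.OEightCent.PinQ

/-!
Normalising the letters of a chart modulo `t`: the lifts of the pure tensors satisfy the relations of the
extraspecial group and the six letters act on them as in the model, up to one sign, removed by `x ↦ x t`.
-/

set_option autoImplicit false
set_option linter.unusedSectionVars false

namespace CfsgLib.Recog.OEightCent

open Subgroup

variable {G : Type*} [Group G]

/-- Conjugation by a letter. -/
def cf (f : ℕ → G) (k : ℕ) (q : G) : G := f k * q * (f k)⁻¹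

/-- Conjugation by a letter, if the bit is set. -/
def cfb (f : ℕ → G) (k : ℕ) (b : Bool) (q : G) : G := cond b (cf f k q) q

/-- The lift indexed by a subset of the factors. -/
def lft (f : ℕ → G) (m : ℕ) : G :=
  cfb f 3 (m.testBit 0) (cfb f 4 (m.testBit 1) (cfb f 5 (m.testBit 2) (f 6)))

theorem cf_mul (f : ℕ → G) (k : ℕ) (u v : G) : cf f k (u * v) = cf f k u * cf f k v := by
  simp [cf, mul_assoc]

theorem cf_inj (f : ℕ → G) (k : ℕ) {u v : G} (h : cf f k u = cf f k v) : u = v :=
  mul_left_cancel (mul_right_cancel h)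

theorem wprod_cons (f : ℕ → G) (k : ℕ) (r : List ℕ) : wprod f (k :: r) = f k * wprod f r := rfl

namespace Setup

variable (S : Setup G)

theorem t_mul : S.t * S.t = 1 := by rw [← pow_two, ← S.t_ord]; exact pow_orderOf_eq_one _

theorem tp_ne : S.t ≠ 1 := fun e => by
  have := S.t_ord
  rw [e, orderOf_one] at this
  exact absurd this (by norm_num)

theorem tp_comm {g : G} (h : g ∈ centralizer ({S.t} : Set G)) : Commute S.t g :=
  (mem_centralizer_singleton_iff.1 h).symm

theorem pw_comm' {g : G} (h : g ∈ centralizer ({S.t} : Set G)) (b : Bool) : Commute (pw S.t b) g :=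
  (commute_pw (S.tp_comm h).symm b).symm

theorem pw_mem (b : Bool) : pw S.t b ∈ zpowers S.t := by
  cases b
  exacts [one_mem _, mem_zpowers _]

theorem zp_pw {g : G} (h : g ∈ zpowers S.t) : ∃ b, g = pw S.t b := by
  obtain ⟨n, rfl⟩ := mem_zpowers_iff.1 h
  refine ⟨decide (n % 2 = 1), ?_⟩
  have hd : n = 2 * (n / 2) + n % 2 := (Int.mul_ediv_add_emod n 2).symm
  have h2 : S.t ^ (2 : ℤ) = 1 := by rw [zpow_two, S.t_mul]
  conv_lhs => rw [hd, zpow_add, zpow_mul, h2, one_zpow, one_mul]
  rcases Int.emod_two_eq_zero_or_one n with e | e <;> simp [e, pw]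

theorem pw_inj {a b : Bool} (h : pw S.t a = pw S.t b) : a = b := by
  cases a <;> cases b <;> simp [pw] at h ⊢
  · exact S.tp_ne h.symm
  · exact S.tp_ne h

/-- Letters satisfying the relators modulo `t`, with the cubes of the three pairs trivial. -/
structure Pre (f : ℕ → G) : Prop where
  tensor : S.Tensor f
  fused : S.Fused f
  cube : ∀ i < 3, (f i * f (i + 3)) * (f i * f (i + 3)) * (f i * f (i + 3)) = 1

end Setup

/-- The parity of the changed letters of a word. -/
def flipPar (d : ℕ → Bool) : List ℕ → Bool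
  | [] => false
  | k :: r => d k ^^ flipPar d r

namespace Setup

variable {S : Setup G} {f : ℕ → G}

theorem Tensor.mem (hf : S.Tensor f) {k : ℕ} (hk : k < 7) : f k ∈ centralizer ({S.t} : Set G) :=
  hf.gen ▸ subset_closure ⟨k, hk, rfl⟩

theorem Tensor.wprod_mem (hf : S.Tensor f) : ∀ {r : List ℕ}, (∀ k ∈ r, k < 7) →
    wprod f r ∈ centralizer ({S.t} : Set G)
  | [], _ => one_mem _
  | k :: r, h => mul_mem (hf.mem (h k List.mem_cons_self))
      (hf.wprod_mem fun j hj => h j (List.mem_cons_of_mem k hj))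

/-- Changing letters by `t`. -/
theorem Tensor.wprod_change (hf : S.Tensor f) (d : ℕ → Bool) :
    ∀ {r : List ℕ}, (∀ k ∈ r, k < 7) →
      wprod (fun k => f k * pw S.t (d k)) r = wprod f r * pw S.t (flipPar d r)
  | [], _ => by simp [wprod, flipPar, pw]
  | k :: r, h => by
    have hr : ∀ j ∈ r, j < 7 := fun j hj => h j (List.mem_cons_of_mem k hj)
    rw [wprod_cons, wprod_cons, hf.wprod_change d hr, flipPar, pw_xor S.t_mul]
    calc f k * pw S.t (d k) * (wprod f r * pw S.t (flipPar d r))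
        = f k * (pw S.t (d k) * wprod f r) * pw S.t (flipPar d r) := by group
      _ = f k * wprod f r * (pw S.t (d k) * pw S.t (flipPar d r)) := by
        rw [(S.pw_comm' (hf.wprod_mem hr) (d k)).eq]; group

theorem relsC_lt : relsC.all (fun r => r.all (· < 7)) = true := by decide +kernel

theorem Tensor.change (hf : S.Tensor f) (d : ℕ → Bool) :
    S.Tensor fun k => f k * pw S.t (d k) := by
  have hlt : ∀ r ∈ relsC, ∀ k ∈ r, k < 7 := by
    have := relsC_lt
    simp only [List.all_eq_true, decide_eq_true_eq] at this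
    exact this
  have hz : wprod (fun k => f k * pw S.t (d k)) zWord = S.t := by
    rw [hf.wprod_change d (by decide), hf.zword]
    have : flipPar d zWord = false := by
      simp only [zWord, flipPar]
      cases d 3 <;> cases d 4 <;> cases d 5 <;> cases d 6 <;> rfl
    rw [this]; simp [pw]
  have hrels : ∀ r ∈ relsC, wprod (fun k => f k * pw S.t (d k)) r ∈ zpowers S.t := fun r hr => by
    rw [hf.wprod_change d (hlt r hr)]
    exact mul_mem (hf.rels r hr) (S.pw_mem _)
  refine ⟨?_, ?_, hz, hrels⟩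
  · refine le_antisymm ((closure_le _).2 ?_) ?_
    · rintro _ ⟨k, hk, rfl⟩
      refine mul_mem (hf.mem hk) ?_
      cases d k
      exacts [one_mem _, mem_centralizer_singleton_iff.2 rfl]
    · set L := closure ((fun k => f k * pw S.t (d k)) '' Set.Iio 7)
      have hm : ∀ {r : List ℕ}, (∀ k ∈ r, k < 7) →
          wprod (fun k => f k * pw S.t (d k)) r ∈ L := by
        intro r
        induction r with
        | nil => exact fun _ => one_mem _
        | cons k r ih =>
          exact fun h => mul_mem (subset_closure ⟨k, h k List.mem_cons_self, rfl⟩)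
            (ih fun j hj => h j (List.mem_cons_of_mem k hj))
      have ht : S.t ∈ L := hz ▸ hm (by decide)
      rw [← hf.gen]
      refine (closure_le _).2 ?_
      rintro _ ⟨k, hk, rfl⟩
      have h1 : f k * pw S.t (d k) * pw S.t (d k) ∈ L := by
        refine mul_mem (subset_closure ⟨k, hk, rfl⟩) ?_
        cases d k
        exacts [one_mem _, ht]
      rwa [mul_assoc, ← pw_xor S.t_mul, Bool.xor_self, show pw S.t false = 1 from rfl, mul_one] at h1
  · refine mul_mem hf.mem_Q ?_
    cases d 6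
    exacts [one_mem _, S.t_mem]

namespace Pre

variable (h : S.Pre f)
include h

theorem mem {k : ℕ} (hk : k < 7) : f k ∈ centralizer ({S.t} : Set G) := h.tensor.mem hk

theorem rel {r : List ℕ} (hr : r ∈ relsC) : ∃ b, wprod f r = pw S.t b :=
  S.zp_pw (h.tensor.rels r hr)

theorem x_sq : f 6 * f 6 = 1 := by
  obtain ⟨g, hg, -⟩ := h.fused.swap
  rw [← hg, show g * S.t * g⁻¹ * (g * S.t * g⁻¹) = g * (S.t * S.t) * g⁻¹ by group, S.t_mul]
  group

theorem cf_mem {k : ℕ} (hk : k < 7) {q : G} (hq : q ∈ centralizer ({S.t} : Set G)) :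
    cf f k q ∈ centralizer ({S.t} : Set G) := mul_mem (mul_mem (h.mem hk) hq) (inv_mem (h.mem hk))

theorem cf_pw {k : ℕ} (hk : k < 7) (b : Bool) : cf f k (pw S.t b) = pw S.t b := by
  rw [cf, ← (S.pw_comm' (h.mem hk) b).eq, mul_inv_cancel_right]

theorem sq {k : ℕ} (hk : k < 6) : ∃ b, f k * f k = pw S.t b := by
  obtain ⟨b, hb⟩ := h.rel (r := [k, k])
    ((by decide : ∀ j < 6, [j, j] ∈ relsC) k hk)
  exact ⟨b, by simpa [wprod] using hb⟩

theorem commutes {k l : ℕ} (hk : k < 6) (hl : l < 6) (hne : k % 3 ≠ l % 3) :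
    ∃ b, f k * f l = f l * f k * pw S.t b := by
  have key : ∀ {k l : ℕ}, k < 6 → l < 6 → [k, l, k, l] ∈ relsC →
      ∃ b, f k * f l = f l * f k * pw S.t b := by
    intro k l hk hl hm
    obtain ⟨b, hb⟩ := h.rel hm
    obtain ⟨p, hp⟩ := h.sq hk
    obtain ⟨q, hq⟩ := h.sq hl
    have e : f k * f l * f k * f l = pw S.t b := by simpa [wprod, mul_assoc] using hb
    refine ⟨b ^^ (p ^^ q), ?_⟩
    have hz : ∀ c u, u ∈ centralizer ({S.t} : Set G) → pw S.t c * u = u * pw S.t c := fun c u hu =>
      (S.pw_comm' hu c).eq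
    have hkm := h.mem (show k < 7 by omega)
    have hlm := h.mem (show l < 7 by omega)
    calc f k * f l = f k * f l * f k * f l * (f k * f l)⁻¹ := by group
      _ = pw S.t b * ((f l)⁻¹ * (f k)⁻¹) := by rw [e, mul_inv_rev]
      _ = pw S.t b * (f l * pw S.t q * (f k * pw S.t p)) := by
        have hk' : (f k)⁻¹ = f k * pw S.t p := inv_eq_of_mul_eq_one_right (by
          rw [← mul_assoc, hp, ← pw_xor S.t_mul, Bool.xor_self]; rfl)
        have hl' : (f l)⁻¹ = f l * pw S.t q := inv_eq_of_mul_eq_one_right (by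
          rw [← mul_assoc, hq, ← pw_xor S.t_mul, Bool.xor_self]; rfl)
        rw [hk', hl']
      _ = f l * f k * (pw S.t b * (pw S.t p * pw S.t q)) := by
        rw [mul_assoc (f l), ← mul_assoc (pw S.t q), hz q _ hkm]
        rw [← mul_assoc, hz b _ hlm]
        rw [show f l * pw S.t b * (f k * pw S.t q * pw S.t p) =
          f l * (pw S.t b * f k) * (pw S.t q * pw S.t p) by group, hz b _ hkm, ← pw_xor S.t_mul q,
          ← pw_xor S.t_mul p, Bool.xor_comm q p]
        group
      _ = _ := by rw [← pw_xor S.t_mul, ← pw_xor S.t_mul]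
  rcases (by decide : ∀ k ∈ List.range 6, ∀ l ∈ List.range 6,
      k % 3 = l % 3 ∨ [k, l, k, l] ∈ relsC ∨ [l, k, l, k] ∈ relsC) k (List.mem_range.2 hk) l (List.mem_range.2 hl)
    |>.resolve_left hne with hm | hm
  · exact key hk hl hm
  · obtain ⟨b, hb⟩ := key hl hk hm
    refine ⟨b, ?_⟩
    rw [hb, mul_assoc, ← pw_xor S.t_mul, Bool.xor_self]
    simp [pw]

theorem cf_cf {k : ℕ} (hk : k < 6) {q : G} (hq : q ∈ centralizer ({S.t} : Set G)) :
    cf f k (cf f k q) = q := by
  obtain ⟨b, hb⟩ := h.sq hk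
  calc cf f k (cf f k q) = f k * f k * q * (f k * f k)⁻¹ := by simp only [cf]; group
    _ = q := by rw [hb, (S.pw_comm' hq b).eq, mul_inv_cancel_right]

theorem cf_comm {k l : ℕ} (hk : k < 6) (hl : l < 6) (hne : k % 3 ≠ l % 3) {q : G}
    (hq : q ∈ centralizer ({S.t} : Set G)) : cf f k (cf f l q) = cf f l (cf f k q) := by
  obtain ⟨b, hb⟩ := h.commutes hk hl hne
  calc cf f k (cf f l q) = f k * f l * q * (f k * f l)⁻¹ := by simp only [cf]; group
    _ = f l * f k * (pw S.t b * q * (pw S.t b)⁻¹) * (f l * f k)⁻¹ := by rw [hb]; group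
    _ = f l * f k * q * (f l * f k)⁻¹ := by rw [(S.pw_comm' hq b).eq, mul_inv_cancel_right]
    _ = _ := by simp only [cf]; group

theorem cfb_mem {k : ℕ} (hk : k < 7) (b : Bool) {q : G} (hq : q ∈ centralizer ({S.t} : Set G)) :
    cfb f k b q ∈ centralizer ({S.t} : Set G) := by
  cases b
  exacts [hq, h.cf_mem hk hq]

theorem lft_mem (m : ℕ) : lft f m ∈ centralizer ({S.t} : Set G) :=
  h.cfb_mem (by norm_num) _ (h.cfb_mem (by norm_num) _ (h.cfb_mem (by norm_num) _ (h.mem (by norm_num))))

theorem lft_Q (m : ℕ) : lft f m ∈ S.Q := by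
  have : ∀ (k : ℕ) (b : Bool) (q : G), k < 7 → q ∈ S.Q → cfb f k b q ∈ S.Q := fun k b q hk hq => by
    cases b
    exacts [hq, S.Q_normal _ (h.mem hk) q hq]
  exact this _ _ _ (by norm_num) (this _ _ _ (by norm_num) (this _ _ _ (by norm_num) h.tensor.mem_Q))

theorem lft_sq (m : ℕ) : lft f m * lft f m = 1 := by
  have : ∀ (k : ℕ) (b : Bool) (q : G), q * q = 1 → cfb f k b q * cfb f k b q = 1 := fun k b q hq => by
    cases b
    · exact hq
    · show cf f k q * cf f k q = 1
      rw [← cf_mul, hq, cf, mul_one, mul_inv_cancel]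
  exact this _ _ _ (this _ _ _ (this _ _ _ h.x_sq))

/-- A lowering letter flips its bit. -/
theorem cf_lower {j : ℕ} (hj : j < 3) {m : ℕ} (hm : m < 8) :
    cf f (j + 3) (lft f m) = lft f (m ^^^ 2 ^ j) := by
  have hc := fun {k l : ℕ} (hk : k < 6) (hl : l < 6) (hne : k % 3 ≠ l % 3) q hq =>
    h.cf_comm hk hl hne (q := q) hq
  have hx := h.mem (show 6 < 7 by norm_num)
  have e3 := fun q hq => h.cf_cf (show 3 < 6 by norm_num) (q := q) hq
  have e4 := fun q hq => h.cf_cf (show 4 < 6 by norm_num) (q := q) hq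
  have e5 := fun q hq => h.cf_cf (show 5 < 6 by norm_num) (q := q) hq
  have m4 := h.cf_mem (show 4 < 7 by norm_num) hx
  have m5 := h.cf_mem (show 5 < 7 by norm_num) hx
  have m45 := h.cf_mem (show 4 < 7 by norm_num) m5
  have c43 := hc (show 4 < 6 by norm_num) (show 3 < 6 by norm_num) (by norm_num)
  have c53 := hc (show 5 < 6 by norm_num) (show 3 < 6 by norm_num) (by norm_num)
  have c54 := hc (show 5 < 6 by norm_num) (show 4 < 6 by norm_num) (by norm_num)
  interval_cases j <;> interval_cases m <;>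
    simp [lft, cfb, Nat.testBit, Nat.shiftRight_eq_div_pow, e3 _ hx, e4 _ hx, e5 _ hx, e3 _ m4,
      e3 _ m5, e3 _ m45, e4 _ m5, c43 _ hx, c43 _ m4, c43 _ m5, c43 _ m45, c53 _ hx, c53 _ m4, c53 _ m5,
      c53 _ m45, c54 _ hx, c54 _ m4, c54 _ m5]

end Pre

end Setup

end CfsgLib.Recog.OEightCent
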