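import Cfsg.Agent.Lib.Recog.OEightCent.PinAct

/-!
The normal form of the letters: the three pairs have trivial cubes and the raising letters act without signs.
-/

set_option autoImplicit false
set_option linter.unusedSectionVars false

namespace CfsgLib.Recog.OEightCent

open Subgroup

variable {G : Type*} [Group G]

namespace Setup

variable {S : Setup G} {f : ℕ → G}

/-- Letters acting on the lifts as in the model. -/
structure Normal (S : Setup G) (f : ℕ → G) : Prop where
  pre : S.Pre f
  raise : ∀ i < 3, ∀ m < 8, cf f i (lft f m) =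
    if m.testBit i then lft f (m ^^^ 2 ^ i) * lft f m else lft f m

theorem Pre.flip (h : S.Pre f) :
    S.Pre fun k => f k * pw S.t (k == 6) := by
  refine ⟨h.tensor.change _, ?_, fun i hi => ?_⟩
  · have hc := h.comm_seven
    rw [lft_zero] at hc
    set q := lft f 7
    set x := f 6
    have hq : q ∈ centralizer ({S.t} : Set G) := h.lft_mem 7
    have hcx : q * x * q⁻¹ = x * S.t := by
      have h2 : q * x = x * q * S.t := by
        calc q * x = q * x * S.t * S.t := by rw [mul_assoc _ S.t, S.t_mul, mul_one]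
          _ = x * q * S.t := by rw [← hc]
      rw [h2, mul_assoc x, ← (S.tp_comm hq).eq, ← mul_assoc, mul_inv_cancel_right]
    have hqt : q * S.t * q⁻¹ = S.t := by rw [← (S.tp_comm hq).eq, mul_inv_cancel_right]
    show S.Fused _
    refine ⟨?_, fun y hy hyt hyc => ?_⟩
    · obtain ⟨g, hg, hg'⟩ := h.fused.swap
      refine ⟨q * g * q⁻¹, ?_, ?_⟩
      · show q * g * q⁻¹ * S.t * (q * g * q⁻¹)⁻¹ = x * pw S.t true
        calc q * g * q⁻¹ * S.t * (q * g * q⁻¹)⁻¹
            = q * g * q⁻¹ * (q * S.t * q⁻¹) * q * g⁻¹ * q⁻¹ := by rw [hqt]; group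
          _ = q * (g * S.t * g⁻¹) * q⁻¹ := by group
          _ = x * S.t := by rw [hg, hcx]
      · show q * g * q⁻¹ * (x * pw S.t true) * (q * g * q⁻¹)⁻¹ = S.t
        calc q * g * q⁻¹ * (x * S.t) * (q * g * q⁻¹)⁻¹
            = q * g * q⁻¹ * (q * x * q⁻¹) * q * g⁻¹ * q⁻¹ := by rw [hcx]; group
          _ = q * (g * x * g⁻¹) * q⁻¹ := by group
          _ = S.t := by rw [hg', hqt]
    · obtain ⟨c, hc', e⟩ := h.fused.pure y hy hyt hyc
      refine ⟨c * q⁻¹, mul_mem hc' (inv_mem hq), ?_⟩
      show c * q⁻¹ * (x * S.t) * (c * q⁻¹)⁻¹ = y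
      rw [← e, ← hcx]; group; rfl
  · interval_cases i <;> simpa [pw] using h.cube _ (by norm_num)

theorem lft_flip (h : S.Pre f) (m : ℕ) :
    lft (fun k => f k * pw S.t (k == 6)) m = lft f m * S.t := by
  have hc : ∀ k, k < 6 → ∀ u, cf (fun j => f j * pw S.t (j == 6)) k u = cf f k u := fun k hk u => by
    simp [cf, pw, show (k == 6) = false by simpa using Nat.ne_of_lt hk]
  have hb : ∀ k, k < 6 → ∀ b u, cfb (fun j => f j * pw S.t (j == 6)) k b (u * S.t) =
      cfb f k b u * S.t := fun k hk b u => by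
    cases b
    · rfl
    · show cf (fun j => f j * pw S.t (j == 6)) k (u * S.t) = cf f k u * S.t
      rw [hc k hk, cf_mul, h.t_cf (by omega)]
  show cfb _ 3 _ (cfb _ 4 _ (cfb _ 5 _ (f 6 * S.t))) = _
  rw [hb 5 (by norm_num), hb 4 (by norm_num), hb 3 (by norm_num)]
  rfl

/-- Normal letters exist. -/
theorem exists_normal (hT : S.Tensor f) (hF : S.Fused f) : ∃ f', S.Normal f' := by
  have hcube : ∀ i < 3, ∃ b, (f i * f (i + 3)) * (f i * f (i + 3)) * (f i * f (i + 3)) = pw S.t b :=
    fun i hi => by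
      obtain ⟨b, hb⟩ := S.zp_pw (hT.rels [i, i + 3, i, i + 3, i, i + 3]
        ((by decide : ∀ i < 3, [i, i + 3, i, i + 3, i, i + 3] ∈ relsC) i hi))
      exact ⟨b, by simpa [wprod, mul_assoc] using hb⟩
  choose b hb using hcube
  let d : ℕ → Bool := fun k =>
    if k = 3 then b 0 (by norm_num) else if k = 4 then b 1 (by norm_num)
      else if k = 5 then b 2 (by norm_num) else false
  have hpre : S.Pre fun k => f k * pw S.t (d k) := by
    refine ⟨hT.change d, ?_, fun i hi => ?_⟩
    · have e6 : f 6 * pw S.t (d 6) = f 6 := by simp [d, pw]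
      exact ⟨by simpa only [e6] using hF.swap, fun y h1 h2 h3 => by
        simpa only [e6] using hF.pure y h1 h2 h3⟩
    · have key : d i = false ∧ d (i + 3) = b i hi := by interval_cases i <;> simp [d]
      show f i * pw S.t (d i) * (f (i + 3) * pw S.t (d (i + 3))) *
        (f i * pw S.t (d i) * (f (i + 3) * pw S.t (d (i + 3)))) *
          (f i * pw S.t (d i) * (f (i + 3) * pw S.t (d (i + 3)))) = 1
      rw [key.1, key.2, show pw S.t false = 1 from rfl, mul_one]
      set u := f i * f (i + 3) with hu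
      set e := pw S.t (b i hi)
      have hc : ∀ w, w ∈ centralizer ({S.t} : Set G) → e * w = w * e := fun w hw =>
        (S.pw_comm' hw _).eq
      have hum : u ∈ centralizer ({S.t} : Set G) := mul_mem (hT.mem (by omega)) (hT.mem (by omega))
      have hee : e * e = 1 := by rw [← pw_xor S.t_mul, Bool.xor_self]; rfl
      calc f i * (f (i + 3) * e) * (f i * (f (i + 3) * e)) * (f i * (f (i + 3) * e))
          = u * (e * u) * (e * u) * e := by simp only [hu]; group
        _ = u * (u * e) * (u * e) * e := by rw [hc u hum]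
        _ = u * u * (e * u) * (e * e) := by group
        _ = u * u * (u * e) * (e * e) := by rw [hc u hum]
        _ = u * u * u * (e * (e * e)) := by group
        _ = 1 := by
          rw [hee, mul_one]
          show u * u * u * pw S.t (b i hi) = 1
          rw [hu, hb i hi, ← pw_xor S.t_mul, Bool.xor_self]; rfl
  generalize (fun k => f k * pw S.t (d k)) = f₁ at hpre
  obtain ⟨v₀, h0⟩ := hpre.cf_raise (show 0 < 3 by norm_num)
  obtain ⟨v₁, h1⟩ := hpre.cf_raise (show 1 < 3 by norm_num)
  obtain ⟨v₂, h2⟩ := hpre.cf_raise (show 2 < 3 by norm_num)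
  have e1 := hpre.sign_eq (show 0 < 3 by norm_num) (show 1 < 3 by norm_num) (by norm_num) h0 h1
  have e2 := hpre.sign_eq (show 0 < 3 by norm_num) (show 2 < 3 by norm_num) (by norm_num) h0 h2
  subst e1 e2
  cases v₀
  · refine ⟨f₁, hpre, fun i hi m hm => ?_⟩
    interval_cases i
    · simpa [pw] using h0 m hm
    · simpa [pw] using h1 m hm
    · simpa [pw] using h2 m hm
  · refine ⟨_, hpre.flip, fun i hi m hm => ?_⟩
    have hc : ∀ u, cf (fun k => f₁ k * pw S.t (k == 6)) i u = cf f₁ i u := fun u => by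
      simp [cf, pw, show (i == 6) = false by simpa using (show i ≠ 6 by omega)]
    have hw : ∀ m < 8, cf f₁ i (lft f₁ m) =
        if m.testBit i then lft f₁ (m ^^^ 2 ^ i) * lft f₁ m * pw S.t true else lft f₁ m := by
      interval_cases i
      exacts [h0, h1, h2]
    rw [lft_flip hpre, lft_flip hpre, hc, cf_mul, hw m hm, hpre.t_cf (by omega)]
    split_ifs
    · calc lft f₁ (m ^^^ 2 ^ i) * lft f₁ m * pw S.t true * S.t
          = lft f₁ (m ^^^ 2 ^ i) * (lft f₁ m * S.t * S.t) := by simp [pw, mul_assoc]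
        _ = lft f₁ (m ^^^ 2 ^ i) * (S.t * lft f₁ m * S.t) := by rw [(S.tp_comm (hpre.lft_mem m)).eq]
        _ = _ := by group
    · rfl

end Setup

end CfsgLib.Recog.OEightCent
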