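import Cfsg.Agent.Lib.Recog.OEightCent.Setup

/-!
Codes for the extraspecial group: bit `m < 8` is the lift indexed by the subset `m` of the three factors, bit 8
the central involution; two lifts fail to commute exactly when the subsets are complementary.
-/

set_option autoImplicit false
set_option linter.unusedSectionVars false

namespace CfsgLib.Recog.OEightCent

/-- The product of codes. -/
def qpin (q r : ℕ) : ℕ :=
  q ^^^ r ^^^ (if ((q.testBit 4 && r.testBit 3) ^^ (q.testBit 5 && r.testBit 2) ^^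
    (q.testBit 6 && r.testBit 1) ^^ (q.testBit 7 && r.testBit 0)) then 256 else 0)

/-- `g` or `1`. -/
def pw {G : Type*} [One G] (g : G) (b : Bool) : G := cond b g 1

/-- Eight lifts with the relations of the extraspecial group. -/
structure Eight {G : Type*} [Group G] (t : G) (X : ℕ → G) : Prop where
  t_sq : t * t = 1
  t_ne : t ≠ 1
  t_comm : ∀ m < 8, t * X m = X m * t
  sq : ∀ m < 8, X m * X m = 1
  comm : ∀ m < 8, ∀ n < 8, X m * X n = X n * X m * pw t (m + n == 7)

/-- The element of a code. -/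
def qElt {G : Type*} [Group G] (t : G) (X : ℕ → G) (q : ℕ) : G :=
  pw (X 0) (q.testBit 0) * (pw (X 1) (q.testBit 1) * (pw (X 2) (q.testBit 2) * pw (X 3) (q.testBit 3))) *
    (pw (X 4) (q.testBit 4) * (pw (X 5) (q.testBit 5) * (pw (X 6) (q.testBit 6) * pw (X 7) (q.testBit 7)))) *
      pw t (q.testBit 8)

variable {G : Type*} [Group G]

theorem pw_xor {g : G} (h : g * g = 1) (a b : Bool) : pw g (a ^^ b) = pw g a * pw g b := by
  cases a <;> cases b <;> simp [pw, h]

theorem commute_pw {g k : G} (h : Commute g k) (a : Bool) : Commute g (pw k a) := by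
  cases a <;> simp [pw, h]

theorem pw_comm {g k t : G} {c : Bool} (h : g * k = k * g * pw t c) (a b : Bool) :
    pw g a * pw k b = pw k b * pw g a * pw t (a && b && c) := by
  cases a <;> cases b <;> simp [pw] <;> simpa [pw] using h

theorem four_xor {g₀ g₁ g₂ g₃ : G} (h₀ : g₀ * g₀ = 1) (h₁ : g₁ * g₁ = 1) (h₂ : g₂ * g₂ = 1)
    (h₃ : g₃ * g₃ = 1) (c01 : Commute g₀ g₁) (c02 : Commute g₀ g₂) (c03 : Commute g₀ g₃)
    (c12 : Commute g₁ g₂) (c13 : Commute g₁ g₃) (c23 : Commute g₂ g₃) (a b c d a' b' c' d' : Bool) :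
    pw g₀ (a ^^ a') * (pw g₁ (b ^^ b') * (pw g₂ (c ^^ c') * pw g₃ (d ^^ d'))) =
      pw g₀ a * (pw g₁ b * (pw g₂ c * pw g₃ d)) * (pw g₀ a' * (pw g₁ b' * (pw g₂ c' * pw g₃ d'))) := by
  have p : ∀ {g k : G} (x y : Bool), Commute g k → Commute (pw g x) (pw k y) := fun x y h =>
    commute_pw (commute_pw h.symm x).symm y
  have e1 : Commute (pw g₁ b * (pw g₂ c * pw g₃ d)) (pw g₀ a') :=
    (p b a' c01.symm).mul_left ((p c a' c02.symm).mul_left (p d a' c03.symm))
  have e2 : Commute (pw g₂ c * pw g₃ d) (pw g₁ b') := (p c b' c12.symm).mul_left (p d b' c13.symm)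
  rw [mul_mul_mul_comm' e1, mul_mul_mul_comm' e2, mul_mul_mul_comm' (p d c' c23.symm),
    ← pw_xor h₀, ← pw_xor h₁, ← pw_xor h₂, ← pw_xor h₃]
where
  mul_mul_mul_comm' {x y u v : G} (h : Commute y u) : x * y * (u * v) = x * u * (y * v) := by
    rw [mul_assoc, ← mul_assoc y, h.eq, mul_assoc, mul_assoc]

namespace Eight

variable {t : G} {X : ℕ → G} (h : Eight t X)
include h

theorem commute_of_ne {m n : ℕ} (hm : m < 8) (hn : n < 8) (hne : m + n ≠ 7) : Commute (X m) (X n) := by
  have e := h.comm m hm n hn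
  rw [show (m + n == 7) = false by simpa using hne] at e
  simpa [pw, Commute, SemiconjBy] using e

theorem central_pw {m : ℕ} (hm : m < 8) (a : Bool) : Commute t (pw (X m) a) :=
  commute_pw (show Commute t (X m) from h.t_comm m hm) a

theorem comm_pw {m n : ℕ} (hm : m < 8) (hn : n < 8) (q e : Bool) :
    pw (X m) q * pw (X n) e = pw (X n) e * pw (X m) q * pw t (q && e && (m + n == 7)) :=
  pw_comm (h.comm m hm n hn) q e

theorem commute_upper {m : ℕ} (hm : m < 8) (q a b c d : Bool) :
    pw (X m) q * (pw (X 0) a * (pw (X 1) b * (pw (X 2) c * pw (X 3) d))) =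
      pw (X 0) a * (pw (X 1) b * (pw (X 2) c * pw (X 3) d)) * pw (X m) q *
        pw t ((q && a && (m + 0 == 7)) ^^ ((q && b && (m + 1 == 7)) ^^ ((q && c && (m + 2 == 7)) ^^
          (q && d && (m + 3 == 7))))) := by
  have step : ∀ (y u v : G) (i j : Bool), Commute t v → y * u = u * y * pw t i →
      y * v = v * y * pw t j → y * (u * v) = u * v * y * pw t (i ^^ j) := by
    intro y u v i j hv hu hyv
    calc y * (u * v) = u * y * (pw t i * v) := by rw [← mul_assoc, hu, mul_assoc]
      _ = u * (y * v) * pw t i := by rw [((commute_pw hv.symm i).symm).eq]; group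
      _ = u * v * y * (pw t j * pw t i) := by rw [hyv]; group
      _ = u * v * y * pw t (i ^^ j) := by rw [← pw_xor h.t_sq, Bool.xor_comm]
  have c3 := h.central_pw (show 3 < 8 by norm_num) d
  have c2 := (h.central_pw (show 2 < 8 by norm_num) c).mul_right c3
  exact step _ _ _ _ _ ((h.central_pw (show 1 < 8 by norm_num) b).mul_right c2)
    (h.comm_pw hm (by norm_num) q a) (step _ _ _ _ _ c2 (h.comm_pw hm (by norm_num) q b)
      (step _ _ _ _ _ c3 (h.comm_pw hm (by norm_num) q c) (h.comm_pw hm (by norm_num) q d)))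

theorem t_upper (a b c d : Bool) : Commute t
    (pw (X 4) a * (pw (X 5) b * (pw (X 6) c * pw (X 7) d))) :=
  (h.central_pw (by norm_num) a).mul_right ((h.central_pw (by norm_num) b).mul_right
    ((h.central_pw (by norm_num) c).mul_right (h.central_pw (by norm_num) d)))

theorem t_lower (a b c d : Bool) : Commute t
    (pw (X 0) a * (pw (X 1) b * (pw (X 2) c * pw (X 3) d))) :=
  (h.central_pw (by norm_num) a).mul_right ((h.central_pw (by norm_num) b).mul_right
    ((h.central_pw (by norm_num) c).mul_right (h.central_pw (by norm_num) d)))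

/-- The upper four past the lower four. -/
theorem upper_lower (e₄ e₅ e₆ e₇ a b c d : Bool) :
    pw (X 4) e₄ * (pw (X 5) e₅ * (pw (X 6) e₆ * pw (X 7) e₇)) *
        (pw (X 0) a * (pw (X 1) b * (pw (X 2) c * pw (X 3) d))) =
      pw (X 0) a * (pw (X 1) b * (pw (X 2) c * pw (X 3) d)) *
        (pw (X 4) e₄ * (pw (X 5) e₅ * (pw (X 6) e₆ * pw (X 7) e₇))) *
          pw t ((e₄ && d) ^^ (e₅ && c) ^^ (e₆ && b) ^^ (e₇ && a)) := by
  have up : ∀ (U v w : G) (i j : Bool), Commute t w → w * U = U * w * pw t j →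
      v * U = U * v * pw t i → v * w * U = U * (v * w) * pw t (i ^^ j) := by
    intro U v w i j hw hwU hvU
    calc v * w * U = v * U * w * pw t j := by rw [mul_assoc, hwU]; group
      _ = U * v * (w * pw t i) * pw t j := by
        rw [hvU, mul_assoc (U * v), ((commute_pw hw.symm i).symm).eq]
      _ = U * (v * w) * (pw t i * pw t j) := by group
      _ = _ := by rw [← pw_xor h.t_sq]
  have f4 := h.commute_upper (show 4 < 8 by norm_num) e₄ a b c d
  have f5 := h.commute_upper (show 5 < 8 by norm_num) e₅ a b c d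
  have f6 := h.commute_upper (show 6 < 8 by norm_num) e₆ a b c d
  have f7 := h.commute_upper (show 7 < 8 by norm_num) e₇ a b c d
  have g67 := up _ _ _ _ _ (h.central_pw (show 7 < 8 by norm_num) e₇) f7 f6
  have g57 := up _ _ _ _ _ ((h.central_pw (show 6 < 8 by norm_num) e₆).mul_right
    (h.central_pw (show 7 < 8 by norm_num) e₇)) g67 f5
  have g47 := up _ _ _ _ _ ((h.central_pw (show 5 < 8 by norm_num) e₅).mul_right
    ((h.central_pw (show 6 < 8 by norm_num) e₆).mul_right (h.central_pw (show 7 < 8 by norm_num) e₇))) g57 f4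
  rw [g47]
  congr 2
  cases e₄ <;> cases e₅ <;> cases e₆ <;> cases e₇ <;> simp

/-- The code product is the product. -/
theorem qElt_mul (q r : ℕ) : qElt t X (qpin q r) = qElt t X q * qElt t X r := by
  have ht : ∀ i (c : Bool), ((if c then 256 else 0 : ℕ)).testBit i = (c && decide (i = 8)) := by
    intro i c
    cases c
    · simp
    · rw [if_pos rfl, show (256 : ℕ) = 2 ^ 8 from rfl, Nat.testBit_two_pow, Bool.true_and]
      simp [eq_comm]
  set c : Bool := (q.testBit 4 && r.testBit 3) ^^ (q.testBit 5 && r.testBit 2) ^^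
    (q.testBit 6 && r.testBit 1) ^^ (q.testBit 7 && r.testBit 0)
  have lo := four_xor (h.sq 0 (by norm_num)) (h.sq 1 (by norm_num)) (h.sq 2 (by norm_num))
    (h.sq 3 (by norm_num)) (h.commute_of_ne (by norm_num) (by norm_num) (by norm_num))
    (h.commute_of_ne (by norm_num) (by norm_num) (by norm_num))
    (h.commute_of_ne (by norm_num) (by norm_num) (by norm_num))
    (h.commute_of_ne (by norm_num) (by norm_num) (by norm_num))
    (h.commute_of_ne (by norm_num) (by norm_num) (by norm_num))
    (h.commute_of_ne (by norm_num) (by norm_num) (by norm_num))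
    (q.testBit 0) (q.testBit 1) (q.testBit 2) (q.testBit 3)
    (r.testBit 0) (r.testBit 1) (r.testBit 2) (r.testBit 3)
  have hi := four_xor (h.sq 4 (by norm_num)) (h.sq 5 (by norm_num)) (h.sq 6 (by norm_num))
    (h.sq 7 (by norm_num)) (h.commute_of_ne (by norm_num) (by norm_num) (by norm_num))
    (h.commute_of_ne (by norm_num) (by norm_num) (by norm_num))
    (h.commute_of_ne (by norm_num) (by norm_num) (by norm_num))
    (h.commute_of_ne (by norm_num) (by norm_num) (by norm_num))
    (h.commute_of_ne (by norm_num) (by norm_num) (by norm_num))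
    (h.commute_of_ne (by norm_num) (by norm_num) (by norm_num))
    (q.testBit 4) (q.testBit 5) (q.testBit 6) (q.testBit 7)
    (r.testBit 4) (r.testBit 5) (r.testBit 6) (r.testBit 7)
  simp only [qElt, qpin, Nat.testBit_xor, ht, Nat.reduceEqDiff, decide_false,
    decide_true, Bool.and_false, Bool.and_true, Bool.xor_false]
  rw [lo, hi]
  set L := pw (X 0) (q.testBit 0) * (pw (X 1) (q.testBit 1) * (pw (X 2) (q.testBit 2) * pw (X 3) (q.testBit 3)))
  set H := pw (X 4) (q.testBit 4) * (pw (X 5) (q.testBit 5) * (pw (X 6) (q.testBit 6) * pw (X 7) (q.testBit 7)))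
  set L' := pw (X 0) (r.testBit 0) * (pw (X 1) (r.testBit 1) * (pw (X 2) (r.testBit 2) * pw (X 3) (r.testBit 3)))
  set H' := pw (X 4) (r.testBit 4) * (pw (X 5) (r.testBit 5) * (pw (X 6) (r.testBit 6) * pw (X 7) (r.testBit 7)))
  have hul : H * L' = L' * H * pw t c := h.upper_lower _ _ _ _ _ _ _ _
  have cL : ∀ x, Commute (pw t x) L' := fun x => (commute_pw (h.t_lower _ _ _ _).symm x).symm
  have cH : ∀ x, Commute (pw t x) H' := fun x => (commute_pw (h.t_upper _ _ _ _).symm x).symm
  rw [pw_xor h.t_sq, pw_xor h.t_sq]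
  set A := pw t (q.testBit 8)
  set B := pw t (r.testBit 8)
  set C := pw t c
  have hA : Commute A (L' * H') := (cL _).mul_right (cH _)
  have hC : Commute C H' := cH _
  have tt : ∀ a b : Bool, Commute (pw t a) (pw t b) := fun a b =>
    commute_pw (commute_pw (Commute.refl t) a).symm b
  symm
  calc L * H * A * (L' * H' * B) = L * H * (A * (L' * H')) * B := by group
    _ = L * (H * L') * H' * A * B := by rw [hA.eq]; group
    _ = L * L' * H * (C * H') * A * B := by rw [hul]; group
    _ = L * L' * (H * H') * (C * (A * B)) := by rw [hC.eq]; group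
    _ = L * L' * (H * H') * (A * B * C) := by rw [((tt _ _).mul_right (tt _ _) : Commute C (A * B)).eq]

omit h in
theorem qElt_zero : qElt t X 0 = 1 := by simp [qElt, pw]

omit h in
theorem qElt_t : qElt t X 256 = t := by simp [qElt, pw, Nat.testBit, Nat.shiftRight_eq_div_pow]

omit h in
theorem qElt_X {m : ℕ} (hm : m < 8) : qElt t X (2 ^ m) = X m := by
  obtain rfl | rfl | rfl | rfl | rfl | rfl | rfl | rfl :
      m = 0 ∨ m = 1 ∨ m = 2 ∨ m = 3 ∨ m = 4 ∨ m = 5 ∨ m = 6 ∨ m = 7 := by omega
  all_goals simp [qElt, pw, Nat.testBit, Nat.shiftRight_eq_div_pow]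

/-- How an element of the group commutes with a lift. -/
theorem qElt_comm (q : ℕ) {n : ℕ} (hn : n < 8) :
    qElt t X q * X n = X n * qElt t X q * pw t (q.testBit (7 - n)) := by
  rw [← qElt_X (t := t) (X := X) hn, ← h.qElt_mul, ← h.qElt_mul]
  have h256 : ∀ i < 8, Nat.testBit 256 i = false := by decide
  let tw : ℕ → ℕ → Bool := fun q r => (q.testBit 4 && r.testBit 3) ^^ (q.testBit 5 && r.testBit 2) ^^
    (q.testBit 6 && r.testBit 1) ^^ (q.testBit 7 && r.testBit 0)
  have hdef : ∀ a b, qpin a b = a ^^^ b ^^^ (if tw a b then 256 else 0) := fun _ _ => rfl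
  have hc : ∀ a (c : Bool), qpin a (if c then 256 else 0) = a ^^^ (if c then 256 else 0) := fun a c => by
    have : tw a (if c then 256 else 0) = false := by
      cases c <;> simp [tw, h256]
    rw [hdef, this]; simp
  have hsym : (tw (2 ^ n) q ^^ q.testBit (7 - n)) = tw q (2 ^ n) := by
    obtain rfl | rfl | rfl | rfl | rfl | rfl | rfl | rfl :
        n = 0 ∨ n = 1 ∨ n = 2 ∨ n = 3 ∨ n = 4 ∨ n = 5 ∨ n = 6 ∨ n = 7 := by omega
    all_goals simp only [tw, Nat.testBit_two_pow, Nat.reduceEqDiff, decide_false, decide_true,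
      Bool.false_and, Bool.and_false, Bool.true_and, Bool.and_true, Bool.false_xor, Bool.xor_false,
      Bool.xor_self, Nat.reduceSub]
  have key : qpin (qpin (2 ^ n) q) (if q.testBit (7 - n) then 256 else 0) = qpin q (2 ^ n) := by
    rw [hc, hdef, hdef, ← hsym, Nat.xor_comm q (2 ^ n), Nat.xor_assoc (2 ^ n ^^^ q)]
    congr 1
    cases tw (2 ^ n) q <;> cases q.testBit (7 - n) <;> simp
  rw [← key, h.qElt_mul]
  cases q.testBit (7 - n) <;> simp [qElt_zero, qElt_t, pw]

/-- The codes below 512 give different elements. -/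
theorem qElt_inj {q r : ℕ} (hq : q < 512) (hr : r < 512) (e : qElt t X q = qElt t X r) : q = r := by
  have hb : ∀ i < 8, q.testBit i = r.testBit i := fun i hi => by
    have h1 := h.qElt_comm q (show 7 - i < 8 by omega)
    rw [e, h.qElt_comm r (show 7 - i < 8 by omega), show 7 - (7 - i) = i by omega] at h1
    have h2 := mul_left_cancel h1
    cases hqi : q.testBit i <;> cases hri : r.testBit i <;> simp [hqi, hri, pw] at h2 ⊢
    · exact h.t_ne h2
    · exact h.t_ne h2.symm
  refine Nat.eq_of_testBit_eq fun i => ?_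
  rcases lt_trichotomy i 8 with hi | rfl | hi
  · exact hb i hi
  · simp only [qElt, hb 0 (by norm_num), hb 1 (by norm_num), hb 2 (by norm_num), hb 3 (by norm_num),
      hb 4 (by norm_num), hb 5 (by norm_num), hb 6 (by norm_num), hb 7 (by norm_num), mul_right_inj] at e
    cases hq8 : q.testBit 8 <;> cases hr8 : r.testBit 8 <;> simp [hq8, hr8, pw] at e ⊢
    · exact h.t_ne e.symm
    · exact h.t_ne e
  · rw [Nat.testBit_lt_two_pow (lt_of_lt_of_le hq (Nat.pow_le_pow_right two_pos (show 9 ≤ i by omega))),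
      Nat.testBit_lt_two_pow (lt_of_lt_of_le hr (Nat.pow_le_pow_right two_pos (show 9 ≤ i by omega)))]

end Eight

end CfsgLib.Recog.OEightCent
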