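import Cfsg.Agent.Lib.Recog.OEightCent.Data
import Mathlib

/-!
Interface for the recognition of `Ω⁺₈(2)` from the centraliser `2^{1+8}.(S₃ × S₃ × S₃)` of an involution.

`Setup`: the hypotheses. `Mixed`, `NoFixed`, `TensorOf`: what the module shapes give. `Tensor`: generators
satisfying the relators of the centraliser up to the central involution. `Chart`: exactly. `Amalgam`: with
the involution exchanging `t` and the pure lift.
-/

set_option autoImplicit false

namespace CfsgLib.Recog.OEightCent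

/-- The product of a word in the given letters. -/
def wprod {G : Type*} [Monoid G] (f : ℕ → G) (r : List ℕ) : G := (r.map f).prod

/-- The quotient of the centraliser by its radical. -/
abbrev P3 := Equiv.Perm (Fin 3) × Equiv.Perm (Fin 3) × Equiv.Perm (Fin 3)

/-- The hypotheses on the centraliser of `t`. -/
structure Setup (G : Type*) [Group G] where
  t : G
  t_ord : orderOf t = 2
  Q : Subgroup G
  Q_le : Q ≤ Subgroup.centralizer ({t} : Set G)
  t_mem : t ∈ Q
  Q_normal : ∀ c ∈ Subgroup.centralizer ({t} : Set G), ∀ q ∈ Q, c * q * c⁻¹ ∈ Q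
  Q_card : Nat.card Q = 2 ^ 9
  Q_sq : ∀ q ∈ Q, q * q ∈ Subgroup.zpowers t
  Q_comm : ∀ q ∈ Q, ∀ r ∈ Q, q * r * q⁻¹ * r⁻¹ ∈ Subgroup.zpowers t
  Q_center : ∀ q ∈ Q, (∀ r ∈ Q, q * r = r * q) → q ∈ Subgroup.zpowers t
  Q_cent : Subgroup.centralizer (Q : Set G) ≤ Q
  proj : ↥(Subgroup.centralizer ({t} : Set G)) →* P3
  proj_surj : Function.Surjective proj
  proj_ker : ∀ c : ↥(Subgroup.centralizer ({t} : Set G)), proj c = 1 ↔ (c : G) ∈ Q

variable {G : Type*} [Group G]

namespace Setup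

variable (S : Setup G)

/-- The centraliser of the involution. -/
def C : Subgroup G := Subgroup.centralizer ({S.t} : Set G)

/-- An involution outside `Q` moving all three factors has a commutator with `Q` of square `t`. -/
def Mixed : Prop :=
  ∀ c : ↥(Subgroup.centralizer ({S.t} : Set G)), S.proj c * S.proj c = 1 → (S.proj c).1 ≠ 1 →
    (S.proj c).2.1 ≠ 1 → (S.proj c).2.2 ≠ 1 →
      ∃ q ∈ S.Q, ((c : G) * q * (c : G)⁻¹ * q⁻¹) * ((c : G) * q * (c : G)⁻¹ * q⁻¹) = S.t

/-- A Sylow 2-subgroup fixes no elementary subgroup of order 32 of `Q` modulo `t`. -/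
def NoFixed : Prop :=
  ∀ X : Subgroup G, X ≤ S.Q → S.t ∈ X → Nat.card X = 32 → (∀ a ∈ X, a * a = 1) →
    (∀ a ∈ X, ∀ b ∈ X, a * b = b * a) →
    ∀ H : Subgroup ↥(Subgroup.centralizer ({S.t} : Set G)), Nat.card (H.map S.proj) = 8 →
      (∀ h ∈ H, ∀ a ∈ X, (h : G) * a * (h : G)⁻¹ * a⁻¹ ∈ Subgroup.zpowers S.t) → False

/-- Generators of the centraliser satisfying its relators modulo `t`; letter 6 is the pure lift. -/
structure Tensor (f : ℕ → G) : Prop where
  gen : Subgroup.closure (f '' Set.Iio 7) = Subgroup.centralizer ({S.t} : Set G)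
  mem_Q : f 6 ∈ S.Q
  zword : wprod f zWord = S.t
  rels : ∀ r ∈ relsC, wprod f r ∈ Subgroup.zpowers S.t

/-- Generators of the centraliser satisfying exactly the relators of the model. -/
structure Chart (f : ℕ → G) : Prop where
  gen : Subgroup.closure (f '' Set.Iio 7) = Subgroup.centralizer ({S.t} : Set G)
  mem_Q : f 6 ∈ S.Q
  zword : wprod f zWord = S.t
  rels : ∀ r ∈ relsC, wprod f r = 1

/-- A lift `x` fixed by a Sylow 2-subgroup with small stabiliser and a lagrangian around it is pure. -/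
def TensorOf : Prop :=
  ∀ x ∈ S.Q, x * x = 1 → x ≠ 1 → x ≠ S.t →
    ∀ X : Subgroup G, X ≤ S.Q → S.t ∈ X → x ∈ X → Nat.card X = 32 → (∀ a ∈ X, a * a = 1) →
      (∀ a ∈ X, ∀ b ∈ X, a * b = b * a) →
      ∀ H : Subgroup ↥(Subgroup.centralizer ({S.t} : Set G)), Nat.card (H.map S.proj) = 8 →
        (∀ h ∈ H, (h : G) * x = x * (h : G)) →
        (∀ h ∈ H, ∀ a ∈ X, (h : G) * a * (h : G)⁻¹ * a⁻¹ ∈ Subgroup.zpowers x) →
        (∀ h ∈ H, ∀ q ∈ S.Q, q * x = x * q → (h : G) * q * (h : G)⁻¹ * q⁻¹ ∈ X) →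
        (∀ c : ↥(Subgroup.centralizer ({S.t} : Set G)),
          (c : G) * x * (c : G)⁻¹ = x ∨ (c : G) * x * (c : G)⁻¹ = x * S.t → S.proj c ∈ H.map S.proj) →
        ∃ f : ℕ → G, S.Tensor f ∧ f 6 = x

/-- Fusion of `t` with the pure lift. -/
structure Fused (f : ℕ → G) : Prop where
  swap : ∃ g : G, g * S.t * g⁻¹ = f 6 ∧ g * f 6 * g⁻¹ = S.t
  pure : ∀ y ∈ S.Q, y ≠ S.t → IsConj S.t y →
    ∃ c ∈ Subgroup.centralizer ({S.t} : Set G), c * f 6 * c⁻¹ = y

/-- The amalgam: the chart together with the exchanging involution. -/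
structure Amalgam (f : ℕ → G) : Prop where
  chart : S.Chart f
  fused : S.Fused f
  rels : ∀ r ∈ relsS, wprod f r = 1
  move : f 7 * S.t * f 7 = f 6
  braid : ∀ i < 3, wprod f [7, i, i + 3, i, 7, i, i + 3, i, 7, i, i + 3, i] = 1 ∨
    wprod f [7, i, i + 3, i, 7, i, i + 3, i, 7, i, i + 3, i] = wprod f (uWords.getD i [])

end Setup

end CfsgLib.Recog.OEightCent
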