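import Cfsg.Agent.Lib.Recog.OEightCent.ShapeWeights

/-!
The module `Q / ⟨t⟩` with its commutator form, as a representation of the quotient of the centraliser.
-/

set_option autoImplicit false
set_option linter.unusedSectionVars false

namespace CfsgLib.Recog.OEightCent

open Subgroup
open scoped Classical

variable {G : Type*} [Group G] [Finite G]

theorem commute_mul_left_iff {t : G} {q q' r z z' : G} (hz : q * r = r * q * z) (hz' : q' * r = r * q' * z')
    (h1 : z = 1 ∨ z = t) (h1' : z' = 1 ∨ z' = t) (ht : t * t = 1) (hcomm : q' * z = z * q') :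
    Commute (q * q') r ↔ z = z' := by
  have e : q * q' * r = r * (q * q') * (z * z') := by
    rw [mul_assoc, hz', ← mul_assoc q, ← mul_assoc q, hz]
    simp only [mul_assoc]
    rw [← mul_assoc z q', ← hcomm, mul_assoc]
  rw [commute_iff_eq, e, mul_eq_left]
  rcases h1 with rfl | rfl <;> rcases h1' with rfl | rfl <;> simp_all [eq_comm]

namespace Setup

variable (S : Setup G)

theorem sh_t_sq : S.t * S.t = 1 := by rw [← pow_two, ← S.t_ord, pow_orderOf_eq_one]

theorem sh_t_ne : S.t ≠ 1 := fun h => by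
  have := S.t_ord
  rw [h, orderOf_one] at this
  norm_num at this

theorem mem_tz {a : G} (h : a ∈ zpowers S.t) : a = 1 ∨ a = S.t := by
  obtain ⟨k, rfl⟩ := mem_zpowers_iff.1 h
  rcases Int.even_or_odd k with ⟨m, rfl⟩ | ⟨m, rfl⟩
  · left; rw [zpow_add, ← (Commute.refl S.t).mul_zpow, S.sh_t_sq, one_zpow]
  · right; rw [zpow_add, two_mul, zpow_add, zpow_one, ← (Commute.refl S.t).mul_zpow, S.sh_t_sq,
      one_zpow, one_mul]

/-- The centraliser. -/
abbrev Ct : Subgroup G := centralizer ({S.t} : Set G)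

/-- The involution in the centraliser. -/
def tC : S.Ct := ⟨S.t, mem_centralizer_singleton_iff.2 rfl⟩

/-- The central subgroup of order two. -/
abbrev zC : Subgroup S.Ct := zpowers S.tC

instance zC_normal : S.zC.Normal :=
  ⟨fun n hn g => by
    obtain ⟨k, rfl⟩ := mem_zpowers_iff.1 hn
    have h : Commute g S.tC := Subtype.ext (mem_centralizer_singleton_iff.1 g.2)
    rw [(h.zpow_right k).eq, mul_inv_cancel_right]
    exact zpow_mem (mem_zpowers _) k⟩

theorem mem_zC {c : S.Ct} : c ∈ S.zC ↔ (c : G) ∈ zpowers S.t := by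
  simp only [mem_zpowers_iff, Subtype.ext_iff, SubgroupClass.coe_zpow, tC]

theorem central {c z : G} (hc : c ∈ S.Ct) (hz : z ∈ zpowers S.t) : c * z = z * c := by
  rcases S.mem_tz hz with rfl | rfl
  · rw [mul_one, one_mul]
  · exact mem_centralizer_singleton_iff.1 hc

/-- The centraliser modulo the involution. -/
abbrev Bar := ↥S.Ct ⧸ S.zC

/-- The projection of the quotient. -/
def projBar : S.Bar →* P3 := QuotientGroup.lift S.zC S.proj fun c hc => by
  rw [MonoidHom.mem_ker, S.proj_ker]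
  exact (zpowers_le.2 S.t_mem) (S.mem_zC.1 hc)

theorem projBar_mk (c : S.Ct) : S.projBar (QuotientGroup.mk c) = S.proj c := rfl

theorem projBar_surj : Function.Surjective S.projBar := fun g => by
  obtain ⟨c, rfl⟩ := S.proj_surj g
  exact ⟨QuotientGroup.mk c, rfl⟩

/-- The image of the radical. -/
abbrev QB : Subgroup S.Bar := S.projBar.ker

theorem mk_mem_QB {c : S.Ct} : (QuotientGroup.mk c : S.Bar) ∈ S.QB ↔ (c : G) ∈ S.Q := by
  rw [MonoidHom.mem_ker, S.projBar_mk, S.proj_ker]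

theorem QB_comm (a b : S.QB) : a * b = b * a := by
  obtain ⟨c, hc⟩ := QuotientGroup.mk_surjective (a : S.Bar)
  obtain ⟨d, hd⟩ := QuotientGroup.mk_surjective (b : S.Bar)
  have hc' : (c : G) ∈ S.Q := S.mk_mem_QB.1 (hc ▸ a.2)
  have hd' : (d : G) ∈ S.Q := S.mk_mem_QB.1 (hd ▸ b.2)
  apply Subtype.ext
  rw [coe_mul, coe_mul, ← hc, ← hd, ← QuotientGroup.mk_mul, ← QuotientGroup.mk_mul, QuotientGroup.eq,
    S.mem_zC]
  have := S.Q_comm _ (inv_mem hd') _ (inv_mem hc')
  simpa [mul_assoc] using this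

instance QB_commGroup : CommGroup S.QB := { (inferInstance : Group S.QB) with mul_comm := S.QB_comm }

/-- The module. -/
abbrev V := Additive S.QB

theorem QB_sq (a : S.QB) : a * a = 1 := by
  obtain ⟨c, hc⟩ := QuotientGroup.mk_surjective (a : S.Bar)
  apply Subtype.ext
  rw [coe_mul, ← hc, ← QuotientGroup.mk_mul, coe_one, QuotientGroup.eq_one_iff, S.mem_zC]
  exact S.Q_sq _ (S.mk_mem_QB.1 (hc ▸ a.2))

noncomputable instance V_module : Module (ZMod 2) S.V := AddCommGroup.zmodModule fun x => by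
  rw [two_nsmul]; exact S.QB_sq x

/-- The vector of an element of the radical. -/
def vec (q : S.Ct) (hq : (q : G) ∈ S.Q) : S.V :=
  Additive.ofMul (⟨QuotientGroup.mk q, S.mk_mem_QB.2 hq⟩ : S.QB)

theorem exists_vec (v : S.V) : ∃ q, ∃ hq, S.vec q hq = v := by
  obtain ⟨c, hc⟩ := QuotientGroup.mk_surjective ((Additive.toMul v : S.QB) : S.Bar)
  exact ⟨c, S.mk_mem_QB.1 (hc ▸ (Additive.toMul v).2), congrArg Additive.ofMul (Subtype.ext hc)⟩

theorem vec_mul {q r : S.Ct} (hq : (q : G) ∈ S.Q) (hr : (r : G) ∈ S.Q) :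
    S.vec (q * r) (mul_mem hq hr) = S.vec q hq + S.vec r hr := rfl

theorem vec_eq_zero {q : S.Ct} {hq : (q : G) ∈ S.Q} : S.vec q hq = 0 ↔ (q : G) ∈ zpowers S.t := by
  rw [← S.mem_zC, ← QuotientGroup.eq_one_iff]
  exact ⟨fun h => congrArg (fun v : S.V => ((Additive.toMul v : S.QB) : S.Bar)) h,
    fun h => congrArg Additive.ofMul (Subtype.ext h)⟩

theorem vec_eq {q r : S.Ct} {hq : (q : G) ∈ S.Q} {hr : (r : G) ∈ S.Q} :
    S.vec q hq = S.vec r hr ↔ ((q : G))⁻¹ * r ∈ zpowers S.t := by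
  rw [← coe_inv, ← coe_mul, ← S.mem_zC, ← QuotientGroup.eq]
  exact ⟨fun h => congrArg (fun v : S.V => ((Additive.toMul v : S.QB) : S.Bar)) h,
    fun h => congrArg Additive.ofMul (Subtype.ext h)⟩

/-- Conjugation, as a homomorphism on the quotient by the radical. -/
noncomputable def shAct : P3 →* MulAut S.QB :=
  S.projBar.liftOfSurjective S.projBar_surj ⟨MulAut.conjNormal, fun b hb => by
    rw [MonoidHom.mem_ker]
    ext a
    have := congrArg Subtype.val (S.QB_comm ⟨b, hb⟩ a)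
    simp only [coe_mul] at this
    simp [MulAut.conjNormal_apply, this]⟩

/-- The action on the module. -/
noncomputable def rho : P3 →* Module.End (ZMod 2) S.V where
  toFun g := AddMonoidHom.toZModLinearMap 2 (MonoidHom.toAdditive (S.shAct g).toMonoidHom)
  map_one' := LinearMap.ext fun v => by simp [map_one]
  map_mul' g g' := LinearMap.ext fun v => by simp [map_mul, Module.End.mul_apply]

theorem sh_conj_mem {c : S.Ct} {q : S.Ct} (hq : (q : G) ∈ S.Q) : ((c * q * c⁻¹ : S.Ct) : G) ∈ S.Q :=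
  S.Q_normal _ c.2 _ hq

theorem rho_vec (c q : S.Ct) (hq : (q : G) ∈ S.Q) :
    S.rho (S.proj c) (S.vec q hq) = S.vec (c * q * c⁻¹) (S.sh_conj_mem hq) := by
  have h : S.shAct (S.proj c) = MulAut.conjNormal (H := S.QB) (QuotientGroup.mk c) :=
    by rw [← S.projBar_mk]; exact S.projBar.liftOfRightInverse_comp_apply _ _ _ _
  apply Additive.toMul.injective
  show S.shAct (S.proj c) _ = _
  rw [h]
  apply Subtype.ext
  simp [MulAut.conjNormal_apply, vec]

/-- The value of a commutator. -/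
noncomputable def beta (q r : G) : ZMod 2 := if Commute q r then 0 else 1

theorem beta_symm (q r : G) : beta q r = beta r q := if_congr ⟨Commute.symm, Commute.symm⟩ rfl rfl

theorem beta_congr {q q' r : G} (h : q⁻¹ * q' ∈ zpowers S.t) (hr : r ∈ S.Ct) : beta q r = beta q' r := by
  have hzr : Commute (q⁻¹ * q') r := (S.central hr h).symm
  refine if_congr ⟨fun hc => ?_, fun hc => ?_⟩ rfl rfl
  · simpa using hc.mul_left hzr
  · simpa using hc.mul_left hzr.inv_left

theorem beta_mul {q q' r : G} (hq : q ∈ S.Q) (hq' : q' ∈ S.Q) (hr : r ∈ S.Q) :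
    beta (q * q') r = beta q r + beta q' r := by
  have key : ∀ a ∈ S.Q, ∃ z, (z = 1 ∨ z = S.t) ∧ a * r = r * a * z ∧ (Commute a r ↔ z = 1) := by
    intro a ha
    refine ⟨(r * a)⁻¹ * (a * r), S.mem_tz ?_, by group, ?_⟩
    · have := S.Q_comm _ (inv_mem ha) _ (inv_mem hr)
      simpa [mul_assoc] using this
    · rw [inv_mul_eq_one, commute_iff_eq, eq_comm]
  obtain ⟨z, hz, e, h1⟩ := key q hq
  obtain ⟨z', hz', e', h1'⟩ := key q' hq'
  have hc := commute_mul_left_iff e e' hz hz' S.sh_t_sq (S.central (S.Q_le hq') (by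
    rcases hz with rfl | rfl
    exacts [one_mem _, mem_zpowers _]))
  simp only [beta, hc, h1, h1']
  rcases hz with rfl | rfl <;> rcases hz' with rfl | rfl <;>
    simp [S.sh_t_ne, S.sh_t_ne.symm, Shape.zmod_two_add_self]

/-- The commutator form on representatives. -/
noncomputable def form (v w : S.V) : ZMod 2 :=
  beta ((S.exists_vec v).choose : G) ((S.exists_vec w).choose : G)

theorem form_vec {q r : S.Ct} (hq : (q : G) ∈ S.Q) (hr : (r : G) ∈ S.Q) :
    S.form (S.vec q hq) (S.vec r hr) = beta (q : G) (r : G) := by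
  obtain ⟨hq', e⟩ := (S.exists_vec (S.vec q hq)).choose_spec
  obtain ⟨hr', e'⟩ := (S.exists_vec (S.vec r hr)).choose_spec
  rw [form, S.beta_congr (S.vec_eq.1 e) (S.Q_le hr'), beta_symm,
    S.beta_congr (S.vec_eq.1 e') (S.Q_le hq), beta_symm]

theorem form_symm (v w : S.V) : S.form v w = S.form w v := beta_symm _ _

theorem form_add (u v w : S.V) : S.form (u + v) w = S.form u w + S.form v w := by
  obtain ⟨a, ha, rfl⟩ := S.exists_vec u
  obtain ⟨b, hb, rfl⟩ := S.exists_vec v
  obtain ⟨c, hc, rfl⟩ := S.exists_vec w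
  rw [← S.vec_mul ha hb, S.form_vec, S.form_vec, S.form_vec]
  exact S.beta_mul ha hb hc

/-- The commutator form. -/
noncomputable def bilin : S.V →ₗ[ZMod 2] S.V →ₗ[ZMod 2] ZMod 2 :=
  AddMonoidHom.toZModLinearMap 2 (AddMonoidHom.mk' (fun v =>
    AddMonoidHom.toZModLinearMap 2 (AddMonoidHom.mk' (S.form v) fun x y => by
      rw [S.form_symm, S.form_add, S.form_symm x, S.form_symm y]))
    fun x y => LinearMap.ext fun z => S.form_add x y z)

theorem bilin_vec {q r : S.Ct} (hq : (q : G) ∈ S.Q) (hr : (r : G) ∈ S.Q) :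
    S.bilin (S.vec q hq) (S.vec r hr) = beta (q : G) (r : G) := S.form_vec hq hr

theorem bilin_self (g : P3) (v w : S.V) : S.bilin (S.rho g v) (S.rho g w) = S.bilin v w := by
  obtain ⟨c, rfl⟩ := S.proj_surj g
  obtain ⟨a, ha, rfl⟩ := S.exists_vec v
  obtain ⟨b, hb, rfl⟩ := S.exists_vec w
  rw [S.rho_vec, S.rho_vec, S.bilin_vec, S.bilin_vec]
  refine if_congr ?_ rfl rfl
  simp only [coe_mul, coe_inv]
  exact Commute.conj_iff _

theorem bilin_nondeg (v : S.V) (h : ∀ w, S.bilin v w = 0) : v = 0 := by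
  obtain ⟨q, hq, rfl⟩ := S.exists_vec v
  rw [S.vec_eq_zero]
  refine S.Q_center _ hq fun r hr => ?_
  have := h (S.vec ⟨r, S.Q_le hr⟩ hr)
  rw [S.bilin_vec, beta] at this
  by_contra hc
  rw [if_neg (show ¬ Commute (q : G) ((⟨r, S.Q_le hr⟩ : S.Ct) : G) from hc)] at this
  exact one_ne_zero this

theorem card_QB : Nat.card S.QB = 256 := by
  have h216 : Nat.card P3 = 216 := by
    simp [Nat.card_eq_fintype_card, Fintype.card_perm, Nat.factorial]
  have h1 := S.QB.card_mul_index
  rw [Subgroup.index_ker, MonoidHom.range_eq_top.2 S.projBar_surj, card_top, h216] at h1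
  have h2 := S.proj.ker.card_mul_index
  rw [Subgroup.index_ker, MonoidHom.range_eq_top.2 S.proj_surj, card_top, h216] at h2
  have h3 : Nat.card S.proj.ker = 512 := by
    rw [show S.proj.ker = S.Q.subgroupOf S.Ct from Subgroup.ext fun c => by
      rw [MonoidHom.mem_ker, S.proj_ker, mem_subgroupOf],
      Nat.card_congr (subgroupOfEquivOfLe S.Q_le).toEquiv, S.Q_card]
    norm_num
  have h4 := S.zC.card_mul_index
  rw [Nat.card_zpowers, show orderOf S.tC = 2 by rw [← orderOf_coe]; exact S.t_ord] at h4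
  rw [show Nat.card S.Bar = S.zC.index from rfl] at h1
  rw [show Nat.card S.Ct = Nat.card (centralizer ({S.t} : Set G)) from rfl] at h4
  omega

theorem finrank_V : Module.finrank (ZMod 2) S.V = 8 := by
  haveI : Module.Finite (ZMod 2) S.V := Module.Finite.of_finite
  have h := Module.natCard_eq_pow_finrank (K := ZMod 2) (V := S.V)
  rw [show Nat.card S.V = Nat.card S.QB from rfl, S.card_QB, Nat.card_zmod,
    show (256 : ℕ) = 2 ^ 8 by norm_num] at h
  exact (Nat.pow_right_injective le_rfl h).symm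

theorem rho_injective (g : P3) (h : ∀ v, S.rho g v = v) : g = 1 := by
  obtain ⟨c, rfl⟩ := S.proj_surj g
  haveI : Module.Finite (ZMod 2) S.V := Module.Finite.of_finite
  have hfix : ∀ q (hq : (q : S.Ct).1 ∈ S.Q),
      ((c : G) * q * (c : G)⁻¹)⁻¹ * q ∈ zpowers S.t := fun q hq => by
    have := S.vec_eq.1 ((S.rho_vec c q hq).symm.trans (h _))
    simpa using this
  have hzz : ∀ q : S.Ct, (q : G) ∈ S.Q → ∃ z, (z = 1 ∨ z = S.t) ∧ (c : G) * q = q * c * z ∧
      (q : G) * c = c * q * z := by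
    intro q hq
    obtain ⟨w, ew⟩ : ∃ w, w = ((c : G) * q * (c : G)⁻¹)⁻¹ * q := ⟨_, rfl⟩
    have hw : w ∈ zpowers S.t := ew ▸ hfix q hq
    have hwc : w * (c : G) = c * w := (S.central c.2 hw).symm
    have hww : w * w = 1 := by
      rcases S.mem_tz hw with rfl | rfl
      exacts [one_mul _, S.sh_t_sq]
    have e : (q : G) * c = c * q * w := by
      calc (q : G) * c = c * q * (c : G)⁻¹ * (w * c) := by rw [ew]; group
        _ = c * q * w := by rw [hwc]; group
    refine ⟨w, S.mem_tz hw, ?_, e⟩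
    rw [e, mul_assoc, hww, mul_one]
  let lam : S.V → ZMod 2 := fun v =>
    if Commute (c : G) ((S.exists_vec v).choose : G) then 0 else 1
  have hlam : ∀ q (hq : (q : S.Ct).1 ∈ S.Q), lam (S.vec q hq) = beta (c : G) q := by
    intro q hq
    obtain ⟨hq', e⟩ := (S.exists_vec (S.vec q hq)).choose_spec
    show beta (c : G) _ = _
    rw [beta_symm, S.beta_congr (S.vec_eq.1 e) c.2, beta_symm]
  have hadd : ∀ u v, lam (u + v) = lam u + lam v := by
    intro u v
    obtain ⟨a, ha, rfl⟩ := S.exists_vec u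
    obtain ⟨b, hb, rfl⟩ := S.exists_vec v
    rw [← S.vec_mul ha hb, hlam, hlam, hlam, coe_mul]
    have key : ∀ (q : S.Ct), (q : G) ∈ S.Q → ∃ z, (z = 1 ∨ z = S.t) ∧
        (q : G) * c = c * q * z ∧ (Commute (q : G) c ↔ z = 1) := by
      intro q hq
      obtain ⟨z, hz, -, e⟩ := hzz q hq
      exact ⟨z, hz, e, by rw [commute_iff_eq, e, mul_eq_left]⟩
    obtain ⟨z, hz, e, h1⟩ := key a ha
    obtain ⟨z', hz', e', h1'⟩ := key b hb
    have hc := commute_mul_left_iff e e' hz hz' S.sh_t_sq (S.central b.2 (by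
      rcases hz with rfl | rfl
      exacts [one_mem _, mem_zpowers _]))
    rw [beta_symm (c : G), beta_symm (c : G), beta_symm (c : G)]
    simp only [beta, hc, h1, h1']
    rcases hz with rfl | rfl <;> rcases hz' with rfl | rfl <;>
      simp [S.sh_t_ne, S.sh_t_ne.symm, Shape.zmod_two_add_self]
  have hsurj : Function.Surjective S.bilin :=
    (LinearMap.injective_iff_surjective_of_finrank_eq_finrank (Subspace.dual_finrank_eq).symm).1
      (LinearMap.ker_eq_bot.1 (Submodule.eq_bot_iff _ |>.2 fun v hv => S.bilin_nondeg v fun w => by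
        rw [LinearMap.mem_ker.1 hv, LinearMap.zero_apply]))
  obtain ⟨r, hr⟩ := hsurj (AddMonoidHom.toZModLinearMap 2 (AddMonoidHom.mk' lam hadd))
  obtain ⟨r, hrQ, rfl⟩ := S.exists_vec r
  have hcent : (r : G) * c ∈ S.Q := S.Q_cent (fun q hq => by
    have h1 : beta (r : G) q = beta (c : G) q := by
      have := DFunLike.congr_fun hr (S.vec ⟨q, S.Q_le hq⟩ hq)
      rw [S.bilin_vec] at this
      exact this.trans (hlam ⟨q, S.Q_le hq⟩ hq)
    obtain ⟨z, hz, e⟩ : ∃ z, (z = 1 ∨ z = S.t) ∧ (r : G) * q = q * r * z :=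
      ⟨((q : G) * r)⁻¹ * (r * q), S.mem_tz (by
        simpa [mul_assoc] using S.Q_comm _ (inv_mem hrQ) _ (inv_mem hq)), by group⟩
    obtain ⟨z', hz', e', -⟩ := hzz ⟨q, S.Q_le hq⟩ hq
    have heq : z = z' := by
      have a1 : Commute (r : G) q ↔ z = 1 := by rw [commute_iff_eq, e, mul_eq_left]
      have a2 : Commute (c : G) q ↔ z' = 1 := by rw [commute_iff_eq, e', mul_eq_left]
      rcases hz with rfl | rfl <;> rcases hz' with rfl | rfl <;>
        simp [beta, a1, a2, S.sh_t_ne] at h1 ⊢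
    exact ((commute_mul_left_iff e e' hz hz' S.sh_t_sq (S.central c.2 (by
      rcases hz with rfl | rfl
      exacts [one_mem _, mem_zpowers _]))).2 heq).symm)
  rw [S.proj_ker]
  simpa using mul_mem (inv_mem hrQ) hcent

/-- The representation. -/
noncomputable def rep : Shape.Rep S.V where
  B := S.bilin
  ρ := S.rho
  self := S.bilin_self
  alt v := by
    obtain ⟨q, hq, rfl⟩ := S.exists_vec v
    rw [S.bilin_vec, beta, if_pos (Commute.refl _)]
  nondeg := S.bilin_nondeg
  inj := S.rho_injective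
  dim := S.finrank_V

/-- The square of a commutator with the radical. -/
theorem comm_sq (c : S.Ct) {q : G} (hq : q ∈ S.Q) :
    ((c : G) * q * (c : G)⁻¹ * q⁻¹) * ((c : G) * q * (c : G)⁻¹ * q⁻¹) =
      if Commute q ((c : G) * q * (c : G)⁻¹) then 1 else S.t := by
  have ha := S.Q_normal _ c.2 _ hq
  have hcomm : ∀ z ∈ zpowers S.t, (c : G) * z * (c : G)⁻¹ = z := fun z hz => by
    rw [S.central c.2 hz, mul_inv_cancel_right]
  have ha2 : (c : G) * q * (c : G)⁻¹ * ((c : G) * q * (c : G)⁻¹) = q * q := by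
    conv_rhs => rw [← hcomm _ (S.Q_sq _ hq)]
    group
  obtain ⟨a, ea⟩ : ∃ a, a = (c : G) * q * (c : G)⁻¹ := ⟨_, rfl⟩
  rw [← ea] at ha ha2 ⊢
  obtain ⟨z, hz, e, hc⟩ : ∃ z, (z = 1 ∨ z = S.t) ∧ q⁻¹ * a = a * q⁻¹ * z ∧ (Commute q a ↔ z = 1) :=
    ⟨(a * q⁻¹)⁻¹ * (q⁻¹ * a), S.mem_tz (by
      simpa [mul_assoc] using S.Q_comm _ hq _ (inv_mem ha)),
      by group, by
        rw [inv_mul_eq_one, ← commute_iff_eq, Commute.inv_right_iff]
        exact ⟨Commute.symm, Commute.symm⟩⟩
  have hzq : q⁻¹ * z = z * q⁻¹ := S.central (S.Q_le (inv_mem hq)) (by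
    rcases hz with rfl | rfl
    exacts [one_mem _, mem_zpowers _])
  calc a * q⁻¹ * (a * q⁻¹) = a * (q⁻¹ * a) * q⁻¹ := by group
    _ = a * a * (q⁻¹ * z * q⁻¹) := by rw [e]; group
    _ = (a * a) * (q * q)⁻¹ * ((q * q) * (q⁻¹ * z * q⁻¹)) := by group
    _ = z := by
      have hzq2 : q * z = z * q := S.central (S.Q_le hq) (by
        rcases hz with rfl | rfl
        exacts [one_mem _, mem_zpowers _])
      rw [ha2, mul_inv_cancel, one_mul, hzq, ← mul_assoc, ← mul_assoc, mul_assoc q q z, hzq2,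
        ← mul_assoc, hzq2]
      group
    _ = _ := by
      rcases hz with rfl | rfl
      · rw [if_pos (hc.2 rfl)]
      · rw [if_neg fun h => S.sh_t_ne (hc.1 h)]

end Setup

end CfsgLib.Recog.OEightCent
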