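import Cfsg.Agent.Lib.Recog.OEightCent.ShapeTensor
import Cfsg.Agent.Lib.Recog.OEightCent.ShapeModule

/-!
Twisting by an inner automorphism of the quotient, and a complement to the radical modulo `t`.
-/

set_option autoImplicit false
set_option linter.unusedSectionVars false

namespace CfsgLib.Recog.OEightCent

open Subgroup
open scoped Pointwise

namespace Shape

/-- The standard Sylow 2-subgroup as a subgroup. -/
def stdSub : Subgroup P3 where
  carrier := {g | InStd g}
  one_mem' := ⟨rfl, rfl, rfl⟩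
  mul_mem' := fun {a b} ha hb => by
    refine ⟨?_, ?_, ?_⟩ <;> simp [ha.1, hb.1, ha.2.1, hb.2.1, ha.2.2, hb.2.2]
  inv_mem' := fun {a} ha => by
    refine ⟨?_, ?_, ?_⟩ <;> simp only [Prod.fst_inv, Prod.snd_inv, Equiv.Perm.inv_eq_iff_eq,
      ha.1, ha.2.1, ha.2.2]

theorem card_stdSub : Nat.card stdSub = 8 := by
  classical
  have : (Finset.univ.filter fun g : P3 => InStd g).card = 8 := by decide +kernel
  rw [← this, Nat.card_eq_fintype_card, ← Fintype.card_subtype]
  exact Fintype.card_congr (Equiv.subtypeEquivRight fun g => Iff.rfl)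

theorem exists_conj_std (H' : Subgroup P3) (hc : Nat.card H' = 8) :
    ∃ g0 : P3, ∀ g, InStd g ↔ g0 * g * g0⁻¹ ∈ H' := by
  haveI : Fact (Nat.Prime 2) := ⟨Nat.prime_two⟩
  have hfac : (Nat.card P3).factorization 2 = 3 := by
    rw [show Nat.card P3 = 2 ^ 3 * 27 by simp [Nat.card_eq_fintype_card, Fintype.card_perm, Nat.factorial],
      Nat.factorization_mul (by norm_num) (by norm_num), Nat.factorization_pow, Finsupp.add_apply,
      Finsupp.smul_apply, Nat.Prime.factorization_self Nat.prime_two,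
      Nat.factorization_eq_zero_of_not_dvd (by norm_num)]
    rfl
  let P : Sylow 2 P3 := Sylow.ofCard stdSub (by rw [card_stdSub, hfac]; norm_num)
  let Q : Sylow 2 P3 := Sylow.ofCard H' (by rw [hc, hfac]; norm_num)
  obtain ⟨g0, hg⟩ := MulAction.exists_smul_eq P3 P Q
  refine ⟨g0, fun g => ?_⟩
  have e : MulAut.conj g0 • stdSub = H' := congrArg (fun R : Sylow 2 P3 => (R : Subgroup P3)) hg
  rw [← e, show g0 * g * g0⁻¹ = MulAut.conj g0 • g from rfl]
  exact (Subgroup.smul_mem_pointwise_smul_iff (a := MulAut.conj g0) (S := stdSub) (x := g)).symm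

namespace Rep

variable {V : Type*} [AddCommGroup V] [Module (ZMod 2) V] (R : Rep V)

/-- The representation twisted by an inner automorphism. -/
def twist (g0 : P3) : Rep V where
  B := R.B
  ρ := R.ρ.comp (MulAut.conj g0).toMonoidHom
  self g x y := R.self _ x y
  alt := R.alt
  nondeg := R.nondeg
  inj g h := by
    have := R.inj (MulAut.conj g0 g) h
    exact (MulAut.conj g0).injective (this.trans (map_one _).symm)
  dim := R.dim

theorem twist_ρ (g0 g : P3) : (R.twist g0).ρ g = R.ρ (g0 * g * g0⁻¹) := rfl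

end Rep

/-- The image of the exponents. -/
def e27 : Subgroup P3 where
  carrier := Set.range emb
  one_mem' := ⟨0, emb_zero⟩
  mul_mem' := by rintro _ _ ⟨a, rfl⟩ ⟨b, rfl⟩; exact ⟨a + b, emb_add a b⟩
  inv_mem' := by
    rintro _ ⟨a, rfl⟩
    refine ⟨-a, ?_⟩
    rw [eq_inv_iff_mul_eq_one, ← emb_add, neg_add_cancel, emb_zero]

theorem e27_conj : ∀ s : Equiv.Perm (Fin 3), ∀ a, ∃ b, s * cyc a * s⁻¹ = cyc b := by decide +kernel

instance e27_normal : e27.Normal := ⟨by
  rintro _ ⟨a, rfl⟩ g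
  obtain ⟨b1, h1⟩ := e27_conj g.1 a.1
  obtain ⟨b2, h2⟩ := e27_conj g.2.1 a.2.1
  obtain ⟨b3, h3⟩ := e27_conj g.2.2 a.2.2
  exact ⟨(b1, b2, b3), Prod.ext h1.symm (Prod.ext h2.symm h3.symm)⟩⟩

theorem card_e27 : Nat.card e27 = 27 := by
  have hinj : Function.Injective emb := fun a b h => sub_eq_zero.1 (emb_injective _ (by
    rw [sub_eq_add_neg, emb_add, h, ← emb_add, add_neg_cancel, emb_zero]))
  rw [show Nat.card e27 = Nat.card (Set.range emb) from rfl,
    Nat.card_congr (Equiv.ofInjective emb hinj).symm]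
  simp [Nat.card_eq_fintype_card, ZMod.card]

end Shape

variable {G : Type*} [Group G] [Finite G]

namespace Setup

variable (S : Setup G)

/-- The projection composed with an inner automorphism. -/
def piT (g0 : P3) : S.Bar →* P3 := (MulAut.conj g0⁻¹).toMonoidHom.comp S.projBar

theorem piT_surj (g0 : P3) : Function.Surjective (S.piT g0) :=
  (MulAut.conj g0⁻¹).surjective.comp S.projBar_surj

theorem piT_ker (g0 : P3) : (S.piT g0).ker = S.QB := by
  ext b
  simp only [piT, MonoidHom.mem_ker, MonoidHom.comp_apply]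
  exact (MulAut.conj g0⁻¹).map_eq_one_iff

/-- A module element as an element of the quotient. -/
def iota (v : S.V) : S.Bar := ((Additive.toMul v : S.QB) : S.Bar)

theorem iota_add (v w : S.V) : S.iota (v + w) = S.iota v * S.iota w := rfl

theorem iota_zero : S.iota 0 = 1 := rfl

theorem iota_vec {q : S.Ct} (hq : (q : G) ∈ S.Q) : S.iota (S.vec q hq) = QuotientGroup.mk q := rfl

theorem iota_conj (g0 : P3) (b : S.Bar) (v : S.V) :
    b * S.iota v * b⁻¹ = S.iota ((S.rep.twist g0).ρ (S.piT g0 b) v) := by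
  obtain ⟨c, rfl⟩ := QuotientGroup.mk_surjective b
  obtain ⟨q, hq, rfl⟩ := S.exists_vec v
  rw [Shape.Rep.twist_ρ, show g0 * S.piT g0 (QuotientGroup.mk c) * g0⁻¹ = S.proj c by
    simp [piT, projBar_mk, mul_assoc]]
  show _ = S.iota (S.rho (S.proj c) (S.vec q hq))
  rw [S.rho_vec, S.iota_vec, S.iota_vec]
  simp

/-- **A complement modulo `t`** when the subgroup of order 27 fixes no vector. -/
theorem exists_section (g0 : P3)
    (hfix : ∀ v : S.V, (∀ a, (S.rep.twist g0).e a v = v) → v = 0) :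
    ∃ s : P3 →* S.Bar, ∀ g, S.piT g0 (s g) = g := by
  haveI : Fact (Nat.Prime 3) := ⟨Nat.prime_three⟩
  set π := S.piT g0
  set K := Shape.e27.comap π with hKdef
  have hK : Nat.card K = 27 * 256 := by
    have h1 := K.card_mul_index
    rw [hKdef, index_comap_of_surjective _ (S.piT_surj g0), ← hKdef] at h1
    have h2 := S.QB.card_mul_index
    rw [Subgroup.index_ker, MonoidHom.range_eq_top.2 S.projBar_surj, card_top, S.card_QB] at h2
    have h3 := Shape.e27.card_mul_index
    rw [Shape.card_e27] at h3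
    rw [show Nat.card S.Bar = 256 * Nat.card P3 from h2.symm, ← h3] at h1
    have h4 : 0 < Shape.e27.index := Nat.pos_of_ne_zero index_ne_zero_of_finite
    exact Nat.eq_of_mul_eq_mul_right h4 (by rw [h1]; ring)
  obtain ⟨P⟩ : Nonempty (Sylow 3 K) := inferInstance
  have hP : Nat.card (P : Subgroup K) = 27 := by
    rw [Sylow.card_eq_multiplicity, hK, show 27 * 256 = 3 ^ 3 * 256 by norm_num,
      Nat.factorization_mul (by norm_num) (by norm_num), Nat.factorization_pow, Finsupp.add_apply,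
      Finsupp.smul_apply, Nat.Prime.factorization_self Nat.prime_three,
      Nat.factorization_eq_zero_of_not_dvd (by norm_num)]
    rfl
  obtain ⟨P₀, hP₀⟩ : ∃ P₀, P₀ = (P : Subgroup K).map K.subtype := ⟨_, rfl⟩
  have hsup := Sylow.normalizer_sup_eq_top P
  rw [← hP₀] at hsup
  set N := normalizer (P₀ : Set S.Bar) with hN
  have hP27 : Nat.card P₀ = 27 := by rw [hP₀, card_map_of_injective K.subtype_injective, hP]
  have hdisj : P₀ ⊓ S.QB = ⊥ := by
    refine eq_bot_of_card_eq _ ?_
    have h1 := card_dvd_of_le (inf_le_left : P₀ ⊓ S.QB ≤ P₀)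
    have h2 := card_dvd_of_le (inf_le_right : P₀ ⊓ S.QB ≤ S.QB)
    rw [hP27] at h1
    rw [S.card_QB] at h2
    simpa using Nat.dvd_gcd h1 h2
  have hPe : P₀.map π = Shape.e27 := by
    refine eq_of_le_of_card_ge ?_ ?_
    · rw [map_le_iff_le_comap, ← hKdef, hP₀]
      exact map_subtype_le _
    · rw [Shape.card_e27, ← hP27]
      refine Nat.card_le_card_of_injective (fun p => (⟨π p, mem_map_of_mem _ p.2⟩ : P₀.map π))
        fun p q h => ?_
      have hm : (p : S.Bar)⁻¹ * q ∈ P₀ ⊓ S.QB := mem_inf.2 ⟨mul_mem (inv_mem p.2) q.2, by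
        rw [← S.piT_ker g0, MonoidHom.mem_ker, map_mul, map_inv,
          show π (p : S.Bar) = π q from congrArg Subtype.val h, inv_mul_cancel]⟩
      rw [hdisj, mem_bot, inv_mul_eq_one] at hm
      exact Subtype.ext hm
  have hsurj : Function.Surjective (π.comp N.subtype) := by
    rw [← MonoidHom.range_eq_top, MonoidHom.range_comp, range_subtype, eq_top_iff,
      ← map_top_of_surjective π (S.piT_surj g0), ← hsup, Subgroup.map_sup]
    refine sup_le le_rfl ?_
    refine (map_comap_le π Shape.e27).trans ?_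
    rw [← hPe]
    exact map_mono le_normalizer
  have hinj : Function.Injective (π.comp N.subtype) := by
    refine (injective_iff_map_eq_one _).2 fun n hn => ?_
    have hnQ : (n : S.Bar) ∈ S.QB := by rw [← S.piT_ker g0]; exact hn
    have hv : ∀ p ∈ P₀, (n : S.Bar) * p * (n : S.Bar)⁻¹ = p := by
      intro p hp
      have hm : (n : S.Bar) * p * (n : S.Bar)⁻¹ * p⁻¹ ∈ P₀ ⊓ S.QB := by
        refine mem_inf.2 ⟨mul_mem ((mem_normalizer_iff.1 n.2 p).1 hp) (inv_mem hp), ?_⟩
        rw [show (n : S.Bar) * p * (n : S.Bar)⁻¹ * p⁻¹ = n * (p * (n : S.Bar)⁻¹ * p⁻¹) by group]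
        exact mul_mem hnQ ((inferInstance : S.QB.Normal).conj_mem _ (inv_mem hnQ) p)
      rwa [hdisj, mem_bot, mul_inv_eq_one] at hm
    obtain ⟨v, hv'⟩ : ∃ v : S.V, S.iota v = n := ⟨Additive.ofMul ⟨n, hnQ⟩, rfl⟩
    have h0 : v = 0 := hfix v fun a => by
      obtain ⟨p, hp, hpe⟩ : Shape.emb a ∈ P₀.map π := hPe.symm ▸ (⟨a, rfl⟩ : Shape.emb a ∈ Shape.e27)
      have h1 := S.iota_conj g0 p v
      have h2 : p * S.iota v * p⁻¹ = S.iota v := by
        rw [hv', mul_inv_eq_iff_eq_mul]
        exact ((mul_inv_eq_iff_eq_mul.1 (hv p hp)).symm)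
      rw [h2, hpe] at h1
      exact (Additive.toMul.injective (Subtype.ext h1)).symm
    exact Subtype.ext (by rw [← hv', h0, S.iota_zero]; rfl)
  let e : N ≃* P3 := MulEquiv.ofBijective _ ⟨hinj, hsurj⟩
  exact ⟨N.subtype.comp e.symm.toMonoidHom, fun g => e.apply_symm_apply g⟩

end Setup

end CfsgLib.Recog.OEightCent
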