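import Cfsg.Agent.Lib.Recog.OEightCent.ShapeWeights

/-!
The representation has the tensor shape as soon as a vector has the stabiliser of a pure tensor and the
quadratic form vanishes on the commutators of its orthogonal with that stabiliser.
-/

set_option autoImplicit false
set_option linter.unusedSectionVars false

namespace CfsgLib.Recog.OEightCent.Shape

/-- The standard Sylow 2-subgroup: the stabiliser of the last point in each factor. -/
def InStd (g : P3) : Prop := g.1 2 = 2 ∧ g.2.1 2 = 2 ∧ g.2.2 2 = 2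

instance instDecidableInStd (g : P3) : Decidable (InStd g) := by unfold InStd; infer_instance

/-- An involution of the standard Sylow subgroup. -/
def sJ (J : Bool × Bool × Bool) : P3 :=
  (if J.1 then Equiv.swap 0 1 else 1, if J.2.1 then Equiv.swap 0 1 else 1,
    if J.2.2 then Equiv.swap 0 1 else 1)

/-- Negation of some coordinates. -/
def flipT (J : Bool × Bool × Bool) (a : T3) : T3 :=
  (if J.1 then -a.1 else a.1, if J.2.1 then -a.2.1 else a.2.1, if J.2.2 then -a.2.2 else a.2.2)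

theorem sJ_std : ∀ J, InStd (sJ J) := by decide +kernel

theorem sJ_sq : ∀ J, sJ J * sJ J = 1 := by decide +kernel

theorem emb_sJ : ∀ J a, emb a * sJ J = sJ J * emb (flipT J a) := by decide +kernel

theorem flipT_add (J : Bool × Bool × Bool) (a b : T3) : flipT J (a + b) = flipT J a + flipT J b := by
  rcases J with ⟨j, k, l⟩
  cases j <;> cases k <;> cases l <;> ext <;> simp [flipT] <;> abel

theorem dot_flipT (J : Bool × Bool × Bool) (χ a : T3) : dot χ (flipT J a) = dot (flipT J χ) a := by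
  rcases J with ⟨j, k, l⟩
  cases j <;> cases k <;> cases l <;> simp [flipT, dot]

theorem cyc_inv : ∀ s : Equiv.Perm (Fin 3), s * s = 1 → s ≠ 1 → ∀ a, cyc a * s = s * cyc (-a) := by
  decide +kernel

theorem emb_inv {τ : P3} (h : τ * τ = 1) (h1 : τ.1 ≠ 1) (h2 : τ.2.1 ≠ 1) (h3 : τ.2.2 ≠ 1) (a : T3) :
    emb a * τ = τ * emb (-a) := by
  obtain ⟨s, t, u⟩ := τ
  simp only [Prod.mk_mul_mk, Prod.mk_eq_one] at h
  simp only [emb, Prod.fst_neg, Prod.snd_neg, Prod.mk_mul_mk, cyc_inv s h.1 h1, cyc_inv t h.2.1 h2,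
    cyc_inv u h.2.2 h3]

/-- The exponent of a point. -/
def ptc (p : Fin 3) : ZMod 3 := (p.val : ZMod 3) - 2

/-- The coset of the standard Sylow subgroup. -/
def pt (g : P3) : T3 := (ptc (g.1 2), ptc (g.2.1 2), ptc (g.2.2 2))

theorem cyc_ptc : ∀ h : Equiv.Perm (Fin 3), ((cyc (ptc (h 2)))⁻¹ * h) 2 = 2 := by decide +kernel

theorem pt_std (g : P3) : InStd ((emb (pt g))⁻¹ * g) :=
  ⟨cyc_ptc g.1, cyc_ptc g.2.1, cyc_ptc g.2.2⟩

/-- Coefficients in one coordinate. -/
def c1 (a : ZMod 3) (b : Bool) : ZMod 2 := if a = 1 then 1 else if (a = 2 ↔ b = true) then 1 else 0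

/-- Coefficients in the tensor basis. -/
def coef (a : T3) (J : Bool × Bool × Bool) : ZMod 2 := c1 a.1 J.1 * c1 a.2.1 J.2.1 * c1 a.2.2 J.2.2

/-- The exponents of the tensor basis. -/
def base (J : Bool × Bool × Bool) : T3 :=
  (if J.1 then 2 else 0, if J.2.1 then 2 else 0, if J.2.2 then 2 else 0)

theorem partial_support : ∀ χ : T3, χ ≠ 0 → (χ.1 = 0 ∨ χ.2.1 = 0 ∨ χ.2.2 = 0) →
    ∃ u : T3, u ≠ 0 ∧ ∃ J, flipT J u = u ∧ dot χ u = 0 ∧ flipT J χ = -χ := by decide +kernel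

theorem unit_not_std : ∀ u : T3, InStd (emb u) → u = 0 := by decide +kernel

/-- The four signed variants. -/
def sigJ : Fin 4 → Bool × Bool × Bool :=
  ![(false, false, false), (true, false, false), (false, true, false), (false, false, true)]

theorem full_sep : ∀ χ : T3, χ.1 ≠ 0 → χ.2.1 ≠ 0 → χ.2.2 ≠ 0 → ∀ i j : Fin 4, i ≠ j →
    ∃ k, dot (flipT (sigJ i) χ) k = 0 ∧ dot (flipT (sigJ j) χ) k ≠ 0 := by decide +kernel

theorem full_unit : ∀ χ : T3, χ.1 ≠ 0 → χ.2.1 ≠ 0 → χ.2.2 ≠ 0 → ∀ i : Fin 4,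
    flipT (sigJ i) χ ≠ 0 ∧ dot (flipT (sigJ i) χ) (1, 0, 0) ≠ 0 ∧
      dot (flipT (sigJ i) χ) (0, 1, 0) ≠ 0 ∧ dot (flipT (sigJ i) χ) (0, 0, 1) ≠ 0 := by
  decide +kernel

theorem full_move : ∀ χ : T3, χ.1 ≠ 0 → χ.2.1 ≠ 0 → χ.2.2 ≠ 0 → ∀ i j : Fin 4,
    ∃ J, flipT J (flipT (sigJ i) χ) = flipT (sigJ j) χ := by decide +kernel

namespace Rep

variable {V : Type*} [AddCommGroup V] [Module (ZMod 2) V] (R : Rep V)

theorem e_ρ {τ : P3} {a b : T3} (h : emb a * τ = τ * emb b) (x : V) :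
    R.e a (R.ρ τ x) = R.ρ τ (R.e b x) := by
  simp only [e, ← Module.End.mul_apply, ← map_mul, h]

theorem ρρ {τ : P3} (h : τ * τ = 1) (x : V) : R.ρ τ (R.ρ τ x) = x := by
  rw [← Module.End.mul_apply, ← map_mul, h, map_one, Module.End.one_apply]

theorem map_mem {τ : P3} {φ : T3 → T3} (hc : ∀ a, emb a * τ = τ * emb (φ a))
    (hadd : ∀ a, φ (a + a) = φ a + φ a) {χ ψ : T3} (hd : ∀ a, dot ψ a = 0 ↔ dot χ (φ a) = 0)
    {w : V} (hw : w ∈ R.P χ) : R.ρ τ w ∈ R.P ψ := fun a =>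
  ⟨fun h => by rw [R.e_ρ (hc a), (hw _).1 ((hd a).1 h)], fun h => by
    rw [R.e_ρ (hc a), R.e_ρ (hc (a + a)), hadd, ← map_add, ← map_add,
      (hw (φ a)).2 (fun e => h ((hd a).2 e)), map_zero]⟩

theorem plane_four {χ : T3} (h2 : Module.finrank (ZMod 2) (R.P χ) = 2) {x y : V} (hx : x ∈ R.P χ)
    (hy : y ∈ R.P χ) (x0 : x ≠ 0) (y0 : y ≠ 0) (hxy : x ≠ y) {z : V} (hz : z ∈ R.P χ) :
    z = 0 ∨ z = x ∨ z = y ∨ z = x + y := by
  classical
  haveI := R.finite
  haveI : Finite (R.P χ) := Module.finite_of_finite (ZMod 2)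
  haveI := Fintype.ofFinite (R.P χ)
  have h4 : Fintype.card (R.P χ) = 4 := by
    rw [← Nat.card_eq_fintype_card, Module.natCard_eq_pow_finrank (K := ZMod 2), h2, Nat.card_zmod]
    norm_num
  have hs : x + y ≠ 0 := fun e => hxy (by
    calc x = x + (y + y) := by rw [R.add_self, add_zero]
      _ = y := by rw [← add_assoc, e, zero_add])
  set T : Finset (R.P χ) := {0, ⟨x, hx⟩, ⟨y, hy⟩, ⟨x, hx⟩ + ⟨y, hy⟩}
  have hT : T = Finset.univ := by
    refine Finset.eq_univ_of_card _ ?_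
    rw [h4]
    refine Finset.card_eq_four.2 ⟨_, _, _, _, ?_, ?_, ?_, ?_, ?_, ?_, rfl⟩ <;>
      simp only [ne_eq, Subtype.ext_iff, Submodule.coe_zero, Submodule.coe_add]
    · exact x0.symm
    · exact y0.symm
    · exact hs.symm
    · exact hxy
    · exact fun e => y0 (add_eq_left.1 e.symm)
    · exact fun e => x0 (add_eq_right.1 e.symm)
  have hm : (⟨z, hz⟩ : R.P χ) ∈ T := hT ▸ Finset.mem_univ _
  simpa [T, Subtype.ext_iff] using hm

theorem plane_B {χ : T3} (hχ : χ ≠ 0) (h2 : Module.finrank (ZMod 2) (R.P χ) = 2) {x y : V}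
    (hx : x ∈ R.P χ) (hy : y ∈ R.P χ) (x0 : x ≠ 0) (y0 : y ≠ 0) (hxy : x ≠ y) : R.B x y = 1 := by
  by_contra h
  have h0 : R.B x y = 0 := by
    by_contra h'; exact h (zmod_two_eq_one h')
  obtain ⟨z, hz, h1⟩ := R.exists_partner hχ hx x0
  rcases R.plane_four h2 hx hy x0 y0 hxy hz with e | e | e | e <;>
    simp [e, R.alt, h0] at h1

theorem exists_mem_ne {χ : T3} (h2 : Module.finrank (ZMod 2) (R.P χ) = 2) :
    ∃ w ∈ R.P χ, w ≠ 0 := Submodule.exists_mem_ne_zero_of_ne_bot fun e => by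
  rw [e, finrank_bot] at h2; norm_num at h2

theorem e_ne {χ k : T3} (hk : dot χ k ≠ 0) {w : V} (hw : w ∈ R.P χ) (h0 : w ≠ 0) : R.e k w ≠ w := by
  intro h
  have h' := (hw k).2 hk
  rw [R.e_add, h, h, R.add_self, zero_add] at h'
  exact h0 h'

theorem exists_dot : ∀ χ : T3, χ ≠ 0 → ∃ k, dot χ k ≠ 0 := by decide +kernel

/-- An involution inverting a plane has a pair `x, τ x` of hyperbolic vectors in it. -/
theorem plane_pair {χ : T3} (hχ : χ ≠ 0) (h2 : Module.finrank (ZMod 2) (R.P χ) = 2) {τ : P3}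
    (hτ : τ * τ = 1) {φ : T3 → T3} (hc : ∀ a, emb a * τ = τ * emb (φ a))
    (hadd : ∀ a, φ (a + a) = φ a + φ a) (hd : ∀ a, dot χ (φ a) = -dot χ a) :
    ∃ x ∈ R.P χ, R.B x (R.ρ τ x) = 1 := by
  obtain ⟨w, hw, w0⟩ := R.exists_mem_ne h2
  have hmem : ∀ {x : V}, x ∈ R.P χ → R.ρ τ x ∈ R.P χ := fun hx =>
    R.map_mem hc hadd (fun a => by rw [hd, neg_eq_zero]) hx
  have hne : ∀ {x : V}, x ≠ 0 → R.ρ τ x ≠ 0 := fun {x} hx e => hx (by
    rw [← R.ρρ hτ x, e, map_zero])
  suffices ∃ x ∈ R.P χ, x ≠ 0 ∧ R.ρ τ x ≠ x by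
    obtain ⟨x, hx, x0, hne'⟩ := this
    exact ⟨x, hx, R.plane_B hχ h2 hx (hmem hx) x0 (hne x0) hne'.symm⟩
  by_contra h
  push Not at h
  obtain ⟨k, hk⟩ := exists_dot χ hχ
  have h3 : ∀ d : ZMod 3, -d = d + d := by decide +kernel
  have e1 : R.e k w = R.e (φ k) w := by
    have h' := h _ (R.e_mem hw (φ k)) fun e => w0 (by
      have := congrArg (R.e (-φ k)) e
      rwa [← R.e_add, neg_add_cancel, R.e_zero, map_zero] at this)
    rw [← R.e_ρ (hc k), h w hw w0] at h'
    exact h'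
  have e2 : R.e (k + -φ k) w = w := by
    rw [add_comm, R.e_add, e1, ← R.e_add, neg_add_cancel, R.e_zero]
  refine R.e_ne (k := k + -φ k) ?_ hw w0 e2
  rw [dot_add, dot_neg, hd, neg_neg]
  revert hk; generalize dot χ k = d; revert d; decide +kernel

/-- **An involution moving all three factors.** -/
theorem exists_B_one {τ : P3} (h : τ * τ = 1) (h1 : τ.1 ≠ 1) (h2 : τ.2.1 ≠ 1) (h3 : τ.2.2 ≠ 1) :
    ∃ x, R.B x (R.ρ τ x) = 1 := by
  obtain ⟨χ, hχ, hr⟩ := R.exists_plane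
  obtain ⟨x, -, hx⟩ := R.plane_pair hχ hr h (emb_inv h h1 h2 h3) (fun a => neg_add a a)
    (dot_neg χ)
  exact ⟨x, hx⟩

/-- The hypotheses on the pure vector. -/
structure Pure (R : Rep V) (v : V) : Prop where
  ne : v ≠ 0
  fix : ∀ g, InStd g → R.ρ g v = v
  stab : ∀ g, R.ρ g v = v → InStd g
  iso : ∀ g, InStd g → ∀ w, R.B w v = 0 → R.B w (R.ρ g w) = 0

variable {R} {v : V} (h : R.Pure v)
include h

theorem plane_full {χ : T3} (hχ : χ ≠ 0) (h2 : Module.finrank (ZMod 2) (R.P χ) = 2) :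
    χ.1 ≠ 0 ∧ χ.2.1 ≠ 0 ∧ χ.2.2 ≠ 0 := by
  by_contra hcon
  obtain ⟨u, hu0, J, hJu, hdu, hJχ⟩ := partial_support χ hχ (by tauto)
  obtain ⟨x, -, hx⟩ := R.plane_pair hχ h2 (sJ_sq J) (emb_sJ J) (fun a => flipT_add J a a)
    (fun a => by rw [dot_flipT, hJχ]; simp [dot]; ring)
  refine hu0 (unit_not_std u (h.stab _ ?_))
  set s := sJ J
  have hadd : ∀ p q, R.B (p + q) (R.ρ s (p + q)) = R.B p (R.ρ s p) + R.B q (R.ρ s q) := fun p q => by
    have e : R.B q (R.ρ s p) = R.B p (R.ρ s q) := by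
      rw [R.symm q, ← R.self s, R.ρρ (sJ_sq J)]
    simp only [map_add, LinearMap.add_apply, e]
    rw [add_assoc, ← add_assoc (R.B p (R.ρ s q)) (R.B p (R.ρ s q)), zmod_two_add_self, zero_add]
  have hxv : R.B x v = 1 := zmod_two_eq_one fun e => by
    rw [h.iso _ (sJ_std J) x e] at hx; exact zero_ne_one hx
  have hf : ∀ w, R.B w (R.ρ s w) = R.B w v := by
    intro w
    by_cases hw : R.B w v = 0
    · rw [hw, h.iso _ (sJ_std J) w hw]
    · have hwx : R.B (w + x) v = 0 := by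
        rw [map_add, LinearMap.add_apply, zmod_two_eq_one hw, hxv, zmod_two_add_self]
      have := h.iso _ (sJ_std J) _ hwx
      rw [hadd, hx] at this
      rw [zmod_two_eq_one hw]
      revert this; generalize R.B w (R.ρ s w) = d; revert d; decide +kernel
  refine sub_eq_zero.1 (R.nondeg _ fun y => ?_)
  have key : R.B (R.e u v) y = R.B v y := by
    have hneg : flipT J (-u) = -u := by
      conv_rhs => rw [← hJu]
      rcases J with ⟨j, k, l⟩
      cases j <;> cases k <;> cases l <;> ext <;> simp [flipT]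
    rw [R.adjoint, R.symm, ← hf, ← R.e_ρ (a := -u) (b := -u) (by rw [emb_sJ, hneg])]
    show R.B (R.ρ (emb (-u)) y) (R.ρ (emb (-u)) (R.ρ s y)) = _
    rw [R.self, hf, R.symm]
  rw [map_sub, LinearMap.sub_apply]
  show R.B (R.e u v) y - R.B v y = 0
  rw [key, sub_self]

theorem exists_full : ∃ χ : T3, (χ.1 ≠ 0 ∧ χ.2.1 ≠ 0 ∧ χ.2.2 ≠ 0) ∧
    (∀ i, Module.finrank (ZMod 2) (R.P (flipT (sigJ i) χ)) = 2) ∧
    Function.Surjective (∑ i, (R.P (flipT (sigJ i) χ)).subtype ∘ₗ LinearMap.proj i :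
      ((i : Fin 4) → R.P (flipT (sigJ i) χ)) →ₗ[ZMod 2] V) := by
  haveI := R.finite
  obtain ⟨χ, hχ, h2⟩ := R.exists_plane
  obtain ⟨a, b, c⟩ := plane_full h hχ h2
  have h0 := fun i => (full_unit χ a b c i).1
  have hsep := full_sep χ a b c
  have hge : ∀ i, 2 ≤ Module.finrank (ZMod 2) (R.P (flipT (sigJ i) χ)) := by
    intro i
    obtain ⟨w, hw, w0⟩ := R.exists_mem_ne h2
    refine R.two_le ((Submodule.ne_bot_iff _).2 ⟨R.ρ (sJ (sigJ i)) w,
      R.map_mem (emb_sJ _) (fun a => flipT_add _ a a) (fun a => by rw [dot_flipT]) hw,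
      fun e => w0 ?_⟩) (h0 i)
    rw [← R.ρρ (sJ_sq (sigJ i)) (x := w), e, map_zero]
  have hle := R.sum_finrank_le (fun i => flipT (sigJ i) χ) h0 hsep
  rw [Fin.sum_univ_four] at hle
  have e : ∀ i, Module.finrank (ZMod 2) (R.P (flipT (sigJ i) χ)) = 2 := by
    intro i
    have := hge 0; have := hge 1; have := hge 2; have := hge 3
    fin_cases i <;> simp only [Fin.reduceFinMk, Fin.isValue, Fin.zero_eta, Fin.mk_one] <;> omega
  refine ⟨χ, ⟨a, b, c⟩, e, (LinearMap.injective_iff_surjective_of_finrank_eq_finrank ?_).1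
    (R.sum_injective _ h0 hsep)⟩
  rw [Module.finrank_pi_fintype, Finset.sum_congr rfl fun i _ => e i, R.dim]
  rfl

/-- Every factor acts without fixed vectors. -/
theorem zero_sum {g : T3} (hg : g = (1, 0, 0) ∨ g = (0, 1, 0) ∨ g = (0, 0, 1)) (x : V) :
    x + R.e g x + R.e (g + g) x = 0 := by
  obtain ⟨χ, ⟨a, b, c⟩, -, hs⟩ := exists_full h
  obtain ⟨y, rfl⟩ := hs x
  simp only [LinearMap.sum_apply, LinearMap.comp_apply, LinearMap.proj_apply, Submodule.coe_subtype,
    map_sum, ← Finset.sum_add_distrib]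
  refine Finset.sum_eq_zero fun i _ => ((y i).2 g).2 ?_
  obtain ⟨-, u1, u2, u3⟩ := full_unit χ a b c i
  rcases hg with rfl | rfl | rfl <;> assumption

theorem fixed_eq_zero {x : V} (hx : ∀ a, R.e a x = x) : x = 0 := by
  have := zero_sum h (Or.inl rfl) x
  rwa [hx, hx, R.add_self, zero_add] at this

/-- The orbit of the pure vector spans. -/
theorem span_orbit : Submodule.span (ZMod 2) (Set.range fun a => R.e a v) = ⊤ := by
  obtain ⟨χ, ⟨a, b, c⟩, e2, hs⟩ := exists_full h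
  set U := Submodule.span (ZMod 2) (Set.range fun a => R.e a v)
  have hU : ∀ (T : Module.End (ZMod 2) V), (∀ a, T (R.e a v) ∈ U) → ∀ x ∈ U, T x ∈ U := by
    intro T hT x hx
    have : U ≤ U.comap T := Submodule.span_le.2 (by rintro _ ⟨a, rfl⟩; exact hT a)
    exact this hx
  have he : ∀ b, ∀ x ∈ U, R.e b x ∈ U := fun b => hU _ fun a => by
    rw [← R.e_add]; exact Submodule.subset_span ⟨_, rfl⟩
  have hsJ : ∀ J, ∀ x ∈ U, R.ρ (sJ J) x ∈ U := fun J => hU _ fun a => by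
    have hff : flipT J (flipT J a) = a := by
      rcases J with ⟨j, k, l⟩
      cases j <;> cases k <;> cases l <;> simp [flipT]
    have := R.e_ρ (emb_sJ J (flipT J a)) v
    rw [hff, h.fix _ (sJ_std J)] at this
    rw [← this]
    exact Submodule.subset_span ⟨_, rfl⟩
  obtain ⟨i, hi⟩ : ∃ i, R.proj (flipT (sigJ i) χ) v ≠ 0 := by
    by_contra hcon
    push Not at hcon
    refine h.ne (R.nondeg v fun x => ?_)
    obtain ⟨y, rfl⟩ := hs x
    simp only [LinearMap.sum_apply, LinearMap.comp_apply, LinearMap.proj_apply,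
      Submodule.coe_subtype, map_sum]
    refine Finset.sum_eq_zero fun i _ => ?_
    rw [← R.proj_id (full_unit χ a b c i).1 (y i).2, ← R.proj_adjoint, hcon, map_zero,
      LinearMap.zero_apply]
  obtain ⟨w, hw⟩ : ∃ w, w = R.proj (flipT (sigJ i) χ) v := ⟨_, rfl⟩
  have hwU : w ∈ U := by
    rw [hw, proj, R.op_apply]
    exact Submodule.sum_mem _ fun a _ => Submodule.smul_mem _ _ (Submodule.subset_span ⟨a, rfl⟩)
  have hwP : w ∈ R.P (flipT (sigJ i) χ) := hw ▸ R.proj_mem _ v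
  rw [← hw] at hi
  have hPi : ∀ z ∈ R.P (flipT (sigJ i) χ), z ∈ U := by
    intro z hz
    obtain ⟨k, hk⟩ := exists_dot _ (full_unit χ a b c i).1
    rcases R.plane_four (e2 i) hwP (R.e_mem hwP k) hi (fun e => hi (by
        have := congrArg (R.e (-k)) e
        rwa [← R.e_add, neg_add_cancel, R.e_zero, map_zero] at this)) (R.e_ne hk hwP hi).symm hz
      with rfl | rfl | rfl | rfl
    · exact zero_mem U
    · exact hwU
    · exact he k _ hwU
    · exact add_mem hwU (he k _ hwU)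
  rw [eq_top_iff]
  intro x _
  obtain ⟨y, rfl⟩ := hs x
  simp only [LinearMap.sum_apply, LinearMap.comp_apply, LinearMap.proj_apply, Submodule.coe_subtype]
  refine Submodule.sum_mem _ fun j _ => ?_
  obtain ⟨J, hJ⟩ := full_move χ a b c j i
  rw [← R.ρρ (sJ_sq J) (x := (y j : V))]
  refine hsJ J _ (hPi _ (R.map_mem (emb_sJ J) (fun a => flipT_add J a a) (fun a => ?_) (y j).2))
  rw [dot_flipT, hJ]

theorem ρ_eq (g : P3) : R.ρ g v = R.e (pt g) v := by
  conv_lhs => rw [← mul_inv_cancel_left (emb (pt g)) g]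
  rw [map_mul, Module.End.mul_apply, h.fix _ (pt_std g)]
  rfl

/-- Expansion in the tensor basis. -/
theorem expand (a : T3) : R.e a v = ∑ J, coef a J • R.e (base J) v := by
  have one : ∀ (g : T3), (g = (1, 0, 0) ∨ g = (0, 1, 0) ∨ g = (0, 0, 1)) → ∀ (b : T3) (d : ZMod 3),
      R.e (b + d.val • g) v = c1 d false • R.e b v + c1 d true • R.e (b + (g + g)) v := by
    intro g hg b d
    have hd : d = 0 ∨ d = 1 ∨ d = 2 := by revert d; decide +kernel
    rcases hd with rfl | rfl | rfl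
    · simp [c1, show ¬ ((0 : ZMod 3) = 2) by decide]
    · have hz := zero_sum h hg (R.e b v)
      rw [← R.e_add, ← R.e_add, add_comm g b, add_comm (g + g) b] at hz
      simp only [show (1 : ZMod 3).val = 1 from rfl, one_smul, c1, if_true]
      calc R.e (b + g) v = (R.e b v + R.e b v) + R.e (b + g) v +
            (R.e (b + (g + g)) v + R.e (b + (g + g)) v) := by
              rw [R.add_self, R.add_self, zero_add, add_zero]
        _ = (R.e b v + R.e (b + g) v + R.e (b + (g + g)) v) +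
            (R.e b v + R.e (b + (g + g)) v) := by abel
        _ = _ := by rw [hz, zero_add]
    · simp [c1, show (2 : ZMod 3).val = 2 from rfl, two_mul,
        show ¬ ((2 : ZMod 3) = 1) by decide]
  obtain ⟨a1, a2, a3⟩ := a
  have key : ∀ d : ZMod 3, d.val • (1 : ZMod 3) = d := by decide +kernel
  have e1 : ∀ b2 b3, R.e (a1, b2, b3) v =
      c1 a1 false • R.e (0, b2, b3) v + c1 a1 true • R.e (2, b2, b3) v := fun b2 b3 => by
    have := one (1, 0, 0) (Or.inl rfl) (0, b2, b3) a1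
    simpa [Prod.smul_mk, key, show (1 : ZMod 3) + 1 = 2 by decide] using this
  have e2 : ∀ b1 b3, R.e (b1, a2, b3) v =
      c1 a2 false • R.e (b1, 0, b3) v + c1 a2 true • R.e (b1, 2, b3) v := fun b1 b3 => by
    have := one (0, 1, 0) (Or.inr (Or.inl rfl)) (b1, 0, b3) a2
    simpa [Prod.smul_mk, key, show (1 : ZMod 3) + 1 = 2 by decide] using this
  have e3 : ∀ b1 b2, R.e (b1, b2, a3) v =
      c1 a3 false • R.e (b1, b2, 0) v + c1 a3 true • R.e (b1, b2, 2) v := fun b1 b2 => by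
    have := one (0, 0, 1) (Or.inr (Or.inr rfl)) (b1, b2, 0) a3
    simpa [Prod.smul_mk, key, show (1 : ZMod 3) + 1 = 2 by decide] using this
  simp only [Fintype.sum_prod_type, Fintype.sum_bool, coef, base, if_true, Bool.false_eq_true,
    if_false]
  rw [e1, e2, e2, e3, e3, e3, e3]
  simp only [smul_add, smul_smul, mul_assoc]
  abel

theorem B_zero_of_coord {a : T3} (ha : a.1 = 0 ∨ a.2.1 = 0 ∨ a.2.2 = 0) : R.B v (R.e a v) = 0 := by
  have hw : ∀ a : T3, a.1 = 0 ∨ a.2.1 = 0 ∨ a.2.2 = 0 →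
      ∃ g : T3, (g = (1, 0, 0) ∨ g = (0, 1, 0) ∨ g = (0, 0, 1)) ∧
        ∃ J, flipT J a = a ∧ flipT J g = -g := by decide +kernel
  obtain ⟨g, hg, J, hJa, hJg⟩ := hw a ha
  have hflip : ∀ g : T3, g + g = -g := by decide +kernel
  have hs : R.ρ (sJ J) (R.e a v) = R.e a v := by
    have := R.e_ρ (emb_sJ J a) v
    rw [h.fix _ (sJ_std J), hJa] at this
    exact this.symm
  have heq : R.B v (R.e g (R.e a v)) = R.B v (R.e (-g) (R.e a v)) := by
    conv_rhs => rw [← R.self (sJ J), h.fix _ (sJ_std J), ← hJg, ← R.e_ρ (emb_sJ J g), hs]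
  have hz := congrArg (R.B v) (zero_sum h hg (R.e a v))
  rw [hflip, map_add, map_add, map_zero, heq, add_assoc, zmod_two_add_self, add_zero] at hz
  exact hz

theorem B_opposite : R.B v (R.e (2, 2, 2) v) = 1 := by
  refine zmod_two_eq_one fun h0 => h.ne (R.nondeg v fun y => ?_)
  have hy : y ∈ Submodule.span (ZMod 2) (Set.range fun a => R.e a v) := by
    rw [span_orbit h]; trivial
  have : Submodule.span (ZMod 2) (Set.range fun a => R.e a v) ≤ LinearMap.ker (R.B v) := by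
    refine Submodule.span_le.2 ?_
    rintro _ ⟨a, rfl⟩
    show R.B v (R.e a v) = 0
    rw [expand h a, map_sum]
    refine Finset.sum_eq_zero fun J _ => ?_
    rw [map_smul]
    have hJ : (base J).1 = 0 ∨ (base J).2.1 = 0 ∨ (base J).2.2 = 0 ∨ base J = (2, 2, 2) := by
      revert J; decide +kernel
    rcases hJ with h' | h' | h' | h'
    · rw [B_zero_of_coord h (Or.inl h'), smul_zero]
    · rw [B_zero_of_coord h (Or.inr (Or.inl h')), smul_zero]
    · rw [B_zero_of_coord h (Or.inr (Or.inr h')), smul_zero]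
    · rw [h', h0, smul_zero]
  exact this hy

/-- A balanced list of conjugates of the pure vector sums to zero. -/
theorem sum_eq_zero_of_coef {L : List P3}
    (hL : ∀ J, (L.map fun g => coef (pt g) J).sum = 0) : (L.map fun g => R.ρ g v).sum = 0 := by
  have : ∀ L : List P3, (L.map fun g => R.ρ g v).sum =
      ∑ J, (L.map fun g => coef (pt g) J).sum • R.e (base J) v := by
    intro L
    induction L with
    | nil => simp
    | cons g L ih =>
      simp only [List.map_cons, List.sum_cons, add_smul, Finset.sum_add_distrib, ← ih]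
      rw [ρ_eq h g, expand h]
  rw [this]
  simp [hL]

end Rep

end CfsgLib.Recog.OEightCent.Shape
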