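import Cfsg.Agent.Lib.Recog.OEightCent.Setup

/-!
A faithful orthogonal representation of `S₃ × S₃ × S₃` of degree eight over two elements: one of the
weight pieces of the normal subgroup of order 27 is a plane.
-/

set_option autoImplicit false
set_option linter.unusedSectionVars false

namespace CfsgLib.Recog.OEightCent.Shape

/-- Exponent triples of the normal subgroup of order 27. -/
abbrev T3 := ZMod 3 × ZMod 3 × ZMod 3

/-- The powers of the three-cycle. -/
def cyc (a : ZMod 3) : Equiv.Perm (Fin 3) := finRotate 3 ^ a.val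

/-- The normal subgroup of order 27. -/
def emb (a : T3) : P3 := (cyc a.1, cyc a.2.1, cyc a.2.2)

theorem cyc_add : ∀ a b : ZMod 3, cyc (a + b) = cyc a * cyc b := by decide +kernel

theorem emb_add (a b : T3) : emb (a + b) = emb a * emb b := by
  simp only [emb, Prod.fst_add, Prod.snd_add, cyc_add, Prod.mk_mul_mk]

theorem emb_zero : emb 0 = 1 := by decide +kernel

theorem emb_injective : ∀ a : T3, emb a = 1 → a = 0 := by decide +kernel

/-- The pairing. -/
def dot (χ a : T3) : ZMod 3 := χ.1 * a.1 + χ.2.1 * a.2.1 + χ.2.2 * a.2.2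

theorem dot_add (χ a b : T3) : dot χ (a + b) = dot χ a + dot χ b := by
  simp only [dot, Prod.fst_add, Prod.snd_add]; ring

theorem dot_neg (χ a : T3) : dot χ (-a) = -dot χ a := by
  simp only [dot, Prod.fst_neg, Prod.snd_neg]; ring

/-- A faithful orthogonal representation. -/
structure Rep (V : Type*) [AddCommGroup V] [Module (ZMod 2) V] where
  B : V →ₗ[ZMod 2] V →ₗ[ZMod 2] ZMod 2
  ρ : P3 →* Module.End (ZMod 2) V
  self : ∀ g x y, B (ρ g x) (ρ g y) = B x y
  alt : ∀ x, B x x = 0
  nondeg : ∀ x, (∀ y, B x y = 0) → x = 0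
  inj : ∀ g, (∀ x, ρ g x = x) → g = 1
  dim : Module.finrank (ZMod 2) V = 8

theorem zmod_two_eq_one : ∀ {a : ZMod 2}, a ≠ 0 → a = 1 := by decide +kernel

theorem zmod_two_add_self : ∀ a : ZMod 2, a + a = 0 := by decide +kernel

namespace Rep

variable {V : Type*} [AddCommGroup V] [Module (ZMod 2) V] (R : Rep V)

theorem add_self (_R : Rep V) (x : V) : x + x = 0 := by
  rw [← one_smul (ZMod 2) x, ← add_smul, zmod_two_add_self, zero_smul]

theorem symm (x y : V) : R.B x y = R.B y x := by
  have h := R.alt (x + y)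
  simp only [map_add, LinearMap.add_apply, R.alt, zero_add, add_zero] at h
  have := congrArg (· + R.B x y) h
  simpa only [add_assoc, zmod_two_add_self, add_zero, zero_add] using this.symm

/-- The action of an exponent triple. -/
def e (a : T3) : Module.End (ZMod 2) V := R.ρ (emb a)

theorem e_add (a b : T3) (x : V) : R.e (a + b) x = R.e a (R.e b x) := by
  simp [e, emb_add, Module.End.mul_apply]

theorem e_zero (x : V) : R.e 0 x = x := by simp [e, emb_zero]

theorem e_comm (a b : T3) (x : V) : R.e a (R.e b x) = R.e b (R.e a x) := by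
  rw [← R.e_add, ← R.e_add, add_comm]

theorem adjoint (a : T3) (x y : V) : R.B (R.e a x) y = R.B x (R.e (-a) y) := by
  conv_lhs => rw [← R.e_zero y, ← add_neg_cancel a, R.e_add]
  exact R.self _ _ _

/-- The weight piece. -/
def P (χ : T3) : Submodule (ZMod 2) V where
  carrier := {w | ∀ a, (dot χ a = 0 → R.e a w = w) ∧
    (dot χ a ≠ 0 → w + R.e a w + R.e (a + a) w = 0)}
  add_mem' {u w} hu hw a := ⟨fun h => by rw [map_add, (hu a).1 h, (hw a).1 h], fun h => by
    rw [map_add, map_add]
    have := congrArg₂ (· + ·) ((hu a).2 h) ((hw a).2 h)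
    simp only [add_zero] at this
    rw [← this]; abel⟩
  zero_mem' a := ⟨fun _ => map_zero _, fun _ => by simp⟩
  smul_mem' c w hw a := ⟨fun h => by rw [map_smul, (hw a).1 h], fun h => by
    rw [map_smul, map_smul, ← smul_add, ← smul_add, (hw a).2 h, smul_zero]⟩

theorem e_mem {χ : T3} {w : V} (hw : w ∈ R.P χ) (b : T3) : R.e b w ∈ R.P χ := fun a =>
  ⟨fun h => by rw [R.e_comm, (hw a).1 h], fun h => by
    rw [R.e_comm a b, R.e_comm (a + a) b, ← map_add, ← map_add, (hw a).2 h, map_zero]⟩

/-- The combination of the group elements with the given coefficients. -/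
def op (c : T3 → ZMod 2) : Module.End (ZMod 2) V := ∑ a, c a • R.e a

theorem op_apply (c : T3 → ZMod 2) (x : V) : R.op c x = ∑ a, c a • R.e a x := by
  simp [op, LinearMap.sum_apply]

theorem e_op (g : T3) (c : T3 → ZMod 2) (x : V) :
    R.e g (R.op c x) = R.op (fun a => c (a - g)) x := by
  rw [R.op_apply, R.op_apply, map_sum]
  refine Fintype.sum_equiv (Equiv.addRight g) _ _ fun a => ?_
  simp [← R.e_add, add_comm g a]

theorem op_add (c c' : T3 → ZMod 2) (x : V) :
    R.op c x + R.op c' x = R.op (fun a => c a + c' a) x := by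
  simp only [R.op_apply, ← Finset.sum_add_distrib, add_smul]

/-- The coefficients of the projection to a piece. -/
def coefP (χ a : T3) : ZMod 2 := if dot χ a = 0 then 0 else 1

theorem coefP_shift {χ a g : T3} (h : dot χ g = 0) : coefP χ (a - g) = coefP χ a := by
  simp [coefP, sub_eq_add_neg, dot_add, dot_neg, h]

theorem coefP_sum {χ g : T3} (a : T3) (h : dot χ g ≠ 0) :
    coefP χ a + coefP χ (a - g) + coefP χ (a - (g + g)) = 0 := by
  simp only [coefP, sub_eq_add_neg, dot_add, dot_neg]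
  revert h
  generalize dot χ g = d
  generalize dot χ a = b
  revert d b
  decide +kernel

/-- The projection to a piece. -/
def proj (χ : T3) : Module.End (ZMod 2) V := R.op (coefP χ)

theorem proj_mem (χ : T3) (x : V) : R.proj χ x ∈ R.P χ := fun g => by
  refine ⟨fun h => ?_, fun h => ?_⟩
  · rw [proj, R.e_op, funext fun a => coefP_shift h]
  · rw [proj, R.e_op, R.e_op, R.op_add, R.op_add, funext fun a => coefP_sum a h, R.op_apply]
    simp

theorem proj_adjoint (χ : T3) (x y : V) : R.B (R.proj χ x) y = R.B x (R.proj χ y) := by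
  simp only [proj, R.op_apply, map_sum, map_smul, LinearMap.sum_apply, LinearMap.smul_apply,
    R.adjoint]
  refine Fintype.sum_equiv (Equiv.neg T3) _ _ fun a => ?_
  simp [coefP, dot_neg]

theorem card_dot_one : ∀ χ : T3, χ ≠ 0 →
    ((Finset.univ.filter fun a => dot χ a = 1).card : ZMod 2) = 1 := by decide +kernel

theorem proj_id {χ : T3} (hχ : χ ≠ 0) {w : V} (hw : w ∈ R.P χ) : R.proj χ w = w := by
  have h3 : ∀ d : ZMod 3, d ≠ 0 → d = 1 ∨ d = 2 := by decide +kernel
  rw [proj, R.op_apply, ← Finset.sum_filter_add_sum_filter_not Finset.univ (fun a => dot χ a = 1)]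
  have e1 : ∑ a ∈ Finset.univ.filter (fun a => ¬ dot χ a = 1), coefP χ a • R.e a w =
      ∑ a ∈ Finset.univ.filter (fun a => dot χ a = 1), R.e (a + a) w := by
    rw [show ∑ a ∈ Finset.univ.filter (fun a => ¬ dot χ a = 1), coefP χ a • R.e a w =
      ∑ a ∈ Finset.univ.filter (fun a => dot χ a = 2), R.e a w from ?_]
    · have h4 : ∀ a : T3, (a + a) + (a + a) = a := by decide +kernel
      refine Finset.sum_nbij' (fun a => a + a) (fun a => a + a) ?_ ?_ (fun a _ => h4 a)
        (fun a _ => h4 a) (fun a _ => by simp only [h4])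
      · intro a ha
        simp [dot_add] at ha ⊢
        rw [ha]; decide
      · intro a ha
        simp [dot_add] at ha ⊢
        rw [ha]; decide
    · rw [Finset.sum_filter, Finset.sum_filter]
      refine Finset.sum_congr rfl fun a _ => ?_
      by_cases h : dot χ a = 0
      · simp [coefP, h, show (0 : ZMod 3) ≠ 1 by decide, show (0 : ZMod 3) ≠ 2 by decide]
      · rcases h3 _ h with h' | h' <;> simp [coefP, h',
          show (2 : ZMod 3) ≠ 0 by decide, show (2 : ZMod 3) ≠ 1 by decide,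
          show (1 : ZMod 3) ≠ 2 by decide]
  rw [e1, ← Finset.sum_add_distrib, Finset.sum_congr rfl fun a ha => ?_, Finset.sum_const,
    ← Nat.cast_smul_eq_nsmul (ZMod 2), card_dot_one χ hχ, one_smul]
  have ha1 : dot χ a = 1 := (Finset.mem_filter.1 ha).2
  have h := (hw a).2 (by rw [ha1]; decide)
  simp only [coefP, ha1, show (1 : ZMod 3) ≠ 0 by decide, if_false, one_smul]
  calc R.e a w + R.e (a + a) w = (w + w) + (R.e a w + R.e (a + a) w) := by rw [R.add_self, zero_add]
    _ = w + (w + R.e a w + R.e (a + a) w) := by abel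
    _ = w := by rw [h, add_zero]

theorem exists_partner {χ : T3} (hχ : χ ≠ 0) {w : V} (hw : w ∈ R.P χ) (h0 : w ≠ 0) :
    ∃ y ∈ R.P χ, R.B w y = 1 := by
  by_contra h
  push Not at h
  refine h0 (R.nondeg w fun y => ?_)
  by_contra hy
  refine h _ (R.proj_mem χ y) ?_
  rw [← R.proj_adjoint, R.proj_id hχ hw]
  exact zmod_two_eq_one hy

/-- Pieces with different kernels are orthogonal. -/
theorem orth {χ ψ k : T3} (hk : dot χ k = 0) (hk' : dot ψ k ≠ 0) {w w' : V} (hw : w ∈ R.P χ)
    (hw' : w' ∈ R.P ψ) : R.B w w' = 0 := by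
  have fix : ∀ a, dot χ a = 0 → R.B w (R.e a w') = R.B w w' := fun a ha => by
    rw [R.symm, R.adjoint, (hw _).1 (by rw [dot_neg, ha, neg_zero]), R.symm]
  have h := congrArg (R.B w) ((hw' k).2 hk')
  rw [map_add, map_add, map_zero, fix k hk, fix (k + k) (by rw [dot_add, hk, add_zero]),
    zmod_two_add_self, zero_add] at h
  exact h

/-- Orthogonal pieces are independent. -/
theorem sum_injective {n : ℕ} (χ : Fin n → T3) (h0 : ∀ i, χ i ≠ 0)
    (hne : ∀ i j, i ≠ j → ∃ k, dot (χ i) k = 0 ∧ dot (χ j) k ≠ 0) :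
    Function.Injective (∑ i, (R.P (χ i)).subtype ∘ₗ LinearMap.proj i :
      ((i : Fin n) → R.P (χ i)) →ₗ[ZMod 2] V) := by
  rw [← LinearMap.ker_eq_bot, Submodule.eq_bot_iff]
  intro x hx
  rw [LinearMap.mem_ker] at hx
  funext i
  by_contra hi
  obtain ⟨y, hy, h1⟩ := R.exists_partner (h0 i) (x i).2 fun e => hi (Subtype.ext e)
  have h := congrArg (R.B y) hx
  rw [LinearMap.sum_apply, map_sum, map_zero, Finset.sum_eq_single i ?_ (by simp)] at h
  · simp only [LinearMap.comp_apply, LinearMap.proj_apply, Submodule.coe_subtype] at h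
    rw [R.symm, h1] at h
    exact one_ne_zero h
  · intro j _ hj
    obtain ⟨k, hk, hk'⟩ := hne i j (Ne.symm hj)
    exact R.orth hk hk' hy (x j).2

theorem finite (R : Rep V) : Module.Finite (ZMod 2) V :=
  Module.finite_of_finrank_pos (by rw [R.dim]; norm_num)

theorem sum_finrank_le {n : ℕ} (χ : Fin n → T3) (h0 : ∀ i, χ i ≠ 0)
    (hne : ∀ i j, i ≠ j → ∃ k, dot (χ i) k = 0 ∧ dot (χ j) k ≠ 0) :
    ∑ i, Module.finrank (ZMod 2) (R.P (χ i)) ≤ 8 := by
  haveI := R.finite
  rw [← Module.finrank_pi_fintype (ZMod 2), ← R.dim]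
  exact LinearMap.finrank_le_finrank_of_injective (R.sum_injective χ h0 hne)

theorem two_le {χ : T3} (hne : R.P χ ≠ ⊥) (hχ : χ ≠ 0) :
    2 ≤ Module.finrank (ZMod 2) (R.P χ) := by
  haveI := R.finite
  obtain ⟨w, hw, h0⟩ := Submodule.exists_mem_ne_zero_of_ne_bot hne
  obtain ⟨y, hy, h1⟩ := R.exists_partner hχ hw h0
  have hli : LinearIndependent (ZMod 2) ![(⟨w, hw⟩ : R.P χ), ⟨y, hy⟩] := by
    rw [LinearIndependent.pair_iff]
    intro s t h
    have h' : s • w + t • y = 0 := congrArg Subtype.val h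
    have e1 := congrArg (R.B w) h'
    have e2 := congrArg (R.B y) h'
    simp only [map_add, map_smul, smul_eq_mul, R.alt, mul_zero, map_zero, zero_add, add_zero, h1,
      mul_one, R.symm y w] at e1 e2
    exact ⟨e2, e1⟩
  simpa using hli.fintype_card_le_finrank

/-- Representatives of the thirteen kernels. -/
def reps : List T3 :=
  [(1, 0, 0), (0, 1, 0), (0, 0, 1), (1, 1, 0), (1, 2, 0), (1, 0, 1), (1, 0, 2), (0, 1, 1),
    (0, 1, 2), (1, 1, 1), (1, 1, 2), (1, 2, 1), (1, 2, 2)]

theorem reps_sep : ∀ χ ∈ reps, ∀ ψ ∈ reps, χ ≠ ψ → ∃ k, dot χ k = 0 ∧ dot ψ k ≠ 0 := by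
  decide +kernel

theorem reps_common : ∀ χ ∈ reps, ∀ ψ ∈ reps, ∃ a : T3, a ≠ 0 ∧ dot χ a = 0 ∧ dot ψ a = 0 := by
  decide +kernel

theorem reps_ne : ∀ χ ∈ reps, χ ≠ 0 := by decide +kernel

theorem reps_complete : ∀ a : T3,
    (reps.map fun χ => coefP χ a).sum + (1 : ZMod 2) = if a = 0 then 1 else 0 := by
  decide +kernel

theorem decompose (x : V) : (reps.map fun χ => R.proj χ x).sum + R.op (fun _ => 1) x = x := by
  have hl : ∀ l : List T3, (l.map fun χ => R.proj χ x).sum =
      R.op (fun a => (l.map fun χ => coefP χ a).sum) x := by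
    intro l
    induction l with
    | nil => simp [R.op_apply]
    | cons χ l ih =>
      rw [List.map_cons, List.sum_cons, ih, proj, R.op_add]
      simp only [List.map_cons, List.sum_cons]
  rw [hl, R.op_add, funext reps_complete, R.op_apply]
  simp [R.e_zero]

theorem eq_zero_of_fixes {a : T3} (h : ∀ χ ∈ reps, ∀ x, R.e a (R.proj χ x) = R.proj χ x) :
    a = 0 := by
  refine emb_injective a (R.inj _ fun x => ?_)
  show R.e a x = x
  conv_lhs => rw [← R.decompose x]
  rw [map_add, map_list_sum, List.map_map, R.e_op]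
  conv_rhs => rw [← R.decompose x]
  exact congrArg (· + _) (congrArg List.sum (List.map_congr_left fun χ hχ => h χ hχ x))

/-- **Some piece is a plane.** -/
theorem exists_plane : ∃ χ : T3, χ ≠ 0 ∧ Module.finrank (ZMod 2) (R.P χ) = 2 := by
  by_contra h
  push Not at h
  have h3 : ∀ χ ∈ reps, R.P χ ≠ ⊥ → 3 ≤ Module.finrank (ZMod 2) (R.P χ) := fun χ hχ hne => by
    have := R.two_le hne (reps_ne χ hχ)
    have := h χ (reps_ne χ hχ)
    omega
  classical
  have hA : (reps.toFinset.filter fun χ => R.P χ ≠ ⊥).card ≤ 2 := by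
    by_contra hc
    obtain ⟨a, b, c, ha, hb, hc, hab, hac, hbc⟩ := Finset.two_lt_card_iff.1 (not_le.1 hc)
    simp only [Finset.mem_filter, List.mem_toFinset] at ha hb hc
    have hle := R.sum_finrank_le ![a, b, c] (fun i => by
      fin_cases i
      · exact reps_ne a ha.1
      · exact reps_ne b hb.1
      · exact reps_ne c hc.1) (fun i j hij => by
      fin_cases i <;> fin_cases j <;> simp at hij <;>
        first
          | exact reps_sep a ha.1 b hb.1 hab
          | exact reps_sep a ha.1 c hc.1 hac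
          | exact reps_sep b hb.1 a ha.1 hab.symm
          | exact reps_sep b hb.1 c hc.1 hbc
          | exact reps_sep c hc.1 a ha.1 hac.symm
          | exact reps_sep c hc.1 b hb.1 hbc.symm)
    rw [Fin.sum_univ_three] at hle
    change Module.finrank (ZMod 2) (R.P a) + Module.finrank (ZMod 2) (R.P b) +
      Module.finrank (ZMod 2) (R.P c) ≤ 8 at hle
    have := h3 a ha.1 ha.2
    have := h3 b hb.1 hb.2
    have := h3 c hc.1 hc.2
    omega
  set A := reps.toFinset.filter fun χ => R.P χ ≠ ⊥ with hAdef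
  obtain ⟨χ, hχ, ψ, hψ, hsub⟩ : ∃ χ ∈ reps, ∃ ψ ∈ reps, ∀ φ ∈ A, φ = χ ∨ φ = ψ := by
    rcases (show A.card = 0 ∨ A.card = 1 ∨ A.card = 2 by omega) with e | e | e
    · exact ⟨(1, 0, 0), by decide, (1, 0, 0), by decide, fun φ hφ => by
        rw [Finset.card_eq_zero.1 e] at hφ; exact absurd hφ (Finset.notMem_empty _)⟩
    · obtain ⟨χ, hχ⟩ := Finset.card_eq_one.1 e
      have hm : χ ∈ A := hχ ▸ Finset.mem_singleton_self χ
      exact ⟨χ, List.mem_toFinset.1 (Finset.mem_filter.1 hm).1, χ,
        List.mem_toFinset.1 (Finset.mem_filter.1 hm).1,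
        fun φ hφ => by rw [hχ, Finset.mem_singleton] at hφ; exact Or.inl hφ⟩
    · obtain ⟨χ, ψ, -, e'⟩ := Finset.card_eq_two.1 e
      have h1 : χ ∈ A := by rw [e']; simp
      have h2 : ψ ∈ A := by rw [e']; simp
      exact ⟨χ, List.mem_toFinset.1 (Finset.mem_filter.1 h1).1, ψ,
        List.mem_toFinset.1 (Finset.mem_filter.1 h2).1, fun φ hφ => by
          rw [e'] at hφ; simpa using hφ⟩
  obtain ⟨a, ha, hχa, hψa⟩ := reps_common χ hχ ψ hψ
  refine ha (R.eq_zero_of_fixes fun φ hφ x => ?_)
  by_cases hne : R.P φ = ⊥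
  · have := R.proj_mem φ x
    rw [hne, Submodule.mem_bot] at this
    rw [this, map_zero]
  · rcases hsub φ (Finset.mem_filter.2 ⟨List.mem_toFinset.2 hφ, hne⟩) with rfl | rfl
    · exact (R.proj_mem φ x a).1 hχa
    · exact (R.proj_mem φ x a).1 hψa

end Rep

end CfsgLib.Recog.OEightCent.Shape
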