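import Cfsg.Agent.Lib.Recog.OEightCent.ShapeSection

/-!
What the shape of the module gives: `Mixed`, `NoFixed`, `TensorOf`.
-/

set_option autoImplicit false
set_option linter.unusedSectionVars false

namespace CfsgLib.Recog.OEightCent

open Subgroup

namespace Shape

/-- The images of the letters. -/
def gen : ℕ → P3
  | 0 => sJ (true, false, false)
  | 1 => sJ (false, true, false)
  | 2 => sJ (false, false, true)
  | 3 => (Equiv.swap 1 2, 1, 1)
  | 4 => (1, Equiv.swap 1 2, 1)
  | 5 => (1, 1, Equiv.swap 1 2)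
  | _ => 1

/-- The conjugates of the pure vector in a word, and its image. -/
def eval : List ℕ → List P3 × P3
  | [] => ([], 1)
  | i :: r =>
    if i = 6 then ((1 : P3) :: (eval r).1, (eval r).2)
    else ((eval r).1.map (gen i * ·), gen i * (eval r).2)

theorem relsC_eval : ∀ r ∈ relsC, (eval r).2 = 1 ∧
    ∀ J, ((eval r).1.map fun g => coef (pt g) J).sum = 0 := by
  decide +kernel

theorem gen_move : pt (gen 3 * gen 4 * gen 5) = (2, 2, 2) := by decide +kernel

theorem gen_opp : gen 3 * gen 4 * gen 5 * (gen 5 * gen 4 * gen 3) = 1 := by decide +kernel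

theorem gen_generate (g : P3) : g ∈ closure (gen '' Set.Iio 6) := by
  have hs : ∀ s : Equiv.Perm (Fin 3), s = 1 ∨ s = Equiv.swap 0 1 ∨ s = Equiv.swap 1 2 ∨
      s = Equiv.swap 0 1 * Equiv.swap 1 2 ∨ s = Equiv.swap 1 2 * Equiv.swap 0 1 ∨
      s = Equiv.swap 0 1 * Equiv.swap 1 2 * Equiv.swap 0 1 := by decide +kernel
  have hm : ∀ i < 6, gen i ∈ closure (gen '' Set.Iio 6) :=
    fun i hi => subset_closure ⟨i, hi, rfl⟩
  have h1 : ∀ s : Equiv.Perm (Fin 3), ((s, 1, 1) : P3) ∈ closure (gen '' Set.Iio 6) := by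
    intro s
    have a := hm 0 (by norm_num)
    have b := hm 3 (by norm_num)
    rcases hs s with rfl | rfl | rfl | rfl | rfl | rfl
    exacts [one_mem _, a, b, mul_mem a b, mul_mem b a, mul_mem (mul_mem a b) a]
  have h2 : ∀ s : Equiv.Perm (Fin 3), ((1, s, 1) : P3) ∈ closure (gen '' Set.Iio 6) := by
    intro s
    have a := hm 1 (by norm_num)
    have b := hm 4 (by norm_num)
    rcases hs s with rfl | rfl | rfl | rfl | rfl | rfl
    exacts [one_mem _, a, b, mul_mem a b, mul_mem b a, mul_mem (mul_mem a b) a]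
  have h3 : ∀ s : Equiv.Perm (Fin 3), ((1, 1, s) : P3) ∈ closure (gen '' Set.Iio 6) := by
    intro s
    have a := hm 2 (by norm_num)
    have b := hm 5 (by norm_num)
    rcases hs s with rfl | rfl | rfl | rfl | rfl | rfl
    exacts [one_mem _, a, b, mul_mem a b, mul_mem b a, mul_mem (mul_mem a b) a]
  have := mul_mem (mul_mem (h1 g.1) (h2 g.2.1)) (h3 g.2.2)
  simpa using this

end Shape

variable {G : Type*} [Group G] [Finite G]

namespace Setup

open scoped Classical

variable (S : Setup G)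

/-- A commutator of the radical with the centraliser squares to `t` exactly when the form is one. -/
theorem comm_sq_form (c q : S.Ct) (hq : (q : G) ∈ S.Q) :
    ((c : G) * q * (c : G)⁻¹ * (q : G)⁻¹) * ((c : G) * q * (c : G)⁻¹ * (q : G)⁻¹) =
      if S.bilin (S.vec q hq) (S.rho (S.proj c) (S.vec q hq)) = 0 then 1 else S.t := by
  rw [S.comm_sq c hq, S.rho_vec, S.bilin_vec]
  simp only [coe_mul, coe_inv, beta]
  by_cases h : Commute (q : G) ((c : G) * q * (c : G)⁻¹) <;> simp [h]

/-- **An involution moving all three factors.** -/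
theorem mixed : S.Mixed := by
  intro c hc h1 h2 h3
  obtain ⟨x, hx⟩ := S.rep.exists_B_one hc h1 h2 h3
  obtain ⟨q, hq, rfl⟩ := S.exists_vec x
  refine ⟨q, hq, ?_⟩
  rw [S.comm_sq_form c q hq, if_neg]
  intro h0
  exact one_ne_zero (hx.symm.trans h0)

/-- An elementary subgroup of order 32 of the radical is its own centraliser there. -/
theorem mem_of_commute {X : Subgroup G} (hXQ : X ≤ S.Q) (ht : S.t ∈ X) (hX : Nat.card X = 32)
    (hcomm : ∀ a ∈ X, ∀ b ∈ X, a * b = b * a) {y : G} (hy : y ∈ S.Q)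
    (hyX : ∀ a ∈ X, Commute y a) : y ∈ X := by
  haveI : Module.Finite (ZMod 2) S.V := Module.Finite.of_finite
  let φ : X →* Multiplicative S.V :=
    { toFun := fun a => Multiplicative.ofAdd (S.vec ⟨a, S.Q_le (hXQ a.2)⟩ (hXQ a.2))
      map_one' := congrArg Multiplicative.ofAdd
        (S.vec_eq_zero.2 (one_mem (zpowers S.t)) : S.vec ⟨((1 : X) : G), _⟩ _ = 0)
      map_mul' := fun a b => rfl }
  let W : Submodule (ZMod 2) S.V :=
    AddSubgroup.toZModSubmodule 2 (MonoidHom.range φ).toAddSubgroup'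
  have hmem : ∀ v, v ∈ W ↔ ∃ a : X, φ a = Multiplicative.ofAdd v := fun v => Iff.rfl
  have hW : Module.finrank (ZMod 2) W = 4 := by
    have h1 := φ.ker.card_mul_index
    have hk : Nat.card φ.ker = 2 := by
      rw [← S.t_ord, ← Nat.card_zpowers]
      refine Nat.card_congr ⟨fun a => ⟨a.1.1, (S.vec_eq_zero (q := ⟨a.1.1, S.Q_le (hXQ a.1.2)⟩) (hq := hXQ a.1.2)).1
          (congrArg Multiplicative.toAdd a.2)⟩,
        fun z => ⟨⟨z.1, zpowers_le.2 ht z.2⟩, congrArg Multiplicative.ofAdd (S.vec_eq_zero.2 z.2)⟩,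
        fun _ => rfl, fun _ => rfl⟩
    rw [Subgroup.index_ker, hX, hk] at h1
    have h := Module.natCard_eq_pow_finrank (K := ZMod 2) (V := W)
    rw [show Nat.card W = Nat.card φ.range from Nat.card_congr
      ⟨fun v => ⟨Multiplicative.ofAdd v.1, v.2⟩, fun v => ⟨Multiplicative.toAdd v.1, v.2⟩,
        fun _ => rfl, fun _ => rfl⟩, Nat.card_zmod] at h
    have h16 : 2 ^ Module.finrank (ZMod 2) W = 2 ^ 4 := by rw [← h]; omega
    exact Nat.pow_right_injective le_rfl h16
  have hrefl : LinearMap.BilinForm.IsRefl S.bilin := fun v w h =>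
    (S.form_symm v w).symm.trans h |> fun h' => h'
  have hnd : LinearMap.BilinForm.Nondegenerate S.bilin :=
    ⟨fun v h => S.bilin_nondeg v h, fun v h => S.bilin_nondeg v fun w => (S.form_symm v w).trans (h w)⟩
  have horth : ∀ {u : S.V}, (∀ a : X, S.bilin (S.vec ⟨a, S.Q_le (hXQ a.2)⟩ (hXQ a.2)) u = 0) →
      u ∈ LinearMap.BilinForm.orthogonal S.bilin W := by
    intro u hu v hv
    obtain ⟨a, ha⟩ := (hmem v).1 hv
    rw [show v = S.vec ⟨a, S.Q_le (hXQ a.2)⟩ (hXQ a.2) from
      (congrArg Multiplicative.toAdd ha).symm]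
    exact hu a
  have hle : W ≤ LinearMap.BilinForm.orthogonal S.bilin W := fun u hu => horth fun a => by
    obtain ⟨b, hb⟩ := (hmem u).1 hu
    rw [show u = S.vec ⟨b, S.Q_le (hXQ b.2)⟩ (hXQ b.2) from
      (congrArg Multiplicative.toAdd hb).symm, S.bilin_vec, beta, if_pos]
    exact hcomm a a.2 b b.2
  have heq : W = LinearMap.BilinForm.orthogonal S.bilin W := by
    refine Submodule.eq_of_le_of_finrank_eq hle ?_
    rw [LinearMap.BilinForm.finrank_orthogonal hnd, S.finrank_V, hW]
  have hyW : S.vec ⟨y, S.Q_le hy⟩ hy ∈ W := heq ▸ horth fun a => by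
    rw [S.bilin_vec, beta, if_pos (hyX a a.2).symm]
  obtain ⟨a, ha⟩ := (hmem _).1 hyW
  have hz := (S.vec_eq (q := ⟨a.1, S.Q_le (hXQ a.2)⟩) (r := ⟨y, S.Q_le hy⟩) (hq := hXQ a.2)
    (hr := hy)).1 (congrArg Multiplicative.toAdd ha)
  have := mul_mem a.2 (zpowers_le.2 ht hz)
  rwa [mul_inv_cancel_left] at this

/-- **No fixed elementary subgroup of order 32.** -/
theorem noFixed : S.NoFixed := by
  intro X hXQ ht hX hsq hcomm H hH hfix
  obtain ⟨g0, hg0⟩ := Shape.exists_conj_std _ hH
  obtain ⟨h, hh, he⟩ := (hg0 (Shape.sJ (true, true, true))).1 (Shape.sJ_std _)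
  have hne : ∀ σ s : Equiv.Perm (Fin 3), s ≠ 1 → σ * s * σ⁻¹ ≠ 1 := fun σ s hs e => hs (by
    have := congrArg (fun p => σ⁻¹ * p * σ) e
    simpa [mul_assoc] using this)
  have hsw : Equiv.swap (0 : Fin 3) 1 ≠ 1 := by decide
  obtain ⟨q, hq, hqt⟩ := S.mixed h (by
    rw [he, show g0 * Shape.sJ (true, true, true) * g0⁻¹ * (g0 * Shape.sJ (true, true, true) * g0⁻¹) =
      g0 * (Shape.sJ (true, true, true) * Shape.sJ (true, true, true)) * g0⁻¹ by group, Shape.sJ_sq,
      mul_one, mul_inv_cancel])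
    (by rw [he]; exact hne _ _ hsw) (by rw [he]; exact hne _ _ hsw) (by rw [he]; exact hne _ _ hsw)
  refine S.sh_t_ne ?_
  rw [← hqt]
  refine hsq _ (S.mem_of_commute hXQ ht hX hcomm (mul_mem (S.Q_normal _ h.2 _ hq) (inv_mem hq)) ?_)
  intro a ha
  have e : ∀ p r, p ∈ S.Q → r ∈ S.Q → (Commute p r ↔ beta p r = 0) := fun p r _ _ => by
    simp only [beta]; split <;> simp_all
  have haQ := hXQ ha
  have hcq := S.Q_normal _ h.2 _ hq
  rw [e _ _ (mul_mem hcq (inv_mem hq)) haQ, S.beta_mul hcq (inv_mem hq) haQ]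
  have h1 : beta (((h : G) * q * (h : G)⁻¹)) a = beta q a := by
    calc beta ((h : G) * q * (h : G)⁻¹) a = beta ((h : G) * q * (h : G)⁻¹) ((h : G) * a * (h : G)⁻¹) := by
          rw [beta_symm, beta_symm _ ((h : G) * a * (h : G)⁻¹)]
          refine S.beta_congr ?_ (S.Q_le hcq)
          have hz := hfix h hh a ha
          rcases S.mem_tz hz with e' | e' <;> rw [mul_inv_eq_iff_eq_mul] at e' <;> rw [e']
          · simp
          · rw [← S.central (S.Q_le haQ) (mem_zpowers S.t)]
            simp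
      _ = beta q a := if_congr (Commute.conj_iff _) rfl rfl
  rw [h1, show beta q⁻¹ a = beta q a from if_congr Commute.inv_left_iff rfl rfl,
    Shape.zmod_two_add_self]

/-- **The tensor shape.** -/
theorem tensorOf : S.TensorOf := by
  intro x hx hx2 hx1 hxt X hXQ ht hxX hXc hsq hcomm H hH hHx _ hperp hstab
  obtain ⟨g0, hg0⟩ := Shape.exists_conj_std _ hH
  set xc : S.Ct := ⟨x, S.Q_le hx⟩ with hxc
  obtain ⟨v, hv⟩ : ∃ v, v = S.vec xc hx := ⟨_, rfl⟩
  set R := S.rep.twist g0 with hR
  have pure : R.Pure v := by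
    refine ⟨fun e => ?_, fun g hg => ?_, fun g hg => ?_, fun g hg w hw => ?_⟩
    · rw [hv, S.vec_eq_zero] at e
      rcases S.mem_tz e with e | e
      exacts [hx1 e, hxt e]
    · obtain ⟨h, hh, he⟩ := (hg0 g).1 hg
      rw [hR, Shape.Rep.twist_ρ, ← he, hv]
      show S.rho _ _ = _
      rw [S.rho_vec, S.vec_eq]
      simp only [hxc, coe_mul, coe_inv]
      rw [hHx h hh, mul_inv_cancel_right, inv_mul_cancel]
      exact one_mem _
    · obtain ⟨c, hc⟩ := S.proj_surj (g0 * g * g0⁻¹)
      rw [hR, Shape.Rep.twist_ρ, ← hc, hv] at hg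
      replace hg : S.vec (c * xc * c⁻¹) (S.sh_conj_mem hx) = S.vec xc hx := (S.rho_vec c xc hx).symm.trans hg
      rw [S.vec_eq] at hg
      rw [hg0, ← hc]
      refine hstab c ?_
      rcases S.mem_tz hg with e | e
      · exact Or.inl (by simpa using inv_mul_eq_one.1 e)
      · right
        rw [inv_mul_eq_iff_eq_mul] at e
        calc (c : G) * x * (c : G)⁻¹ = (c : G) * x * (c : G)⁻¹ * (S.t * S.t) := by rw [S.sh_t_sq, mul_one]
          _ = x * S.t := by rw [← mul_assoc]; simp only [hxc, coe_mul, coe_inv] at e; rw [← e]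
    · obtain ⟨h, hh, he⟩ := (hg0 g).1 hg
      obtain ⟨q, hq, rfl⟩ := S.exists_vec w
      rw [hR, Shape.Rep.twist_ρ, ← he]
      show S.bilin _ (S.rho _ _) = 0
      have hqx : (q : G) * x = x * q := by
        change S.bilin _ v = 0 at hw
        rw [hv, S.bilin_vec, beta] at hw
        by_contra hn
        rw [if_neg (show ¬ Commute (q : G) (xc : G) from hn)] at hw
        exact one_ne_zero hw
      have h1 := hsq _ (hperp h hh q hq hqx)
      rw [S.comm_sq_form h q hq] at h1
      by_contra hn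
      rw [if_neg hn] at h1
      exact S.sh_t_ne h1
  obtain ⟨s, hs⟩ := S.exists_section g0 fun u hu => Shape.Rep.fixed_eq_zero pure hu
  choose lift hlift using fun i : ℕ => QuotientGroup.mk_surjective (s (Shape.gen i))
  let fC : ℕ → S.Ct := fun i => if i = 6 then xc else lift i
  have h6 : fC 6 = xc := if_pos rfl
  have hmk : ∀ i, i ≠ 6 → (QuotientGroup.mk (fC i) : S.Bar) = s (Shape.gen i) := fun i hi => by
    simp only [fC, if_neg hi, hlift]
  have hsv : ∀ g u, s g * S.iota u = S.iota (R.ρ g u) * s g := fun g u => by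
    have := S.iota_conj g0 (s g) u
    rw [hs g] at this
    rw [← this, inv_mul_cancel_right]
  -- the value of a word modulo `t`
  have hword : ∀ r : List ℕ, (QuotientGroup.mk (wprod fC r) : S.Bar) =
      S.iota (((Shape.eval r).1.map fun g => R.ρ g v).sum) * s (Shape.eval r).2 := by
    intro r
    induction r with
    | nil => simp [wprod, Shape.eval, S.iota_zero]
    | cons i r ih =>
      rw [show wprod fC (i :: r) = fC i * wprod fC r from List.prod_cons, QuotientGroup.mk_mul, ih,
        Shape.eval]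
      by_cases hi : i = 6
      · subst hi
        simp only [if_true, List.map_cons, List.sum_cons, map_one, Module.End.one_apply, S.iota_add,
          ← mul_assoc]
        rw [h6, hv, S.iota_vec]
      · rw [if_neg hi, hmk i hi, ← mul_assoc, hsv, map_list_sum, List.map_map, List.map_map, map_mul,
          mul_assoc]
        simp [Function.comp_def]
  have hcoe : ∀ r : List ℕ, wprod (fun i => (fC i : G)) r = ((wprod fC r : S.Ct) : G) := by
    intro r
    induction r with
    | nil => rfl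
    | cons i r ih =>
      show (fC i : G) * wprod (fun i => (fC i : G)) r = _
      rw [ih]
      rfl
  have hz : wprod (fun i => (fC i : G)) zWord = S.t := by
    set w := fC 3 * fC 4 * fC 5 with hw
    set w' := fC 5 * fC 4 * fC 3 with hw'
    have hp : S.proj w = g0 * (Shape.gen 3 * Shape.gen 4 * Shape.gen 5) * g0⁻¹ := by
      have h1 : S.piT g0 (QuotientGroup.mk w) = Shape.gen 3 * Shape.gen 4 * Shape.gen 5 := by
        rw [hw, QuotientGroup.mk_mul, QuotientGroup.mk_mul, hmk 3 (by norm_num), hmk 4 (by norm_num),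
          hmk 5 (by norm_num), map_mul, map_mul, hs, hs, hs]
      rw [← h1]
      simp [piT, projBar_mk, mul_assoc]
    have hz' : ((w * w' : S.Ct) : G) ∈ zpowers S.t := by
      rw [← S.mem_zC, ← QuotientGroup.eq_one_iff, hw, hw']
      simp only [QuotientGroup.mk_mul, hmk 3 (by norm_num), hmk 4 (by norm_num), hmk 5 (by norm_num),
        ← map_mul, Shape.gen_opp, map_one]
    have hB : S.bilin (S.vec xc hx) (S.rho (S.proj w) (S.vec xc hx)) = 1 := by
      rw [← hv, hp]
      show R.B v (R.ρ _ v) = 1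
      rw [Shape.Rep.ρ_eq pure, Shape.gen_move]
      exact Shape.Rep.B_opposite pure
    have hsq' := S.comm_sq_form w xc hx
    rw [hB, if_neg one_ne_zero] at hsq'
    simp only [hxc] at hsq'
    have hxinv : x⁻¹ = x := inv_eq_of_mul_eq_one_right hx2
    rw [hxinv] at hsq'
    obtain ⟨z, hz2⟩ : ∃ z, z = ((w * w' : S.Ct) : G) := ⟨_, rfl⟩
    rw [← hz2] at hz'
    have hww : ((w' : S.Ct) : G) = (w : G)⁻¹ * z := by
      rw [hz2, show ((w * w' : S.Ct) : G) = (w : G) * (w' : G) from rfl, inv_mul_cancel_left]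
    obtain ⟨y, hy⟩ : ∃ y, y = (w : G) * x * (w : G)⁻¹ := ⟨_, rfl⟩
    rw [← hy] at hsq'
    have hyc : y ∈ S.Ct := hy ▸ mul_mem (mul_mem w.2 (S.Q_le hx)) (inv_mem w.2)
    have hzz : z * z = 1 := by
      rcases S.mem_tz hz' with e | e <;> rw [e]
      exacts [one_mul _, S.sh_t_sq]
    calc wprod (fun i => (fC i : G)) zWord
        = x * ((w : G) * x * (w' : G)) * x * ((w : G) * x * (w' : G)) := by
          simp [wprod, zWord, h6, hw, hw', hxc, mul_assoc]
      _ = x * (y * z) * x * (y * z) := by rw [hww, hy]; group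
      _ = x * y * x * y * (z * z) := by
          rw [← mul_assoc x y z, mul_assoc (x * y) z x, ← S.central (S.Q_le hx) hz', ← mul_assoc (x * y) x z,
            mul_assoc (x * y * x) z (y * z), ← mul_assoc z y z, ← S.central hyc hz', mul_assoc y z z]
          group
      _ = x * (y * x * (y * x)) * x⁻¹ := by rw [hzz]; group
      _ = S.t := by rw [hsq', S.central (S.Q_le hx) (mem_zpowers _), mul_inv_cancel_right]
  refine ⟨fun i => (fC i : G), ⟨?_, ?_, hz, fun r hr => ?_⟩, by show (fC 6 : G) = x; rw [h6]⟩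
  · -- generation
    set D := closure ((fun i => (fC i : G)) '' Set.Iio 7) with hD
    have hDle : D ≤ S.Ct := (closure_le _).2 (by rintro _ ⟨i, -, rfl⟩; exact (fC i).2)
    have hfD : ∀ i < 7, (fC i : G) ∈ D := fun i hi => subset_closure ⟨i, hi, rfl⟩
    have htD : S.t ∈ D := by
      rw [← hz]
      refine list_prod_mem ?_
      intro a ha
      obtain ⟨i, hi, rfl⟩ := List.mem_map.1 ha
      refine hfD i ?_
      simp only [zWord, List.mem_cons, List.not_mem_nil, or_false] at hi
      omega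
    set M := (D.subgroupOf S.Ct).map (QuotientGroup.mk' S.zC) with hM
    have hmM : ∀ i < 7, (QuotientGroup.mk (fC i) : S.Bar) ∈ M := fun i hi =>
      mem_map_of_mem _ (mem_subgroupOf.2 (hfD i hi))
    have hsM : ∀ g, s g ∈ M := by
      intro g
      have hle : closure (Shape.gen '' Set.Iio 6) ≤ M.comap s := (closure_le _).2 (by
        rintro _ ⟨i, hi, rfl⟩
        show s (Shape.gen i) ∈ M
        have hi' : i < 6 := hi
        rw [← hmk i (by omega)]
        exact hmM i (by omega))
      exact hle (Shape.gen_generate g)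
    have hiM : ∀ u, S.iota u ∈ M := by
      intro u
      have hu : u ∈ Submodule.span (ZMod 2) (Set.range fun a => R.e a v) := by
        rw [Shape.Rep.span_orbit pure]; trivial
      induction hu using Submodule.span_induction with
      | mem y hy =>
        obtain ⟨a, rfl⟩ := hy
        have := mul_mem (mul_mem (hsM (Shape.emb a)) (h6 ▸ hmM 6 (by norm_num) :
          (QuotientGroup.mk xc : S.Bar) ∈ M)) (inv_mem (hsM (Shape.emb a)))
        rwa [← S.iota_vec (q := xc) hx, ← hv, hsv, mul_inv_cancel_right] at this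
      | zero => rw [S.iota_zero]; exact one_mem M
      | add a b _ _ ha hb => rw [S.iota_add]; exact mul_mem ha hb
      | smul k a _ ha =>
        have : k = 0 ∨ k = 1 := by revert k; decide
        rcases this with rfl | rfl
        · rw [zero_smul, S.iota_zero]; exact one_mem M
        · rwa [one_smul]
    refine le_antisymm hDle fun c hc => ?_
    obtain ⟨u, hu⟩ : ∃ u : S.V, S.iota u =
        (QuotientGroup.mk (⟨c, hc⟩ : S.Ct) : S.Bar) * (s (S.piT g0 (QuotientGroup.mk (⟨c, hc⟩ : S.Ct))))⁻¹ :=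
      ⟨Additive.ofMul ⟨_, by
        rw [← S.piT_ker g0, MonoidHom.mem_ker, map_mul, map_inv, hs, mul_inv_cancel]⟩, rfl⟩
    have hcM := mul_mem (hiM u) (hsM (S.piT g0 (QuotientGroup.mk (⟨c, hc⟩ : S.Ct))))
    rw [hu, inv_mul_cancel_right] at hcM
    obtain ⟨d, hd, hde⟩ := mem_map.1 hcM
    rw [QuotientGroup.mk'_apply, QuotientGroup.eq, S.mem_zC] at hde
    rw [mem_subgroupOf] at hd
    have := mul_mem hd ((zpowers_le.2 htD) hde)
    simpa using this
  · show (fC 6 : G) ∈ S.Q
    rw [h6]; exact hx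
  · obtain ⟨e2, eJ⟩ := Shape.relsC_eval r hr
    rw [hcoe, ← S.mem_zC, ← QuotientGroup.eq_one_iff, hword, e2, map_one, mul_one,
      Shape.Rep.sum_eq_zero_of_coef pure eJ, S.iota_zero]

end Setup

end CfsgLib.Recog.OEightCent
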