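import Cfsg.Agent.Lib.Recog.OEightCent.SwapBraid

/-!
**The amalgam**: in a chart with fusion there is an involution exchanging `t` with the pure lift and satisfying the
relators of the model.
-/

set_option autoImplicit false
set_option maxRecDepth 100000
set_option linter.unusedSectionVars false

namespace CfsgLib.Recog.OEightCent.Swap

open SwapData

variable {G : Type*} [Group G] {S : Setup G}

/-- An involution acting exactly as the standard one. -/
theorem exists_exchange [Finite G] {f : ℕ → G} (hC : S.Chart f) {g : G} (hg : Swaps S f g) :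
    ∃ L < 8, ∃ g', Swaps S (tw f S.t L) g' ∧ g' * g' = 1 ∧ ∀ w : List ℕ, (∀ k ∈ w, k < 6) →
      g' * E (tw f S.t L) w * g' = E (tw f S.t L) (stdI w) := by
  obtain ⟨L, hL, g1, hg1, hform, hlow⟩ := exists_raising hC hg
  have hC' := chart_tw hC hL
  set f' := tw f S.t L with hf'
  have hstd := rigid hC' hg1 hform hlow
  have himg : ∀ k < 6, g1 * E f' [k] * g1⁻¹ = E f' (SW k) * E f' (cW (([] : List ℕ).getD k 0)) := fun k hk => by
    simp [hstd k hk, show E f' (cW 0) = 1 from rfl]
  have hword : ∀ (cc : List ℕ), cc = [] → ∀ w : List ℕ, cx cc w = 0 := fun cc hc w => by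
    subst hc
    induction w with
    | nil => rfl
    | cons k w ih => simp [cx, ih]
  have hw : ∀ w : List ℕ, (∀ k ∈ w, k < 6) → g1 * E f' w * g1⁻¹ = E f' (stdI w) := fun w hw => by
    rw [img_word hC' hg1 (cc := []) (by simp) himg w hw, hword [] rfl, show E f' (cW 0) = 1 from rfl, mul_one]
  have hgg : InT f' (g1 * g1) := by
    refine inT_of_comm hC' (mul_inv_eq_iff_eq_mul.1 ?_) (mul_inv_eq_iff_eq_mul.1 ?_)
    · rw [show g1 * g1 * S.t * (g1 * g1)⁻¹ = g1 * (g1 * S.t * g1⁻¹) * g1⁻¹ by group, hg1.left, hg1.right]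
    · rw [show g1 * g1 * f' 6 * (g1 * g1)⁻¹ = g1 * (g1 * f' 6 * g1⁻¹) * g1⁻¹ by group, hg1.right, hg1.left]
  have hcom : ∀ k < 6, g1 * g1 * E f' [k] * (g1 * g1)⁻¹ * (E f' [k])⁻¹ = 1 := fun k hk => by
    rw [show g1 * g1 * E f' [k] * (g1 * g1)⁻¹ = g1 * (g1 * E f' [k] * g1⁻¹) * g1⁻¹ by group, hstd k hk,
      hw _ (fact_SW k hk).1, (E_iff hC').2 (fact_steps k hk).2.2.2.1, mul_inv_cancel]
  obtain ⟨a, ha, ⟨c, hc, he⟩, hav⟩ := central_inner hC' hgg fun k hk => by
    rw [hcom k hk]; exact ⟨0, by norm_num, rfl⟩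
  have ha0 : a = 0 := fact_innzero a ha fun k hk => by
    refine c_inj hC' (by unfold innV; split <;> split <;> norm_num) (by norm_num) ?_
    rw [← hav k (by omega), hcom k (by omega)]
    rfl
  rw [ha0, show wW 0 = [] from rfl, E_nil, one_mul] at he
  have hfix : swC c = c := by
    refine c_inj hC' (fact_trans c hc).2.2.1 hc ?_
    have := img_Z hC' hg1 hc
    rw [← he, show g1 * (g1 * g1) * g1⁻¹ = g1 * g1 by group, he] at this
    exact this.symm
  rcases fact_swfix c hc hfix with rfl | rfl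
  · have h1 : g1 * g1 = 1 := he
    refine ⟨L, hL, g1, hg1, h1, fun w hw' => ?_⟩
    have := hw w hw'
    rwa [inv_eq_of_mul_eq_one_right h1] at this
  · have ht2 := t_mul_self S
    have hgt : g1 * S.t = f' 6 * g1 := mul_inv_eq_iff_eq_mul.1 hg1.left
    have h3 : E f' (cW 3) = S.t * f' 6 := by
      rw [← E_c1 hC', ← E_c2 hC', ← E_append]
      exact ((E_iff hC').2 (fact_cmul 1 (by norm_num) 2 (by norm_num))).symm
    have h1 : S.t * g1 * (S.t * g1) = 1 := by
      rw [show S.t * g1 * (S.t * g1) = S.t * (g1 * S.t) * g1 by group, hgt,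
        show S.t * (f' 6 * g1) * g1 = S.t * f' 6 * (g1 * g1) by group, he, ← h3, c_mul hC' (by norm_num) (by norm_num)]
      rfl
    have hTt : InT f' S.t := ⟨cW 1, low_cW 1, (E_c1 hC').symm⟩
    refine ⟨L, hL, S.t * g1, Swaps.left_mul hC' hg1 hTt, h1, fun w hw' => ?_⟩
    have e : S.t * g1 * E f' w * (S.t * g1)⁻¹ = E f' (stdI w) := by
      rw [show S.t * g1 * E f' w * (S.t * g1)⁻¹ = S.t * (g1 * E f' w * g1⁻¹) * S.t⁻¹ by group, hw w hw',
        ← E_c1 hC', c_comm hC' (by norm_num) (stdI_low hw'), mul_inv_cancel_right]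
    rwa [inv_eq_of_mul_eq_one_right h1] at e

end Swap

open SwapData Swap in
/-- **The amalgam.** -/
theorem Setup.amalgam {G : Type*} [Group G] (S : Setup G) [Finite G] {f : ℕ → G} (hC : S.Chart f)
    (hF : S.Fused f) : ∃ f', S.Amalgam f' := by
  obtain ⟨g0, h1, h2⟩ := hF.swap
  obtain ⟨L, hL, g, hg, hgg, himg⟩ := exists_exchange hC (g := g0) ⟨h1, h2⟩
  have hC1 := chart_tw hC hL
  have hF1 := fused_tw (S := S) hF L
  set f1 := tw f S.t L
  let f2 : ℕ → G := fun k => if k = 7 then g else f1 k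
  have hlow : ∀ v : List ℕ, (∀ x ∈ v, x < 7) → wprod f2 v = wprod f1 v := fun v hv =>
    congrArg List.prod (List.map_congr_left fun x hx => if_neg (by have := hv x hx; omega))
  have h7 : f2 7 = g := if_pos rfl
  have h6 : f2 6 = f1 6 := if_neg (by norm_num)
  have hginv : g⁻¹ = g := inv_eq_of_mul_eq_one_right hgg
  have hchart : S.Chart f2 := by
    refine ⟨?_, h6 ▸ hC1.mem_Q, by rw [hlow _ letters_ok.2.2.1]; exact hC1.zword, fun r hr => ?_⟩
    · rw [← hC1.gen]
      refine congrArg Subgroup.closure (Set.image_congr fun x hx => if_neg ?_)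
      have : x < 7 := hx
      omega
    · rw [hlow r (letters_ok.1 r hr)]; exact hC1.rels r hr
  refine ⟨f2, hchart, ⟨by rw [h6]; exact hF1.swap, by rw [h6]; exact hF1.pure⟩, fun r hr => ?_, ?_, fun i hi => ?_⟩
  · rw [fact_relsS] at hr
    rcases List.mem_cons.1 hr with rfl | hr
    · simpa [wprod, h7] using hgg
    · obtain ⟨k, hk, rfl⟩ := List.mem_map.1 hr
      obtain ⟨e1, e2, l1, l2, l3⟩ := fact_gens k (List.mem_range.1 hk)
      rw [show wprod f2 (7 :: gensV.getD k [] ++ 7 :: restW.getD k []) =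
        g * wprod f2 (gensV.getD k []) * g * wprod f2 (restW.getD k []) by simp [wprod, h7, mul_assoc],
        hlow _ l1, hlow _ l2, ← (E_word hC1 l1).2 e1, himg _ l3]
      have := (hC1.word_iff (v := exp (stdI (g10W.getD k [])) ++ restW.getD k []) (w := [])
        (fun x hx => (List.mem_append.1 hx).elim (exp_low _ x) (l2 x)) (by simp)).2 e2
      simpa [wprod, Swap.E] using this
  · rw [h7, h6]
    have := hg.left
    rwa [hginv] at this
  -- the residues
  obtain ⟨hB, hBt, hBx, hss, hsl, hul⟩ := fact_base i hi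
  have hb : wprod f2 [7, i, i + 3, i, 7, i, i + 3, i, 7, i, i + 3, i] =
      g * wprod f1 (sL i) * (g * wprod f1 (sL i)) * (g * wprod f1 (sL i)) := by
    rw [← hlow _ hsl]
    simp [wprod, sL, h7, mul_assoc]
  rw [hb, hlow _ hul]
  set s := wprod f1 (sL i) with hs
  have hsinv : s⁻¹ = s := inv_eq_of_mul_eq_one_right (by
    have := (hC1.word_iff (v := sL i ++ sL i) (w := [])
      (fun x hx => (List.mem_append.1 hx).elim (hsl x) (hsl x)) (by simp)).2 hss
    simpa [wprod, hs] using this)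
  set w := g * s with hwdef
  have hstep : ∀ j < 9, ∀ m < 3,
      w * Swap.E f1 (bT i j (2 * m)) * w⁻¹ = Swap.E f1 (bT i j (if m < 2 then 2 * m + 2 else 0)) := by
    intro j hj m hm
    obtain ⟨e1, e2, -, l⟩ := fact_bT i hi j hj m hm
    have h := (hC1.word_iff (v := sL i ++ exp (bT i j (2 * m)) ++ sL i) (w := exp (bT i j (2 * m + 1))) (fun x hx => by
      simp only [List.mem_append] at hx
      rcases hx with (hx | hx) | hx
      exacts [hsl x hx, exp_low _ x hx, hsl x hx]) (exp_low _)).2 e1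
    rw [hwdef, mul_inv_rev, hginv, hsinv, ← (E_iff hC1).2 e2, ← himg _ l]
    have h' : s * Swap.E f1 (bT i j (2 * m)) * s = Swap.E f1 (bT i j (2 * m + 1)) := by
      simpa [wprod, Swap.E, hs, mul_assoc] using h
    rw [← h']
    simp only [mul_assoc]
  have hfix : ∀ j < 9, w * w * w * Swap.E f1 (bT i j 0) = Swap.E f1 (bT i j 0) * (w * w * w) := by
    intro j hj
    refine mul_inv_eq_iff_eq_mul.1 ?_
    have s0 := hstep j hj 0 (by norm_num)
    have s1 := hstep j hj 1 (by norm_num)
    have s2 := hstep j hj 2 (by norm_num)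
    simp only [show 2 * 0 = 0 from rfl, show 2 * 1 = 2 from rfl, show 2 * 2 = 4 from rfl, show (0:ℕ) < 2 by norm_num,
      show (1:ℕ) < 2 by norm_num, show ¬ (2:ℕ) < 2 by norm_num, if_true, if_false] at s0 s1 s2
    rw [show w * w * w * Swap.E f1 (bT i j 0) * (w * w * w)⁻¹ =
      w * (w * (w * Swap.E f1 (bT i j 0) * w⁻¹) * w⁻¹) * w⁻¹ by group, s0, s1, s2]
  set k := w * w * w with hk
  have hkT : InT f1 k := by
    refine inT_of_comm hC1 ?_ ?_
    · rw [← E_t hC1, ← hBt]; exact hfix 7 (by norm_num)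
    · rw [← E_x hC1, ← hBx]; exact hfix 8 (by norm_num)
  obtain ⟨p, r, hp, hr, a, ha, c, hc, hke⟩ := cl_of_inT hC1 hkT
  have hW : InW f1 (Swap.E f1 (wW a ++ cW c)) := ⟨a, ha, c, hc, rfl⟩
  have hsplit : k = Swap.E f1 (pW p ++ uW r) * Swap.E f1 (wW a ++ cW c) := by
    rw [hke, ← E_append, el, List.append_assoc]
  have hv : ∀ j < 4, InT f1 (Swap.E f1 (bT i j 0)) := fun j hj =>
    inT_E (fact_bT i hi j (by omega) 0 (by norm_num)).2.2.1
  have hpr : p = 0 ∧ r = 0 := by
    refine fact_cent_class i hi p hp r hr fun j hj => to_zCodes hC1 ?_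
    have hA : InT f1 (Swap.E f1 (pW p ++ uW r)) :=
      inT_E fun x hx => (List.mem_append.1 hx).elim (low_pW p x) (low_uW r x)
    have z1 := w_conj hC1 (hv j hj) hW
    set A := Swap.E f1 (pW p ++ uW r) with hAdef
    set V := Swap.E f1 (bT i j 0) with hVdef
    set W := Swap.E f1 (wW a ++ cW c) with hWdef
    have e := hfix j (by omega)
    rw [← hVdef, hsplit] at e
    have e' : A * V * A⁻¹ * V⁻¹ = V * W * V⁻¹ * W⁻¹ := by
      set Z := V * W * V⁻¹ * W⁻¹ with hZ
      have hWV : W * V = Z⁻¹ * V * W := by rw [hZ]; group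
      have hzA := z_comm hC1 (show InZ f1 Z⁻¹ by rw [z_inv hC1 z1]; exact z1) hA
      have h2 : V * A = Z⁻¹ * (A * V) := by
        refine mul_right_cancel (b := W) ?_
        calc V * A * W = V * (A * W) := by group
          _ = A * W * V := e.symm
          _ = A * (Z⁻¹ * V * W) := by rw [mul_assoc, hWV]
          _ = A * Z⁻¹ * (V * W) := by group
          _ = Z⁻¹ * A * (V * W) := by rw [hzA]
          _ = Z⁻¹ * (A * V) * W := by group
      rw [show A * V * A⁻¹ * V⁻¹ = A * V * (V * A)⁻¹ by group, h2]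
      group
    rw [E_cm hC1, ← hAdef, ← hVdef, e']
    exact z1
  obtain ⟨rfl, rfl⟩ := hpr
  have hkW : k = Swap.E f1 (wW a ++ cW c) := by rw [hsplit]; simp [pW, uW, E_nil]
  have hcomm : ∀ j < 4, cs (cm (wW a) (bT i j 0)) = cs [] := by
    intro j hj
    refine (E_iff hC1).1 ?_
    have e := hfix j (by omega)
    rw [hkW, E_append] at e
    have hcv := z_comm hC1 ⟨c, hc, rfl⟩ (hv j hj)
    rw [mul_assoc, hcv, ← mul_assoc, ← mul_assoc] at e
    rw [E_cm hC1, mul_right_cancel e, mul_inv_cancel_right, mul_inv_cancel, E_nil]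
  have hs0 : ∀ j < 9, w * Swap.E f1 (bT i j 0) * w⁻¹ = Swap.E f1 (bT i j 2) := fun j hj => by
    simpa using hstep j hj 0 (by norm_num)
  have hwfix : w * Swap.E f1 (wW a ++ cW c) * w⁻¹ = Swap.E f1 (wimg i a c) := by
    have key : ∀ M : List ℕ, (∀ x ∈ M, x < 3) → w * Swap.E f1 (M.flatMap fun x => wB.getD x []) * w⁻¹ =
        Swap.E f1 (M.flatMap fun x => bT i (4 + x) 2) := by
      intro M
      induction M with
      | nil => intro _; simp [E_nil]
      | cons x M ih =>
        intro hM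
        have hx := hM x List.mem_cons_self
        rw [List.flatMap_cons, List.flatMap_cons, E_append, E_append, conj_prod,
          ih fun y hy => hM y (List.mem_cons_of_mem _ hy), ← hB x hx, hs0 (4 + x) (by omega)]
    rw [E_append, conj_prod, show Swap.E f1 (wW a) = Swap.E f1 ((pW a).flatMap fun x => wB.getD x []) from rfl,
      key (pW a) (fun x hx => by simp [pW] at hx; omega), cW, E_append, conj_prod, wimg, E_append, E_append, ← mul_assoc]
    have et : w * Swap.E f1 (if c.testBit 0 then tW else []) * w⁻¹ =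
        Swap.E f1 (if c.testBit 0 then bT i 7 2 else []) := by
      split
      · rw [← hBt]; exact hs0 7 (by norm_num)
      · simp [E_nil]
    have ex : w * Swap.E f1 (if c.testBit 1 then xW else []) * w⁻¹ =
        Swap.E f1 (if c.testBit 1 then bT i 8 2 else []) := by
      split
      · rw [← hBx]; exact hs0 8 (by norm_num)
      · simp [E_nil]
    rw [et, ex]
  have hcs : cs (wimg i a c) = cs (wW a ++ cW c) := by
    refine (E_iff hC1).1 ?_
    rw [← hwfix, ← hkW, hk]
    group
  rcases List.mem_cons.1 (fact_fixed i hi a ha c hc hcs hcomm) with e | e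
  · exact Or.inl (by rw [hkW, (E_iff hC1).2 e, E_nil])
  · exact Or.inr (by rw [hkW, (E_word hC1 hul).2 (List.mem_singleton.1 e)])

end CfsgLib.Recog.OEightCent
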