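import Cfsg.Agent.Lib.Recog.OEightCent.SwapExact

/-!
Facts on coded words for the relators of the exchanging involution and the rank two residues.
-/

set_option autoImplicit false
set_option maxRecDepth 100000
set_option Elab.async false
set_option synthInstance.maxSize 600

namespace CfsgLib.Recog.OEightCent.Swap

open SwapData

/-- The Levi involution of a residue. -/
def sL (i : ℕ) : List ℕ := [i, i + 3, i]

/-- The table of the residues. -/
def bT (i j s : ℕ) : List ℕ := ((braidT.getD i []).getD j []).getD s []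

/-- The image of a member of the commutator subgroup in a residue. -/
def wimg (i a c : ℕ) : List ℕ :=
  ((pW a).flatMap fun k => bT i (4 + k) 2) ++ (if c.testBit 0 then bT i 7 2 else []) ++
    (if c.testBit 1 then bT i 8 2 else [])

theorem fact_relsS : relsS = [7, 7] :: (List.range 10).map fun i =>
    7 :: gensV.getD i [] ++ 7 :: restW.getD i [] := by
  decide +kernel

theorem fact_gens : ∀ i < 10, cs (g10W.getD i []) = cd (gensV.getD i []) ∧
    cd (exp (stdI (g10W.getD i [])) ++ restW.getD i []) = cd [] ∧ (∀ x ∈ gensV.getD i [], x < 7) ∧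
      (∀ x ∈ restW.getD i [], x < 7) ∧ ∀ x ∈ g10W.getD i [], x < 6 := by
  decide +kernel

theorem fact_bT : ∀ i < 3, ∀ j < 9, ∀ s < 3,
    cd (sL i ++ exp (bT i j (2 * s)) ++ sL i) = cs (bT i j (2 * s + 1)) ∧
    cs (stdI (bT i j (2 * s + 1))) = cs (bT i j (if s < 2 then 2 * s + 2 else 0)) ∧
      (∀ x ∈ bT i j (2 * s), x < 6) ∧ ∀ x ∈ bT i j (2 * s + 1), x < 6 := by
  decide +kernel

theorem fact_base : ∀ i < 3, (∀ k < 3, bT i (4 + k) 0 = wB.getD k []) ∧ bT i 7 0 = tW ∧ bT i 8 0 = xW ∧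
    cd (sL i ++ sL i) = cd [] ∧ (∀ x ∈ sL i, x < 7) ∧ ∀ x ∈ uWords.getD i [], x < 7 := by
  decide +kernel

theorem fact_cent_class : ∀ i < 3, ∀ p < 8, ∀ r < 8,
    (∀ j < 4, cs (cm (pW p ++ uW r) (bT i j 0)) ∈ zCodes) → p = 0 ∧ r = 0 := by
  decide +kernel

theorem fact_fixed : ∀ i < 3, ∀ a < 8, ∀ c < 4,
    cs (wimg i a c) = cs (wW a ++ cW c) → (∀ j < 4, cs (cm (wW a) (bT i j 0)) = cs []) →
      cs (wW a ++ cW c) ∈ [cs [], cd (uWords.getD i [])] := by
  decide +kernel

end CfsgLib.Recog.OEightCent.Swap
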