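import Cfsg.Agent.Lib.Recog.OEightCent.SwapGroup

/-!
Classes modulo the commutator subgroup, and the whole of the centralizer of `t` and the pure lift.
-/

set_option autoImplicit false
set_option maxRecDepth 100000

namespace CfsgLib.Recog.OEightCent.Swap

open SwapData

theorem cls_append : ∀ v w : List ℕ,
    cls (v ++ w) = ((cls v).1 ^^^ (cls w).1, (cls v).2 ^^^ (cls w).2)
  | [], w => by simp [cls]
  | k :: v, w => by simp [cls, cls_append v w, Nat.xor_assoc]

theorem cls_el {p r a c : ℕ} (hp : p < 8) (hr : r < 8) (ha : a < 8) (hc : c < 4) : cls (el p r a c) = (p, r) := by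
  rw [el, cls_append, cls_append, fact_clsw a ha, fact_clsc c hc, (fact_pu p hp r hr).1]
  simp

theorem cls_reverse : ∀ w : List ℕ, cls w.reverse = cls w
  | [] => rfl
  | k :: w => by
    rw [List.reverse_cons, cls_append, cls_reverse w]
    simp only [cls, Nat.xor_zero]
    exact Prod.ext (Nat.xor_comm _ _) (Nat.xor_comm _ _)

theorem cls_lt : ∀ w : List ℕ, (cls w).1 < 8 ∧ (cls w).2 < 8
  | [] => ⟨by norm_num [cls], by norm_num [cls]⟩
  | k :: w => by
    have h : (cl k).1 < 8 ∧ (cl k).2 < 8 := by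
      by_cases h3 : k < 3
      · simp only [cl, h3, if_true]
        exact ⟨by interval_cases k <;> norm_num, by norm_num⟩
      · by_cases h6 : k < 6
        · simp only [cl, h3, h6, if_true, if_false]
          exact ⟨by norm_num, by interval_cases k <;> norm_num⟩
        · simp [cl, h3, h6]
    exact ⟨Nat.xor_lt_two_pow (n := 3) h.1 (cls_lt w).1, Nat.xor_lt_two_pow (n := 3) h.2 (cls_lt w).2⟩

variable {G : Type*} [Group G] {S : Setup G} {f : ℕ → G} [Finite G] (hC : S.Chart f)
include hC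

omit [Finite G] hC in
theorem cl_inT {h : G} {p r : ℕ} (hh : Cl f h p r) : InT f h := by
  obtain ⟨-, -, a, -, c, -, rfl⟩ := hh
  exact inT_E (low_el p r a c)

theorem cl_of_inT {h : G} (hh : InT f h) : ∃ p r, Cl f h p r := by
  obtain ⟨w, hw, rfl⟩ := hh
  exact ⟨_, _, exists_cl hC w hw⟩

theorem cl_mul {g h : G} {p r p' r' : ℕ} (hg : Cl f g p r) (hh : Cl f h p' r') :
    Cl f (g * h) (p ^^^ p') (r ^^^ r') := by
  obtain ⟨hp, hr, a, ha, c, hc, rfl⟩ := hg
  obtain ⟨hp', hr', b, hb, d, hd, rfl⟩ := hh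
  have := exists_cl hC (el p r a c ++ el p' r' b d)
    fun k hk => (List.mem_append.1 hk).elim (low_el p r a c k) (low_el p' r' b d k)
  rwa [cls_append, cls_el hp hr ha hc, cls_el hp' hr' hb hd, E_append] at this

theorem cl_inv {g : G} {p r : ℕ} (hg : Cl f g p r) : Cl f g⁻¹ p r := by
  obtain ⟨hp, hr, a, ha, c, hc, rfl⟩ := hg
  have := exists_cl hC (el p r a c).reverse fun k hk => low_el p r a c k (List.mem_reverse.1 hk)
  rwa [cls_reverse, cls_el hp hr ha hc, E_rev hC] at this

theorem cl_unique {g : G} {p r p' r' : ℕ} (hg : Cl f g p r) (hg' : Cl f g p' r') : p = p' ∧ r = r' := by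
  have h := cl_mul hC hg (cl_inv hC hg')
  rw [mul_inv_cancel] at h
  obtain ⟨e1, e2⟩ := cl_unique_one hC h
  exact ⟨Nat.xor_eq_zero_iff.1 e1, Nat.xor_eq_zero_iff.1 e2⟩

omit [Finite G] hC in
theorem cl_of_inW {w : G} (hw : InW f w) : Cl f w 0 0 := by
  obtain ⟨a, ha, c, hc, rfl⟩ := hw
  exact ⟨by norm_num, by norm_num, a, ha, c, hc, rfl⟩

omit [Finite G] hC in
theorem inW_of_cl {w : G} (hw : Cl f w 0 0) : InW f w := by
  obtain ⟨-, -, a, ha, c, hc, rfl⟩ := hw
  exact ⟨a, ha, c, hc, rfl⟩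

/-- A commutator lies in the commutator subgroup. -/
theorem comm_inW {g h : G} (hg : InT f g) (hh : InT f h) : InW f (g * h * g⁻¹ * h⁻¹) := by
  obtain ⟨p, r, hp⟩ := cl_of_inT hC hg
  obtain ⟨p', r', hp'⟩ := cl_of_inT hC hh
  have := cl_mul hC (cl_mul hC (cl_mul hC hp hp') (cl_inv hC hp)) (cl_inv hC hp')
  refine inW_of_cl ?_
  convert this using 1
  · rw [Nat.xor_assoc p p' p, Nat.xor_comm p' p, ← Nat.xor_assoc, Nat.xor_self, Nat.zero_xor, Nat.xor_self]
  · rw [Nat.xor_assoc r r' r, Nat.xor_comm r' r, ← Nat.xor_assoc, Nat.xor_self, Nat.zero_xor, Nat.xor_self]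

omit [Finite G] hC in
/-- An element of a class is the product of its standard representative and a member of the commutator subgroup. -/
theorem cl_split {g : G} {p r : ℕ} (hg : Cl f g p r) : ∃ w, InW f w ∧ g = E f (pW p ++ uW r) * w := by
  obtain ⟨-, -, a, ha, c, hc, rfl⟩ := hg
  exact ⟨_, ⟨a, ha, c, hc, rfl⟩, by rw [← E_append, el, List.append_assoc]⟩

/-- Commutators with a member of the commutator subgroup only see the class. -/
theorem comm_class {g w : G} {p r : ℕ} (hg : Cl f g p r) (hw : InW f w) :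
    g * w * g⁻¹ * w⁻¹ = E f (pW p ++ uW r) * w * (E f (pW p ++ uW r))⁻¹ * w⁻¹ := by
  obtain ⟨v, hv, rfl⟩ := cl_split hg
  rw [mul_inv_rev, show ∀ A : G, A * v * w * (v⁻¹ * A⁻¹) = A * (v * w * v⁻¹) * A⁻¹ from fun A => by group,
    inW_comm hC hv hw, mul_inv_cancel_right]

omit [Finite G] in
theorem exists_word {h : G} (hh : h ∈ Subgroup.centralizer ({S.t} : Set G)) :
    ∃ v : List ℕ, (∀ x ∈ v, x < 7) ∧ h = wprod f v := by
  have hsq : ∀ x < 7, f x * f x = 1 := fun x hx => by
    simpa [wprod] using hC.rels [x, x] ((show ∀ x < 7, [x, x] ∈ relsC by decide +kernel) x hx)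
  rw [← hC.gen] at hh
  induction hh using Subgroup.closure_induction with
  | mem g hg => obtain ⟨k, hk, rfl⟩ := hg; exact ⟨[k], by simpa using hk, by simp [wprod]⟩
  | one => exact ⟨[], by simp, by simp [wprod]⟩
  | mul g k _ _ hg hk =>
    obtain ⟨v, hv, rfl⟩ := hg
    obtain ⟨u, hu, rfl⟩ := hk
    exact ⟨v ++ u, fun x hx => (List.mem_append.1 hx).elim (hv x) (hu x), by simp [wprod]⟩
  | inv g _ hg =>
    obtain ⟨v, hv, rfl⟩ := hg
    refine ⟨v.reverse, fun x hx => hv x (List.mem_reverse.1 hx), ?_⟩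
    clear * - hv hsq
    induction v with
    | nil => simp [wprod]
    | cons k v ih =>
      have hk := hv k List.mem_cons_self
      rw [show wprod f (k :: v) = f k * wprod f v by simp [wprod], mul_inv_rev,
        ih fun x hx => hv x (List.mem_cons_of_mem _ hx), inv_eq_of_mul_eq_one_right (hsq k hk)]
      simp [wprod]

/-- **What centralizes `t` and the pure lift is a word in the six generators.** -/
theorem inT_of_comm {h : G} (ht : h * S.t = S.t * h) (hx : h * f 6 = f 6 * h) : InT f h := by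
  obtain ⟨v, hv, rfl⟩ := exists_word hC (Subgroup.mem_centralizer_singleton_iff.2 ht)
  have hcos : ∃ w k, (∀ i ∈ w, i < 6) ∧ k < 54 ∧ wprod f v = E f w * wprod f (reps.getD k []) := by
    suffices key : ∀ v : List ℕ, (∀ x ∈ v, x < 7) →
        ∀ w k, (∀ i ∈ w, i < 6) → k < 54 → ∃ w' k', (∀ i ∈ w', i < 6) ∧ k' < 54 ∧
          E f w * wprod f (reps.getD k []) * wprod f v = E f w' * wprod f (reps.getD k' []) by
      obtain ⟨w', k', hw', hk', e'⟩ := key v hv [] 0 (by simp) (by norm_num)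
      refine ⟨w', k', hw', hk', ?_⟩
      rw [← e', E_nil, fact_reps.1, show wprod f [] = 1 from rfl, one_mul, one_mul]
    intro v
    induction v with
    | nil => intro _ w k hw hk; exact ⟨w, k, hw, hk, by simp [wprod]⟩
    | cons l v ih =>
      intro hv w k hw hk
      have hl := hv l List.mem_cons_self
      obtain ⟨hn, e⟩ := fact_cosets k hk l hl
      have e' := (hC.word_iff (fun x hx => (List.mem_append.1 hx).elim (fact_reps.2.1 k hk x) (by simp; omega))
        (fun x hx => (List.mem_append.1 hx).elim (exp_low _ x) (fact_reps.2.1 _ hn x))).2 e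
      have hj : 7 * k + l < 378 := by omega
      obtain ⟨w', k', hw', hk', e''⟩ := ih (fun x hx => hv x (List.mem_cons_of_mem _ hx))
        (w ++ trW.getD (7 * k + l) []) _ (fun i hi => (List.mem_append.1 hi).elim (hw i) (fact_trW _ hj i)) hn
      refine ⟨w', k', hw', hk', ?_⟩
      rw [← e'', E_append]
      simp only [wprod, List.map_append, List.prod_append, List.map_cons, List.prod_cons, List.map_nil,
        List.prod_nil, mul_one, E] at e' ⊢
      simp only [← mul_assoc] at e' ⊢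
      rw [mul_assoc _ _ (f l), e']
      simp only [mul_assoc]
  obtain ⟨w, k, hw, hk, e⟩ := hcos
  have hwx : E f w * f 6 = f 6 * E f w := by
    rw [← E_x hC]; exact ((z_comm hC ⟨2, by norm_num, rfl⟩ (inT_E hw))).symm
  rw [e, mul_assoc, ← mul_assoc (f 6), ← hwx, mul_assoc (E f w) (f 6)] at hx
  have hr : wprod f (reps.getD k [] ++ [6]) = wprod f ([6] ++ reps.getD k []) := by
    simpa [wprod, mul_assoc] using mul_left_cancel hx
  have h6 : ∀ x ∈ ([6] : List ℕ), x < 7 := by simp
  have := fact_reps.2.2 k hk ((hC.word_iff (fun x hx => (List.mem_append.1 hx).elim (fact_reps.2.1 k hk x) (h6 x))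
    (fun x hx => (List.mem_append.1 hx).elim (h6 x) (fact_reps.2.1 k hk x))).1 hr)
  rw [e, this, fact_reps.1]
  exact ⟨w, hw, by simp [wprod]⟩

theorem comm_of_inT {h : G} (hh : InT f h) : h * S.t = S.t * h ∧ h * f 6 = f 6 * h := by
  rw [← E_t hC, ← E_x hC]
  exact ⟨(z_comm hC ⟨1, by norm_num, rfl⟩ hh).symm, (z_comm hC ⟨2, by norm_num, rfl⟩ hh).symm⟩

end CfsgLib.Recog.OEightCent.Swap
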