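/-!
Words of the centralizer of `t` and the pure lift, in six generators: raising letters and their opposite pieces.
Generated by a breadth first search in the coded model.
-/

set_option autoImplicit false

namespace CfsgLib.Recog.OEightCent.SwapData

/-- The six generators as words in the letters. -/
def gw : List (List Nat) := [[0], [1], [2], [4, 5, 6, 4, 5], [3, 5, 6, 3, 5], [3, 4, 6, 3, 4]]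

/-- The standard images of the six generators under the exchange. -/
def stdW : List (List Nat) := [
  [1, 2, 3, 1, 2],
  [0, 2, 4, 0, 2],
  [0, 1, 5, 0, 1],
  [4, 5, 0, 4, 5],
  [3, 5, 1, 3, 5],
  [3, 4, 2, 3, 4]]

/-- The images of the six generators under the exchange of the pure lift and its translate. -/
def sigW : List (List Nat) := [
  [0, 3],
  [1, 4],
  [2, 5],
  [3],
  [4],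
  [5]]

/-- One and two steps of their composite. -/
def r1W : List (List Nat) := [
  [1, 2, 3, 1, 2, 4, 5, 0, 4, 5],
  [0, 2, 3, 1, 2, 3, 4, 5, 0, 5],
  [0, 1, 3, 1, 2, 3, 4, 5, 0, 4],
  [4, 5, 0, 4, 5],
  [3, 5, 1, 3, 5],
  [3, 4, 2, 3, 4]]

/-- Two steps. -/
def r2W : List (List Nat) := [
  [1, 4, 2, 3, 1, 2, 4],
  [0, 3, 2, 4, 0, 2, 3],
  [0, 3, 1, 5, 0, 1, 3],
  [3, 4, 5, 0, 4, 5],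
  [3, 1, 2, 4, 2, 3],
  [3, 1, 2, 5, 1, 3]]

/-- The ten generators. -/
def g10W : List (List Nat) := [
  [0],
  [1],
  [2],
  [0, 4, 2, 4, 0, 4, 2, 4],
  [0, 5, 0, 5],
  [0, 4, 0, 4],
  [1, 5, 1, 5],
  [5],
  [4],
  [3]]

/-- The second halves of the relators of the exchanging involution. -/
def restW : List (List Nat) := [
  [1, 4, 6, 5, 6, 5, 4, 1],
  [0, 3, 6, 5, 6, 5, 3, 0],
  [0, 3, 6, 4, 6, 4, 3, 0],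
  [6, 5, 4, 3, 6, 5, 4, 3, 6, 5, 4, 3, 6, 5, 4, 3],
  [6, 5, 3, 6, 5, 4, 3, 6, 5, 4, 3, 6, 5, 3],
  [6, 4, 3, 6, 5, 4, 3, 6, 5, 4, 3, 6, 4, 3],
  [6, 5, 4, 6, 5, 4, 3, 6, 5, 4, 3, 6, 5, 4],
  [5, 3, 6, 5, 4, 3, 6, 2, 5, 4, 3, 6, 5, 3],
  [4, 3, 6, 5, 4, 3, 6, 5, 1, 4, 3, 6, 4, 3],
  [4, 3, 6, 5, 4, 3, 6, 5, 4, 0, 3, 6, 4, 3]]

/-- Representatives of the cosets. -/
def reps : List (List Nat) := [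
  [],
  [3],
  [4],
  [5],
  [3, 0],
  [3, 4],
  [3, 5],
  [4, 1],
  [4, 5],
  [5, 2],
  [3, 0, 4],
  [3, 0, 5],
  [3, 4, 1],
  [3, 4, 5],
  [3, 5, 2],
  [4, 1, 5],
  [4, 5, 2],
  [3, 0, 4, 1],
  [3, 0, 4, 5],
  [3, 0, 5, 2],
  [3, 4, 1, 5],
  [3, 4, 5, 2],
  [3, 4, 5, 6],
  [4, 1, 5, 2],
  [3, 0, 4, 1, 5],
  [3, 0, 4, 5, 2],
  [3, 0, 4, 5, 6],
  [3, 4, 1, 5, 2],
  [3, 4, 1, 5, 6],
  [3, 4, 5, 2, 6],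
  [3, 4, 5, 6, 3],
  [3, 4, 5, 6, 4],
  [3, 4, 5, 6, 5],
  [3, 0, 4, 1, 5, 2],
  [3, 0, 4, 1, 5, 6],
  [3, 0, 4, 5, 2, 6],
  [3, 0, 4, 5, 6, 4],
  [3, 0, 4, 5, 6, 5],
  [3, 4, 1, 5, 2, 6],
  [3, 4, 1, 5, 6, 3],
  [3, 4, 1, 5, 6, 5],
  [3, 4, 5, 2, 6, 3],
  [3, 4, 5, 2, 6, 4],
  [3, 4, 5, 6, 3, 4],
  [3, 4, 5, 6, 3, 5],
  [3, 4, 5, 6, 4, 5],
  [3, 0, 4, 1, 5, 2, 6],
  [3, 0, 4, 1, 5, 6, 5],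
  [3, 0, 4, 5, 2, 6, 4],
  [3, 0, 4, 5, 6, 4, 5],
  [3, 4, 1, 5, 2, 6, 3],
  [3, 4, 1, 5, 6, 3, 5],
  [3, 4, 5, 2, 6, 3, 4],
  [3, 4, 5, 6, 3, 4, 5]]

/-- The coset of a representative times a letter. -/
def nxt : List Nat := [0, 0, 0, 1, 2, 3, 0, 4, 1, 1, 0, 5, 6, 1, 2, 7, 2, 5, 0, 8, 2, 3, 3, 9, 6, 8, 0, 3, 1, 4, 4, 4, 10, 11, 4, 10, 12, 5, 2, 1, 13, 5, 11, 6, 14, 3, 13, 1, 6, 7, 2, 7, 12, 7, 15, 7, 8, 15, 16, 13, 3, 2, 8, 9, 9, 3, 14, 16, 9, 9, 5, 17, 10, 10, 4, 18, 10, 6, 11, 19, 11, 18, 4, 11, 17, 5, 12, 7, 12, 20, 12, 18, 20, 21, 8, 6, 5, 22, 19, 14, 6, 9, 21, 14, 14, 15, 8, 23, 20, 15, 7, 15, 16, 23, 8, 21, 9, 16, 16, 12, 10, 17, 17, 17, 24, 17, 13, 24, 25, 18, 11, 10, 26, 14, 19, 11, 19, 25, 19, 19, 24, 13, 27, 15, 20, 12, 28, 25, 27, 13, 16, 14, 21, 29,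 26, 28, 29, 30, 31, 32, 13, 23, 16, 15, 27, 23, 23, 23, 20, 18, 33, 24, 24, 17, 34, 21, 33, 18, 25, 19, 25, 35, 22, 34, 35, 26, 36, 37, 18, 33, 21, 20, 23, 27, 27, 38, 34, 22, 38, 39, 28, 40, 20, 35, 38, 22, 41, 42, 29, 21, 30, 39, 41, 22, 43, 44, 30, 36, 31, 42, 43, 22, 45, 31, 37, 40, 32, 44, 45, 22, 32, 27, 25, 24, 33, 33, 33, 46, 28, 26, 46, 34, 34, 47, 24, 29, 46, 26, 35, 48, 35, 25, 31, 36, 48, 36, 26, 49, 36, 32, 47, 37, 37, 49, 26, 37, 46, 29, 28, 50, 38, 38, 27, 39, 30, 50, 28, 39, 51, 39, 47, 32, 40, 51, 40, 28, 40, 41, 50, 30, 29, 52, 41, 41, 48, 42, 31, 52, 29, 42, 42, 43, 43, 52, 31, 30, 53, 43, 44, 51, 44, 32, 53, 30, 44, 49, 45, 45, 53, 32, 31, 45, 38, 35, 34, 46, 46, 46, 33, 40, 37, 47, 47, 47, 34, 47, 42, 48, 36, 48, 35, 48, 48, 45, 49, 49, 49,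 37, 36, 49, 50, 41, 39, 38, 50, 50, 50, 51, 44, 51, 40, 51, 39, 51, 52, 52, 43, 42, 41, 52, 52, 53, 53, 53, 45, 44, 43, 53]

/-- The part in the subgroup. -/
def trW : List (List Nat) := [
  [0],
  [1],
  [2],
  [],
  [],
  [],
  [0, 4, 2, 4, 0, 4, 2, 4],
  [],
  [1],
  [2],
  [],
  [],
  [],
  [1, 5, 1, 5],
  [0],
  [],
  [2],
  [],
  [],
  [],
  [0, 5, 0, 5],
  [0],
  [1],
  [],
  [],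
  [],
  [],
  [0, 4, 0, 4],
  [],
  [1],
  [2],
  [0],
  [],
  [],
  [1, 5, 1, 5],
  [],
  [],
  [2],
  [],
  [],
  [],
  [5],
  [],
  [1],
  [],
  [],
  [],
  [],
  [4],
  [0],
  [],
  [2],
  [],
  [1],
  [],
  [0, 5, 0, 5],
  [0],
  [],
  [],
  [],
  [],
  [],
  [3],
  [0],
  [1],
  [],
  [],
  [],
  [2],
  [0, 4, 0, 4],
  [],
  [],
  [2],
  [0],
  [],
  [],
  [5],
  [],
  [1],
  [],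
  [0],
  [],
  [],
  [4],
  [],
  [],
  [2],
  [],
  [1],
  [],
  [5],
  [],
  [],
  [],
  [],
  [],
  [],
  [],
  [],
  [1],
  [],
  [],
  [],
  [2],
  [4],
  [0],
  [],
  [],
  [],
  [1],
  [],
  [3],
  [0],
  [],
  [],
  [],
  [],
  [2],
  [3],
  [],
  [],
  [2],
  [0],
  [1],
  [],
  [5],
  [],
  [],
  [],
  [0],
  [],
  [],
  [],
  [],
  [1],
  [],
  [0],
  [],
  [2],
  [4],
  [],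
  [],
  [],
  [],
  [1],
  [],
  [],
  [],
  [],
  [],
  [],
  [],
  [2],
  [],
  [],
  [],
  [],
  [],
  [],
  [],
  [],
  [0],
  [],
  [],
  [],
  [1],
  [2],
  [3],
  [],
  [],
  [],
  [0],
  [1],
  [],
  [],
  [],
  [],
  [],
  [0],
  [],
  [2],
  [],
  [],
  [],
  [],
  [0, 3],
  [],
  [],
  [],
  [],
  [],
  [],
  [],
  [1],
  [2],
  [],
  [],
  [],
  [],
  [],
  [1, 4],
  [],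
  [],
  [],
  [],
  [],
  [],
  [],
  [2, 5],
  [],
  [0, 3],
  [],
  [],
  [],
  [],
  [],
  [3],
  [],
  [1, 4],
  [],
  [],
  [],
  [],
  [4],
  [],
  [],
  [2, 5],
  [],
  [],
  [],
  [5],
  [],
  [],
  [],
  [0],
  [1],
  [2],
  [],
  [],
  [],
  [],
  [0, 3],
  [1, 4],
  [],
  [],
  [],
  [],
  [],
  [0, 3],
  [],
  [2, 5],
  [],
  [],
  [1, 4],
  [],
  [0, 3],
  [],
  [],
  [4],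
  [],
  [],
  [2, 5],
  [0, 3],
  [],
  [],
  [5],
  [],
  [],
  [],
  [],
  [1, 4],
  [2, 5],
  [],
  [0, 3],
  [],
  [],
  [],
  [1, 4],
  [],
  [3],
  [],
  [],
  [2, 5],
  [],
  [1, 4],
  [],
  [5],
  [0, 3],
  [],
  [],
  [],
  [],
  [2, 5],
  [3],
  [],
  [1, 4],
  [],
  [],
  [],
  [2, 5],
  [4],
  [0, 3],
  [1, 4],
  [],
  [],
  [],
  [],
  [0, 4, 0, 4],
  [0, 3],
  [],
  [2, 5],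
  [],
  [],
  [],
  [0, 5, 0, 5],
  [],
  [1, 4],
  [2, 5],
  [],
  [],
  [],
  [1, 5, 1, 5],
  [],
  [],
  [],
  [0, 3],
  [1, 4],
  [2, 5],
  [],
  [],
  [],
  [2, 5],
  [0, 3],
  [1, 4],
  [],
  [5],
  [],
  [1, 4],
  [],
  [0, 3],
  [],
  [2, 5],
  [4],
  [],
  [1, 4],
  [2, 5],
  [0, 3],
  [],
  [],
  [1, 5, 1, 5],
  [0, 3],
  [],
  [],
  [],
  [1, 4],
  [2, 5],
  [3],
  [0, 3],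
  [],
  [2, 5],
  [],
  [1, 4],
  [],
  [0, 5, 0, 5],
  [0, 3],
  [1, 4],
  [],
  [],
  [],
  [2, 5],
  [0, 4, 0, 4],
  [0, 3],
  [1, 4],
  [2, 5],
  [],
  [],
  [],
  [0, 1, 2, 3, 1, 2, 3, 4, 5, 0, 4, 5]]

/-- The three steps of the rank two residues on generators of their centralizers. -/
def braidT : List (List (List (List Nat))) := [
  [[[1], [1], [0, 2, 4, 0, 2], [0, 2, 4, 0, 4, 2], [0, 2, 4, 0, 4, 2], [0, 2, 4, 0, 2]], [[2], [2], [0, 1, 5, 0, 1], [0, 1, 5, 0, 5, 1], [0, 1, 5, 0, 5, 1], [0, 1, 5, 0, 1]], [[4], [4], [3, 5, 1, 3, 5], [3, 1, 2, 4, 2, 3], [3, 1, 2, 4, 2, 3], [3, 5, 1, 3, 5]], [[5], [5], [3, 4, 2, 3, 4], [3, 1, 2, 5, 1, 3], [3, 1, 2, 5, 1, 3], [3, 4, 2, 3, 4]], [[1, 5, 1, 5], [1, 5, 1, 5], [0, 3, 1, 5, 1, 3, 5, 0], [0, 1, 2, 3, 1, 2, 3, 4, 5, 0,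 4, 5], [0, 1, 2, 3, 1, 2, 3, 4, 5, 0, 4, 5], [0, 3, 1, 5, 1, 3, 5, 0]], [[0, 5, 0, 5], [0, 5, 0], [0, 4, 2, 4, 0], [3, 1, 3, 2, 3, 1, 3], [0, 3, 1, 5, 0, 1, 3], [1, 3, 4, 2, 3, 1, 2, 4]], [[0, 4, 0, 4], [0, 4, 0], [0, 5, 1, 5, 0], [3, 2, 3, 1, 3, 2, 3], [0, 3, 2, 4, 0, 2, 3], [2, 3, 5, 1, 3, 1, 2, 5]], [[0, 4, 0, 5, 0, 4, 0, 5], [0, 4, 0, 5, 0, 4, 0, 5], [0, 4, 2, 4, 0, 4, 2, 4], [0, 1, 5, 1, 5, 0], [0, 1, 5, 1, 5, 0], [0, 4, 2, 4, 0, 4, 2, 4]], [[0, 4, 2, 4, 0, 4, 2, 4], [0, 1, 5, 1, 5, 0], [0, 1, 5, 1, 5, 0], [0, 4, 2, 4, 0, 4, 2, 4], [0, 4, 0, 5, 0, 4, 0, 5], [0, 4, 0, 5, 0, 4, 0, 5]]],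
  [[[0], [0], [1, 2, 3, 1, 2], [0, 2, 4, 0, 4, 2], [0, 2, 4, 0, 4, 2], [1, 2, 3, 1, 2]], [[2], [2], [0, 1, 5, 0, 1], [0, 1, 5, 1, 5, 0], [0, 1, 5, 1, 5, 0], [0, 1, 5, 0, 1]], [[3], [3], [4, 5, 0, 4, 5], [3, 4, 5, 0, 4, 5], [3, 4, 5, 0, 4, 5], [4, 5, 0, 4, 5]], [[5], [5], [3, 4, 2, 3, 4], [3, 1, 2, 5, 1, 3], [3, 1, 2, 5, 1, 3], [3, 4, 2, 3, 4]], [[1, 5, 1, 5], [1, 5, 1], [1, 3, 2, 3, 1], [3, 1, 3, 2, 3, 1, 3], [0, 3, 1, 5, 0, 1, 3], [0, 3, 1, 5, 1, 3, 5, 0]], [[0, 5, 0, 5], [0, 5, 0, 5], [1, 3, 4, 2, 3, 1, 2, 4], [0, 1, 2, 3, 1, 2, 3, 4, 5, 0, 4, 5], [0, 1, 2, 3, 1, 2, 3, 4, 5, 0, 4, 5], [1, 3, 4, 2, 3, 1, 2, 4]], [[0, 4, 0, 4], [1, 3, 1], [1, 5, 0, 5, 1], [4, 2, 4, 0, 4, 2, 4], [1, 4, 2, 3, 1, 2, 4], [2, 3, 5, 1, 3, 1, 2, 5]], [[0, 4, 0, 5, 0, 4, 0, 5], [0, 4, 0,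 5, 0, 4, 0, 5], [0, 4, 2, 4, 0, 4, 2, 4], [0, 1, 5, 0, 5, 1], [0, 1, 5, 0, 5, 1], [0, 4, 2, 4, 0, 4, 2, 4]], [[0, 4, 2, 4, 0, 4, 2, 4], [0, 1, 5, 0, 5, 1], [0, 1, 5, 0, 5, 1], [0, 4, 2, 4, 0, 4, 2, 4], [0, 4, 0, 5, 0, 4, 0, 5], [0, 4, 0, 5, 0, 4, 0, 5]]],
  [[[0], [0], [1, 2, 3, 1, 2], [0, 1, 5, 0, 5, 1], [0, 1, 5, 0, 5, 1], [1, 2, 3, 1, 2]], [[1], [1], [0, 2, 4, 0, 2], [0, 1, 5, 1, 5, 0], [0, 1, 5, 1, 5, 0], [0, 2, 4, 0, 2]], [[3], [3], [4, 5, 0, 4, 5], [3, 4, 5, 0, 4, 5], [3, 4, 5, 0, 4, 5], [4, 5, 0, 4, 5]], [[4], [4], [3, 5, 1, 3, 5], [3, 1, 2, 4, 2, 3], [3, 1, 2, 4, 2, 3], [3, 5, 1, 3, 5]], [[1, 5, 1, 5], [2, 4, 2], [2, 3, 1, 3, 2], [3, 2, 3, 1, 3, 2, 3], [0, 3, 2, 4, 0, 2, 3], [0, 3, 1, 5, 1, 3, 5, 0]], [[0, 5, 0, 5], [2, 3, 2], [2, 4, 0, 4, 2], [4, 2, 4,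 0, 4, 2, 4], [1, 4, 2, 3, 1, 2, 4], [1, 3, 4, 2, 3, 1, 2, 4]], [[0, 4, 0, 4], [0, 4, 0, 4], [2, 3, 5, 1, 3, 1, 2, 5], [0, 1, 2, 3, 1, 2, 3, 4, 5, 0, 4, 5], [0, 1, 2, 3, 1, 2, 3, 4, 5, 0, 4, 5], [2, 3, 5, 1, 3, 1, 2, 5]], [[0, 4, 0, 5, 0, 4, 0, 5], [0, 4, 0, 5, 0, 4, 0, 5], [0, 4, 2, 4, 0, 4, 2, 4], [0, 2, 4, 0, 4, 2], [0, 2, 4, 0, 4, 2], [0, 4, 2, 4, 0, 4, 2, 4]], [[0, 4, 2, 4, 0, 4, 2, 4], [0, 2, 4, 0, 4, 2], [0, 2, 4, 0, 4, 2], [0, 4, 2, 4, 0, 4, 2, 4], [0, 4, 0, 5, 0, 4, 0, 5], [0, 4, 0, 5, 0, 4, 0, 5]]]]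

end CfsgLib.Recog.OEightCent.SwapData
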