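import Cfsg.Agent.Lib.Recog.OEightCent.SwapFix

/-!
A change of signs and the rigidity of the exchange.
-/

set_option autoImplicit false
set_option maxRecDepth 100000
set_option linter.unusedSectionVars false

namespace CfsgLib.Recog.OEightCent.Swap

open SwapData

/-- The change of signs. -/
def tw {G : Type*} [Group G] (f : ℕ → G) (t : G) (L k : ℕ) : G :=
  if k < 6 ∧ L.testBit (k % 3) then f k * t else f k

variable {G : Type*} [Group G] {S : Setup G} {f : ℕ → G}

theorem t_mul_self (S : Setup G) : S.t * S.t = 1 := by rw [← pow_two, ← S.t_ord, pow_orderOf_eq_one]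

theorem f_comm (hC : S.Chart f) {k : ℕ} (hk : k < 7) : f k * S.t = S.t * f k := by
  have : f k ∈ Subgroup.centralizer ({S.t} : Set G) := hC.gen ▸ Subgroup.subset_closure ⟨k, hk, rfl⟩
  exact Subgroup.mem_centralizer_singleton_iff.1 this

theorem wprod_comm (hC : S.Chart f) : ∀ v : List ℕ, (∀ x ∈ v, x < 7) → wprod f v * S.t = S.t * wprod f v
  | [], _ => by simp [wprod]
  | k :: v, h => by
    rw [show wprod f (k :: v) = f k * wprod f v by simp [wprod], mul_assoc,
      wprod_comm hC v (fun x hx => h x (List.mem_cons_of_mem _ hx)), ← mul_assoc,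
      f_comm hC (h k List.mem_cons_self), mul_assoc]

theorem wprod_tw (hC : S.Chart f) (L : ℕ) : ∀ v : List ℕ, (∀ x ∈ v, x < 7) →
    wprod (tw f S.t L) v = wprod f v * if par L v then S.t else 1
  | [], _ => by simp [wprod, par]
  | k :: v, h => by
    have hv : ∀ x ∈ v, x < 7 := fun x hx => h x (List.mem_cons_of_mem _ hx)
    rw [show wprod (tw f S.t L) (k :: v) = tw f S.t L k * wprod (tw f S.t L) v by simp [wprod],
      wprod_tw hC L v hv, show wprod f (k :: v) = f k * wprod f v by simp [wprod]]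
    by_cases hk : k < 6 ∧ L.testBit (k % 3)
    · have h1 : par L (k :: v) = !(par L v) := by simp [par, hk.1, hk.2]
      rw [tw, if_pos hk, h1, mul_assoc (f k), ← mul_assoc S.t, ← wprod_comm hC v hv]
      cases par L v
      · simp [mul_assoc]
      · simp [mul_assoc, t_mul_self S]
    · have h1 : par L (k :: v) = par L v := by
        by_cases h6 : k < 6
        · simp [par, h6, Bool.eq_false_iff.2 (fun e => hk ⟨h6, e⟩)]
        · simp [par, h6]
      rw [tw, if_neg hk, h1, mul_assoc]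

theorem tw_six (L : ℕ) : tw f S.t L 6 = f 6 := if_neg (by omega)

theorem chart_tw (hC : S.Chart f) {L : ℕ} (hL : L < 8) : S.Chart (tw f S.t L) := by
  have hz : wprod (tw f S.t L) zWord = S.t := by
    rw [wprod_tw hC L _ letters_ok.2.2.1, (fact_parity L hL).2.1, hC.zword]; simp
  refine ⟨le_antisymm ?_ ?_, by rw [tw_six]; exact hC.mem_Q, hz, fun r hr => ?_⟩
  · rw [Subgroup.closure_le]
    rintro _ ⟨k, hk, rfl⟩
    have h1 : f k ∈ Subgroup.centralizer ({S.t} : Set G) := hC.gen ▸ Subgroup.subset_closure ⟨k, hk, rfl⟩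
    show tw f S.t L k ∈ _
    unfold tw; split
    · exact mul_mem h1 (Subgroup.mem_centralizer_singleton_iff.2 rfl)
    · exact h1
  · rw [← hC.gen, Subgroup.closure_le]
    have ht : S.t ∈ Subgroup.closure (tw f S.t L '' Set.Iio 7) := by
      have h : wprod (tw f S.t L) zWord ∈ Subgroup.closure (tw f S.t L '' Set.Iio 7) := by
        refine Subgroup.list_prod_mem _ fun y hy => ?_
        obtain ⟨x, hx, rfl⟩ := List.mem_map.1 hy
        exact Subgroup.subset_closure ⟨x, letters_ok.2.2.1 x hx, rfl⟩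
      rwa [hz] at h
    rintro _ ⟨k, hk, rfl⟩
    have h1 : tw f S.t L k ∈ Subgroup.closure (tw f S.t L '' Set.Iio 7) := Subgroup.subset_closure ⟨k, hk, rfl⟩
    unfold tw at h1
    split at h1
    · have := mul_mem h1 ht
      rwa [mul_assoc, t_mul_self S, mul_one] at this
    · exact h1
  · rw [wprod_tw hC L r (letters_ok.1 r hr), (fact_parity L hL).1 r hr, hC.rels r hr]; simp

theorem fused_tw (hF : S.Fused f) (L : ℕ) : S.Fused (tw f S.t L) :=
  ⟨by rw [tw_six]; exact hF.swap, by rw [tw_six]; exact hF.pure⟩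

variable [Finite G] (hC : S.Chart f)
include hC

/-- After a change of signs the raising half has exactly its standard images. -/
theorem exists_raising {g : G} (hg : Swaps S f g) :
    ∃ L < 8, ∃ g', Swaps S (tw f S.t L) g' ∧ (∀ k < 6, ∃ c < 4,
      g' * E (tw f S.t L) [k] * g'⁻¹ = E (tw f S.t L) (SW k) * E (tw f S.t L) (cW c)) ∧
      ∀ i < 3, g' * E (tw f S.t L) [i] * g'⁻¹ = E (tw f S.t L) (SW i) := by
  obtain ⟨g1, hg1, hform⟩ := exists_central_form hC hg
  obtain ⟨g', hg', hform', L, hL, hi'⟩ := exists_shift_form hC hg1 hform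
  obtain ⟨-, -, pS, pC, pI⟩ := fact_parity L hL
  have hE : ∀ w, E (tw f S.t L) w = E f w * if par L (exp w) then S.t else 1 := fun w => wprod_tw hC L _ (exp_low w)
  refine ⟨L, hL, g', ⟨by rw [tw_six]; exact hg'.left, by rw [tw_six]; exact hg'.right⟩, fun k hk => ?_, fun i hi => ?_⟩
  · obtain ⟨c, hc, e⟩ := hform' k hk
    have hz : InZ f ((if par L (exp (SW k)) then S.t else 1) * E f (cW c) *
        g' * (if par L (exp [k]) then S.t else 1) * g'⁻¹) := by
      rw [show ∀ a b : G, a * g' * b * g'⁻¹ = a * (g' * b * g'⁻¹) from fun a b => by group]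
      refine z_mul hC (z_mul hC ?_ ⟨c, hc, rfl⟩) ?_
      · split
        · exact ⟨1, by norm_num, (E_c1 hC).symm⟩
        · exact ⟨0, by norm_num, rfl⟩
      · split
        · exact ⟨2, by norm_num, by rw [hg'.left, E_c2 hC]⟩
        · exact ⟨0, by norm_num, by rw [mul_one, mul_inv_cancel]; rfl⟩
    obtain ⟨d, hd, hd'⟩ := hz
    refine ⟨d, hd, ?_⟩
    rw [hE, hE (SW k), hE (cW d), pC d hd, conj_prod, e, if_neg (Bool.false_ne_true), mul_one, ← hd']
    set b := if par L (exp (SW k)) then S.t else 1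
    have hbb : b * b = 1 := by
      show (if _ then S.t else 1) * (if _ then S.t else 1) = 1
      split
      · exact t_mul_self S
      · exact one_mul 1
    rw [show ∀ A C X : G, A * b * (b * C * g' * X * g'⁻¹) = A * (b * b) * C * (g' * X * g'⁻¹) from
      fun A C X => by group, hbb, mul_one]
  · have hex : E (tw f S.t L) (SW i) = E f (SW i) := by rw [hE, pS i hi]; simp
    rw [hex, hE, pI i hi, conj_prod, hi' i hi]
    cases L.testBit i
    · simp [show E f (cW 0) = 1 from rfl]
    · simp only [if_true]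
      rw [hg'.left, ← E_c2 hC, mul_assoc, c_mul hC (a := 2) (b := 2) (by norm_num) (by norm_num), Nat.xor_self,
        show E f (cW 0) = 1 from rfl, mul_one]

variable {g : G} (hg : Swaps S f g)
include hg

/-- The image of a word. -/
theorem img_word {cc : List ℕ} (hcc : ∀ x ∈ cc, x < 4)
    (himg : ∀ k < 6, g * E f [k] * g⁻¹ = E f (SW k) * E f (cW (cc.getD k 0))) :
    ∀ w : List ℕ, (∀ k ∈ w, k < 6) → g * E f w * g⁻¹ = E f (stdI w) * E f (cW (cx cc w))
  | [], _ => by simp [E_nil, stdI, cx, show E f (cW 0) = 1 from rfl]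
  | k :: w, hw => by
    have hw' : ∀ x ∈ w, x < 6 := fun x hx => hw x (List.mem_cons_of_mem _ hx)
    rw [E_cons f k w, conj_prod, himg k (hw k List.mem_cons_self), img_word hcc himg w hw',
      show stdI (k :: w) = SW k ++ stdI w from rfl, E_append]
    simp only [mul_assoc]
    rw [← mul_assoc (E f (cW _)) (E f (stdI w)), c_comm hC (getD_lt_four hcc k) (stdI_low hw'), mul_assoc,
      c_mul hC (getD_lt_four hcc k) (cx_lt hcc w)]
    rfl

theorem translate : ∀ w : List ℕ, (∀ k ∈ w, k < 6) →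
    wprod f qL * E f w * (wprod f qL)⁻¹ = E f (sigI w)
  | [], _ => by simp [E_nil, sigI]
  | k :: w, hw => by
    obtain ⟨hsig, hqq, -, -⟩ := fact_sigma
    have hlq : ∀ x ∈ qL, x < 7 := by decide
    have hk := hw k List.mem_cons_self
    have hqi : (wprod f qL)⁻¹ = wprod f qL := inv_eq_of_mul_eq_one_right (by
      have := (hC.word_iff (v := qL ++ qL) (w := [])
        (fun x hx => (List.mem_append.1 hx).elim (hlq x) (hlq x)) (by simp)).2 hqq
      simpa [wprod] using this)
    have h := (hC.word_iff (v := qL ++ gw.getD k [] ++ qL) (w := exp (sigW.getD k [])) (fun x hx => by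
      simp only [List.mem_append] at hx
      rcases hx with (hx | hx) | hx
      exacts [hlq x hx, gw_low k x hx, hlq x hx]) (exp_low _)).2 (hsig k hk).1
    rw [E_cons f k w, conj_prod, translate w fun x hx => hw x (List.mem_cons_of_mem _ hx),
      show sigI (k :: w) = sigW.getD k [] ++ sigI w from rfl, E_append]
    refine congrArg (· * _) ?_
    rw [hqi]
    simpa [wprod, E, exp, mul_assoc] using h

theorem translate_Z {c : ℕ} (hc : c < 4) :
    g * wprod f qL * E f (cW c) * (g * wprod f qL)⁻¹ = E f (cW (rhoC c)) := by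
  obtain ⟨h1, h2, -, -, -⟩ := fact_trans c hc
  have hlq : ∀ x ∈ qL, x < 7 := by decide
  have hqi : (wprod f qL)⁻¹ = wprod f qL := inv_eq_of_mul_eq_one_right (by
    have := (hC.word_iff (v := qL ++ qL) (w := [])
      (fun x hx => (List.mem_append.1 hx).elim (hlq x) (hlq x)) (by simp)).2 fact_sigma.2.1
    simpa [wprod] using this)
  have h := (hC.word_iff (v := qL ++ exp (cW c) ++ qL) (w := exp (cW (tauC c))) (fun x hx => by
    simp only [List.mem_append] at hx
    rcases hx with (hx | hx) | hx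
    exacts [hlq x hx, exp_low _ x hx, hlq x hx]) (exp_low _)).2 h1
  have h' : wprod f qL * E f (cW c) * (wprod f qL)⁻¹ = E f (cW (tauC c)) := by
    rw [hqi]; simpa [wprod, E, mul_assoc] using h
  rw [show g * wprod f qL * E f (cW c) * (g * wprod f qL)⁻¹ =
    g * (wprod f qL * E f (cW c) * (wprod f qL)⁻¹) * g⁻¹ by group, h', img_Z hC hg h2]
  rfl

/-- **The lowering half is standard as well.** -/
theorem rigid (hform : ∀ k < 6, ∃ c < 4, g * E f [k] * g⁻¹ = E f (SW k) * E f (cW c))
    (hlow : ∀ i < 3, g * E f [i] * g⁻¹ = E f (SW i)) :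
    ∀ k < 6, g * E f [k] * g⁻¹ = E f (SW k) := by
  choose c hc himg using hform
  set A := c 3 (by norm_num); set B := c 4 (by norm_num); set C := c 5 (by norm_num)
  set cc := [0, 0, 0, A, B, C] with hcc'
  have hcc : ∀ x ∈ cc, x < 4 := by
    intro x hx
    simp only [hcc', List.mem_cons, List.not_mem_nil, or_false] at hx
    rcases hx with rfl | rfl | rfl | rfl | rfl | rfl
    all_goals first | exact hc _ _ | norm_num
  have himg' : ∀ k < 6, g * E f [k] * g⁻¹ = E f (SW k) * E f (cW (cc.getD k 0)) := by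
    intro k hk
    interval_cases k
    · simpa [hcc', show E f (cW 0) = 1 from rfl] using hlow 0 (by norm_num)
    · simpa [hcc', show E f (cW 0) = 1 from rfl] using hlow 1 (by norm_num)
    · simpa [hcc', show E f (cW 0) = 1 from rfl] using hlow 2 (by norm_num)
    · exact himg 3 _
    · exact himg 4 _
    · exact himg 5 _
  set R := g * wprod f qL with hRdef
  have hR : ∀ w : List ℕ, (∀ k ∈ w, k < 6) → ∀ d < 4, ∀ v : List ℕ, cs (stdI (sigI w)) = cs v →
      R * (E f w * E f (cW d)) * R⁻¹ = E f v * E f (cW (cx cc (sigI w) ^^^ rhoC d)) := by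
    intro w hw d hd v hv
    rw [conj_prod R, hRdef, show g * wprod f qL * E f w * (g * wprod f qL)⁻¹ =
      g * (wprod f qL * E f w * (wprod f qL)⁻¹) * g⁻¹ by group, translate hC hg w hw, translate_Z hC hg hd,
      img_word hC hg hcc himg' _ (sigI_low hw), (E_iff hC).2 hv, mul_assoc,
      c_mul hC (cx_lt hcc _) (fact_trans d hd).2.2.2.1]
  have hT : InT f (R * R * R) := by
    have h3 : ∀ c < 4, R * R * R * E f (cW c) * (R * R * R)⁻¹ = E f (cW c) := by
      intro c hc
      obtain ⟨-, -, -, h4, h5⟩ := fact_trans c hc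
      rw [show R * R * R * E f (cW c) * (R * R * R)⁻¹ = R * (R * (R * E f (cW c) * R⁻¹) * R⁻¹) * R⁻¹ by group,
        hRdef, translate_Z hC hg hc, translate_Z hC hg h4, translate_Z hC hg (fact_trans _ h4).2.2.2.1, h5]
    refine inT_of_comm hC (mul_inv_eq_iff_eq_mul.1 ?_) (mul_inv_eq_iff_eq_mul.1 ?_)
    · rw [← E_c1 hC]; exact h3 1 (by norm_num)
    · rw [← E_c2 hC]; exact h3 2 (by norm_num)
  have hcube : ∀ k < 6, R * R * R * E f [k] * (R * R * R)⁻¹ * (E f [k])⁻¹ = E f (cW (e3C cc k)) := by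
    intro k hk
    obtain ⟨s1, s2, s3, -, l1, l2, -⟩ := fact_steps k hk
    have he1 : e1C cc k < 4 := cx_lt hcc _
    have he2 : e2C cc k < 4 := Nat.xor_lt_two_pow (n := 2) (cx_lt hcc _) (fact_trans _ he1).2.2.2.1
    have he3 : e3C cc k < 4 := Nat.xor_lt_two_pow (n := 2) (cx_lt hcc _) (fact_trans _ he2).2.2.2.1
    have r1 := hR [k] (by simpa using hk) 0 (by norm_num) _ s1
    rw [show E f (cW 0) = 1 from rfl, mul_one, show rhoC 0 = 0 from rfl, Nat.xor_zero] at r1
    rw [show R * R * R * E f [k] * (R * R * R)⁻¹ = R * (R * (R * E f [k] * R⁻¹) * R⁻¹) * R⁻¹ by group, r1]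
    have r2 := hR _ l1 _ he1 _ s2
    rw [show R * (E f (r1W.getD k []) * E f (cW (cx cc (sigI [k])))) * R⁻¹ = _ from r2]
    have r3 := hR _ l2 _ he2 _ s3
    rw [show R * (E f (r2W.getD k []) * E f (cW (cx cc (sigI (r1W.getD k [])) ^^^ rhoC (e1C cc k)))) * R⁻¹ = _ from r3,
      show cx cc (sigI (r2W.getD k [])) ^^^ rhoC (e2C cc k) = e3C cc k from rfl,
      ← c_comm hC he3 (w := [k]) (by simpa using hk), mul_inv_cancel_right]
  have hgg : InT f (g * g) := by
    refine inT_of_comm hC (mul_inv_eq_iff_eq_mul.1 ?_) (mul_inv_eq_iff_eq_mul.1 ?_)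
    · rw [show g * g * S.t * (g * g)⁻¹ = g * (g * S.t * g⁻¹) * g⁻¹ by group, hg.left, hg.right]
    · rw [show g * g * f 6 * (g * g)⁻¹ = g * (g * f 6 * g⁻¹) * g⁻¹ by group, hg.right, hg.left]
  have hsquare : ∀ k < 6, g * g * E f [k] * (g * g)⁻¹ * (E f [k])⁻¹ =
      E f (cW (cx cc (SW k) ^^^ swC (cc.getD k 0))) := by
    intro k hk
    have hd := getD_lt_four hcc k
    rw [show g * g * E f [k] * (g * g)⁻¹ = g * (g * E f [k] * g⁻¹) * g⁻¹ by group, himg' k hk, conj_prod,
      img_word hC hg hcc himg' _ (fact_SW k hk).1, (E_iff hC).2 (fact_steps k hk).2.2.2.1, img_Z hC hg hd,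
      ← show swC (cc.getD k 0) = (if cc.getD k 0 = 1 then 2 else if cc.getD k 0 = 2 then 1 else cc.getD k 0) from rfl,
      mul_assoc (E f [k]), c_mul hC (cx_lt hcc _) (show swC _ < 4 from (fact_trans _ hd).2.2.1),
      ← c_comm hC (Nat.xor_lt_two_pow (n := 2) (cx_lt hcc _) (show swC _ < 4 from (fact_trans _ hd).2.2.1))
        (w := [k]) (by simpa using hk), mul_inv_cancel_right]
  obtain ⟨x, hx, -, hxv⟩ := central_inner hC hT fun k hk => by
    rw [hcube k hk]
    exact ⟨_, Nat.xor_lt_two_pow (n := 2) (cx_lt hcc _) (fact_trans _ (Nat.xor_lt_two_pow (n := 2) (cx_lt hcc _)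
      (fact_trans _ (cx_lt hcc _)).2.2.2.1)).2.2.2.1, rfl⟩
  obtain ⟨y, hy, -, hyv⟩ := central_inner hC hgg fun k hk => by
    rw [hsquare k hk]
    exact ⟨_, Nat.xor_lt_two_pow (n := 2) (cx_lt hcc _) (show swC _ < 4 from (fact_trans _ (getD_lt_four hcc k)).2.2.1), rfl⟩
  have hinn : ∀ a k, innV a k < 4 := fun a k => by unfold innV; split <;> split <;> norm_num
  have hA : A < 4 := hc 3 _
  have hB : B < 4 := hc 4 _
  have hC' : C < 4 := hc 5 _
  have hfin := fact_rigid
  simp only [List.all_eq_true, List.mem_range, Bool.or_eq_true, Bool.not_eq_true', Bool.and_eq_true,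
    beq_iff_eq] at hfin
  have h0 := (hfin A hA B hB C hC').resolve_left (by
    simp only [Bool.not_eq_false, Bool.and_eq_true, List.any_eq_true, List.all_eq_true, List.mem_range, beq_iff_eq]
    refine ⟨⟨x, hx, fun k hk => c_inj hC ?_ (hinn x k) ((hcube k hk).symm.trans (hxv k hk))⟩,
      ⟨y, hy, fun k hk => c_inj hC ?_ (hinn y k) ((hsquare k hk).symm.trans (hyv k hk))⟩⟩
    · exact Nat.xor_lt_two_pow (n := 2) (cx_lt hcc _) (fact_trans _ (Nat.xor_lt_two_pow (n := 2) (cx_lt hcc _)
        (fact_trans _ (cx_lt hcc _)).2.2.2.1)).2.2.2.1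
    · exact Nat.xor_lt_two_pow (n := 2) (cx_lt hcc _)
        (show swC _ < 4 from (fact_trans _ (getD_lt_four hcc k)).2.2.1))
  intro k hk
  rw [himg' k hk]
  have hz : cc.getD k 0 = 0 := by
    rw [hcc']
    interval_cases k <;> simp [h0.1.1, h0.1.2, h0.2]
  rw [hz, show E f (cW 0) = 1 from rfl, mul_one]

end CfsgLib.Recog.OEightCent.Swap
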