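import Cfsg.Agent.Lib.Recog.OEightCent.SwapLinear

/-!
Facts on coded words for fixing the exchanging element exactly.
-/

set_option autoImplicit false
set_option maxRecDepth 100000
set_option Elab.async false
set_option synthInstance.maxSize 600

namespace CfsgLib.Recog.OEightCent.Swap

open SwapData

/-- The standard image of a generator. -/
def SW (k : ℕ) : List ℕ := stdW.getD k []

/-- The translation word on six-generator words. -/
def sigI (w : List ℕ) : List ℕ := w.flatMap fun k => sigW.getD k []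

/-- The conjugating word of a half. -/
def hW (o p : ℕ) : List ℕ := if o = 0 then pW p else uW p

/-- The value of a central inner automorphism on a generator. -/
def innV (a k : ℕ) : ℕ :=
  if k < 3 then (if a.testBit k then 2 else 0) else (if a.testBit (k - 3) then 1 else 0)

/-- The exchange on the centre. -/
def swC (c : ℕ) : ℕ := if c = 1 then 2 else if c = 2 then 1 else c

/-- The translation on the centre. -/
def tauC (c : ℕ) : ℕ := if c.testBit 1 then c ^^^ 1 else c

/-- Their composite. -/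
def rhoC (c : ℕ) : ℕ := swC (tauC c)

/-- The central part accumulated along a word. -/
def cx (cc : List ℕ) : List ℕ → ℕ
  | [] => 0
  | k :: w => cc.getD k 0 ^^^ cx cc w

/-- The parity of the twisted letters. -/
def par (L : ℕ) : List ℕ → Bool
  | [] => false
  | k :: v => (decide (k < 6) && L.testBit (k % 3)) ^^ par L v

theorem fact_SW : ∀ k < 6, (∀ x ∈ SW k, x < 6) ∧ cls (SW k) = ((cl k).2, (cl k).1) := by decide +kernel

theorem fact_gencomm : ∀ o ∈ [0, 3], ∀ i < 3, ∀ j < 3, cs [o + i, o + j] = cs [o + j, o + i] := by decide +kernel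

theorem fact_sqW : ∀ o ∈ [0, 3], ∀ i < 3, ∀ a < 8,
    cs (SW (o + i) ++ wW a ++ (SW (o + i) ++ wW a)) = cs [] → a.testBit i = false := by
  decide +kernel

theorem fact_commW : ∀ o ∈ [0, 3], ∀ i < 3, ∀ j < 3, i < j → ∀ a < 8, ∀ b < 8,
    a.testBit i = false → b.testBit j = false →
    cs (SW (o + i) ++ wW a ++ (SW (o + j) ++ wW b)) = cs (SW (o + j) ++ wW b ++ (SW (o + i) ++ wW a)) →
    a.testBit j = b.testBit i := by
  decide +kernel

theorem fact_conjW : ∀ o ∈ [0, 3], ∀ i < 3, ∀ p < 8,
    cs (hW o p ++ SW (o + i) ++ (hW o p).reverse) ∈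
      (List.range 4).map fun c => cs (SW (o + i) ++ wW (cross (2 ^ i) p) ++ cW c) := by
  decide +kernel

theorem fact_keep : ∀ r < 8, ∀ i < 3,
    cs (uW r ++ SW i ++ (uW r).reverse) ∈ (List.range 4).map fun c => cs (SW i ++ cW c) := by
  decide +kernel

theorem fact_shift : ∀ b < 8, ∀ k < 6, cs (wW b ++ SW k ++ (wW b).reverse) =
    cs (SW k ++ cW (if k < 3 then (if b.testBit k then 1 else 0) else (if b.testBit (k - 3) then 2 else 0))) := by
  decide +kernel

theorem fact_solve_all : ((List.range 512).all fun m =>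
    ((m % 8).testBit 0 || (m / 8 % 8).testBit 1 || (m / 64).testBit 2 || (m % 8).testBit 1 != (m / 8 % 8).testBit 0 ||
      (m % 8).testBit 2 != (m / 64).testBit 0 || (m / 8 % 8).testBit 2 != (m / 64).testBit 1 ||
      (List.range 8).any fun p => cross 1 p == m % 8 && cross 2 p == m / 8 % 8 && cross 4 p == m / 64)) = true := by
  decide +kernel

theorem fact_solve {a b c : ℕ} (ha : a < 8) (hb : b < 8) (hc : c < 8) (h0 : a.testBit 0 = false)
    (h1 : b.testBit 1 = false) (h2 : c.testBit 2 = false) (h3 : a.testBit 1 = b.testBit 0)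
    (h4 : a.testBit 2 = c.testBit 0) (h5 : b.testBit 2 = c.testBit 1) :
    ∃ p < 8, cross 1 p = a ∧ cross 2 p = b ∧ cross 4 p = c := by
  have h := fact_solve_all
  simp only [List.all_eq_true, List.mem_range] at h
  have h' := h (a + 8 * b + 64 * c) (by omega)
  rw [show (a + 8 * b + 64 * c) % 8 = a by omega, show (a + 8 * b + 64 * c) / 8 % 8 = b by omega,
    show (a + 8 * b + 64 * c) / 64 = c by omega, h0, h1, h2, h3, h4, h5] at h'
  simp only [Bool.false_or, bne_self_eq_false, List.any_eq_true, List.mem_range, Bool.and_eq_true, beq_iff_eq] at h'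
  obtain ⟨p, hp, ⟨e0, e1⟩, e2⟩ := h'
  exact ⟨p, hp, e0, e1, e2⟩

theorem fact_wxor : ∀ a < 8, cs (wW a ++ wW a) ∈ zCodes := by decide +kernel

theorem fact_bits : ∀ a < 4, ∀ b < 4, ∀ c < 4, ∃ p < 8, ∀ i < 3,
    ([a, b, c].getD i 0 ^^^ (if p.testBit i then 1 else 0)) ∈ [0, 2] := by
  decide +kernel

theorem fact_twist : ∀ a ∈ [0, 2], ∀ b ∈ [0, 2], ∀ c ∈ [0, 2], ∃ L < 8, ∀ i < 3,
    [a, b, c].getD i 0 = if L.testBit i then 2 else 0 := by
  decide +kernel

theorem fact_parity : ∀ L < 8, (∀ r ∈ relsC, par L r = false) ∧ par L zWord = false ∧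
    (∀ k < 3, par L (exp (SW k)) = false) ∧ (∀ c < 4, par L (exp (cW c)) = false) ∧
    ∀ i < 3, par L (exp [i]) = L.testBit i := by
  decide +kernel

theorem fact_steps : ∀ k < 6, cs (stdI (sigI [k])) = cs (r1W.getD k []) ∧
    cs (stdI (sigI (r1W.getD k []))) = cs (r2W.getD k []) ∧ cs (stdI (sigI (r2W.getD k []))) = cs [k] ∧
    cs (stdI (SW k)) = cs [k] ∧ (∀ x ∈ r1W.getD k [], x < 6) ∧ (∀ x ∈ r2W.getD k [], x < 6) ∧
    ∀ x ∈ sigW.getD k [], x < 6 := by
  decide +kernel

theorem fact_trans : ∀ c < 4, cd (qL ++ exp (cW c) ++ qL) = cs (cW (tauC c)) ∧ tauC c < 4 ∧ swC c < 4 ∧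
    rhoC c < 4 ∧ rhoC (rhoC (rhoC c)) = c := by
  decide +kernel

/-- The central part after one step. -/
def e1C (cc : List ℕ) (k : ℕ) : ℕ := cx cc (sigI [k])

/-- After two steps. -/
def e2C (cc : List ℕ) (k : ℕ) : ℕ := cx cc (sigI (r1W.getD k [])) ^^^ rhoC (e1C cc k)

/-- After three steps. -/
def e3C (cc : List ℕ) (k : ℕ) : ℕ := cx cc (sigI (r2W.getD k [])) ^^^ rhoC (e2C cc k)

theorem fact_rigid : ((List.range 4).all fun a => (List.range 4).all fun b => (List.range 4).all fun c =>
    !((List.range 8).any (fun x => (List.range 6).all fun k => e3C [0, 0, 0, a, b, c] k == innV x k) &&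
      (List.range 8).any (fun x => (List.range 6).all fun k =>
        (cx [0, 0, 0, a, b, c] (SW k) ^^^ swC ([0, 0, 0, a, b, c].getD k 0)) == innV x k)) ||
    (a == 0 && b == 0 && c == 0)) = true := by
  decide +kernel

theorem fact_innzero : ∀ a < 8, (∀ k < 3, innV a k = 0) → a = 0 := by decide +kernel

theorem fact_swfix : ∀ c < 4, swC c = c → c = 0 ∨ c = 3 := by decide +kernel

end CfsgLib.Recog.OEightCent.Swap
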