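import Cfsg.Agent.Lib.Recog.OEightCent.SwapFacts

/-!
After inner elements and a change of signs the exchanging element acts exactly as the standard one.
-/

set_option autoImplicit false
set_option maxRecDepth 100000

namespace CfsgLib.Recog.OEightCent.Swap

open SwapData

theorem par_append (L : ℕ) : ∀ v w : List ℕ, par L (v ++ w) = (par L v ^^ par L w)
  | [], w => by simp [par]
  | k :: v, w => by simp [par, par_append L v w]

theorem exp_append (v w : List ℕ) : exp (v ++ w) = exp v ++ exp w := by simp [exp]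

theorem cx_append (cc : List ℕ) : ∀ v w : List ℕ, cx cc (v ++ w) = cx cc v ^^^ cx cc w
  | [], w => by simp [cx]
  | k :: v, w => by simp [cx, cx_append cc v w, Nat.xor_assoc]

theorem stdI_low {w : List ℕ} (hw : ∀ k ∈ w, k < 6) : ∀ x ∈ stdI w, x < 6 := fun x hx => by
  obtain ⟨k, hk, hx⟩ := List.mem_flatMap.1 hx
  exact (fact_SW k (hw k hk)).1 x hx

theorem sigI_low {w : List ℕ} (hw : ∀ k ∈ w, k < 6) : ∀ x ∈ sigI w, x < 6 := fun x hx => by
  obtain ⟨k, hk, hx⟩ := List.mem_flatMap.1 hx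
  exact (fact_steps k (hw k hk)).2.2.2.2.2.2 x hx

theorem hW_low (o p : ℕ) : ∀ k ∈ hW o p, k < 6 := by
  unfold hW; split
  · exact low_pW p
  · exact low_uW p

theorem getD_lt_four {cc : List ℕ} (h : ∀ x ∈ cc, x < 4) (k : ℕ) : cc.getD k 0 < 4 := by
  rw [List.getD_eq_getElem?_getD]
  cases e : cc[k]? with
  | none => simp
  | some x => simpa using h x (List.mem_of_getElem? e)

theorem cx_lt {cc : List ℕ} (h : ∀ x ∈ cc, x < 4) : ∀ w, cx cc w < 4
  | [] => by simp [cx]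
  | k :: w => Nat.xor_lt_two_pow (n := 2) (getD_lt_four h k) (cx_lt h w)

variable {G : Type*} [Group G] {S : Setup G} {f : ℕ → G} [Finite G] (hC : S.Chart f)
include hC

theorem same_class {g h : G} {p r : ℕ} (hg : Cl f g p r) (hh : Cl f h p r) : InW f (g⁻¹ * h) := by
  have := cl_mul hC (cl_inv hC hg) hh
  rw [Nat.xor_self, Nat.xor_self] at this
  exact inW_of_cl this

theorem c_mul {a b : ℕ} (ha : a < 4) (hb : b < 4) : E f (cW a) * E f (cW b) = E f (cW (a ^^^ b)) := by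
  rw [← E_append]; exact (E_iff hC).2 (fact_cmul a ha b hb)

theorem c_inj {a b : ℕ} (ha : a < 4) (hb : b < 4) (h : E f (cW a) = E f (cW b)) : a = b := by
  have e := c_mul hC ha hb
  rw [h, c_mul hC hb hb, Nat.xor_self] at e
  exact Nat.xor_eq_zero_iff.1 (fact_cinj _ (Nat.xor_lt_two_pow (n := 2) ha hb) ((E_iff hC).1 e.symm))

/-- Elements of `T` commuting with all six generators modulo the centre. -/
theorem central_inner {τ : G} (hτ : InT f τ) (h : ∀ k < 6, InZ f (τ * E f [k] * τ⁻¹ * (E f [k])⁻¹)) :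
    ∃ a < 8, (∃ c < 4, τ = E f (wW a) * E f (cW c)) ∧
      ∀ k < 6, τ * E f [k] * τ⁻¹ * (E f [k])⁻¹ = E f (cW (innV a k)) := by
  obtain ⟨p, r, hp, hr, a, ha, c, hc, rfl⟩ := cl_of_inT hC hτ
  have hW : InW f (E f (wW a ++ cW c)) := ⟨a, ha, c, hc, rfl⟩
  have hsplit : E f (el p r a c) = E f (pW p ++ uW r) * E f (wW a ++ cW c) := by
    rw [← E_append, el, List.append_assoc]
  have hpr : p = 0 ∧ r = 0 := by
    refine fact_central p hp r hr fun k hk => to_zCodes hC ?_
    have hk' : InT f (E f [k]) := inT_E (by simpa using hk)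
    have hA : InT f (E f (pW p ++ uW r)) :=
      inT_E fun x hx => (List.mem_append.1 hx).elim (low_pW p x) (low_uW r x)
    set A := E f (pW p ++ uW r) with hAdef
    set W := E f (wW a ++ cW c) with hWdef
    have z1 : InZ f (W * E f [k] * W⁻¹ * (E f [k])⁻¹) := by
      rw [show W * E f [k] * W⁻¹ * (E f [k])⁻¹ = (E f [k] * W * (E f [k])⁻¹ * W⁻¹)⁻¹ by group,
        z_inv hC (w_conj hC hk' hW)]
      exact w_conj hC hk' hW
    have h' := h k hk
    rw [hsplit, show A * W * E f [k] * (A * W)⁻¹ * (E f [k])⁻¹ =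
      A * (W * E f [k] * W⁻¹ * (E f [k])⁻¹) * E f [k] * A⁻¹ * (E f [k])⁻¹ by group,
      ← z_comm hC z1 hA] at h'
    have := z_mul hC (show InZ f (W * E f [k] * W⁻¹ * (E f [k])⁻¹)⁻¹ by rw [z_inv hC z1]; exact z1) h'
    rw [E_cm hC, ← hAdef]
    convert this using 1
    group
  obtain ⟨rfl, rfl⟩ := hpr
  have hel : E f (el 0 0 a c) = E f (wW a) * E f (cW c) := by rw [← E_append]; rfl
  refine ⟨a, ha, ⟨c, hc, hel⟩, fun k hk => ?_⟩
  have hcom := z_comm hC ⟨c, hc, rfl⟩ (inT_E (f := f) (w := [k]) (by simpa using hk))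
  rw [hel, mul_inv_rev, show ∀ A C K : G, A * C * K * (C⁻¹ * A⁻¹) * K⁻¹ = A * (C * K) * C⁻¹ * A⁻¹ * K⁻¹ from
    fun A C K => by group, hcom, ← mul_assoc, mul_inv_cancel_right, ← E_cm hC]
  exact (E_iff hC).2 (fact_inn a ha k hk)

theorem Swaps.left_mul {g τ : G} (hg : Swaps S f g) (hτ : InT f τ) : Swaps S f (τ * g) := by
  obtain ⟨h1, h2⟩ := comm_of_inT hC hτ
  constructor
  · rw [show τ * g * S.t * (τ * g)⁻¹ = τ * (g * S.t * g⁻¹) * τ⁻¹ by group, hg.left, h2, mul_inv_cancel_right]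
  · rw [show τ * g * f 6 * (τ * g)⁻¹ = τ * (g * f 6 * g⁻¹) * τ⁻¹ by group, hg.right, h1, mul_inv_cancel_right]

/-- The standard image up to the commutator subgroup. -/
theorem img_form {g : G} (hg : Swaps S f g) (k : ℕ) (hk : k < 6) :
    ∃ a < 8, ∃ c < 4, g * E f [k] * g⁻¹ = E f (SW k) * (E f (wW a) * E f (cW c)) := by
  have hcl : Cl f (g * E f [k] * g⁻¹) (cl k).2 (cl k).1 := by
    by_cases h3 : k < 3
    · simpa [cl, h3] using (img_class hC hg k h3).1
    · have := (img_class hC hg (k - 3) (by omega)).2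
      rw [show 3 + (k - 3) = k by omega] at this
      simpa [cl, h3, hk] using this
  have hs := exists_cl hC (SW k) (fact_SW k hk).1
  rw [(fact_SW k hk).2] at hs
  obtain ⟨a, ha, c, hc, e⟩ := same_class hC hs hcl
  exact ⟨a, ha, c, hc, by rw [← E_append, ← e, mul_inv_cancel_left]⟩

/-- Inner elements remove the commutator parts on one half. -/
theorem kill_half {g : G} (hg : Swaps S f g) {o : ℕ} (ho : o ∈ [0, 3]) :
    ∃ p < 8, ∀ i < 3, ∃ z, InZ f z ∧
      (E f (hW o p) * g) * E f [o + i] * (E f (hW o p) * g)⁻¹ = E f (SW (o + i)) * z := by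
  have h6 : ∀ i < 3, o + i < 6 := fun i hi => by simp at ho; omega
  choose a ha c hc himg using fun i (hi : i < 3) => img_form hC hg (o + i) (h6 i hi)
  set V : ∀ i, i < 3 → G := fun i hi => E f (SW (o + i) ++ wW (a i hi)) with hV
  have himg' : ∀ i (hi : i < 3), g * E f [o + i] * g⁻¹ = V i hi * E f (cW (c i hi)) := fun i hi => by
    rw [himg i hi, hV, ← mul_assoc, ← E_append]
  have hVT : ∀ i (hi : i < 3), InT f (V i hi) := fun i hi =>
    inT_E fun x hx => (List.mem_append.1 hx).elim ((fact_SW _ (h6 i hi)).1 x) (low_wW _ x)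
  have hsqb : ∀ i (hi : i < 3), (a i hi).testBit i = false := fun i hi => by
    refine fact_sqW o ho i hi _ (ha i hi) ((E_iff hC).1 ?_)
    rw [E_append, E_nil]
    have e : g * E f [o + i] * g⁻¹ * (g * E f [o + i] * g⁻¹) = 1 := by
      rw [← conj_prod, E_sq hC, mul_one, mul_inv_cancel]
    rw [himg' i hi, mul_assoc, ← mul_assoc (E f (cW _)), c_comm hC (hc i hi) (w := SW (o + i) ++ wW (a i hi))
      (fun x hx => (List.mem_append.1 hx).elim ((fact_SW _ (h6 i hi)).1 x) (low_wW _ x)), mul_assoc,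
      c_mul hC (hc i hi) (hc i hi), Nat.xor_self, show E f (cW 0) = 1 from rfl, mul_one] at e
    exact e
  have hcm : ∀ i j (hi : i < 3) (hj : j < 3), i < j → (a i hi).testBit j = (a j hj).testBit i := by
    intro i j hi hj hij
    refine fact_commW o ho i hi j hj hij _ (ha i hi) _ (ha j hj) (hsqb i hi) (hsqb j hj) ((E_iff hC).1 ?_)
    have e : g * E f [o + i] * g⁻¹ * (g * E f [o + j] * g⁻¹) = g * E f [o + j] * g⁻¹ * (g * E f [o + i] * g⁻¹) := by
      have e0 := (E_iff hC).2 (fact_gencomm o ho i hi j hj)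
      rw [E_cons f (o + i), E_cons f (o + j) [o + i]] at e0
      rw [← conj_prod, ← conj_prod, e0]
    rw [E_append f (SW (o + i) ++ wW (a i hi)), E_append f (SW (o + j) ++ wW (a j hj))]
    rw [himg' i hi, himg' j hj] at e
    change V i hi * V j hj = V j hj * V i hi
    have ci := z_comm hC ⟨c i hi, hc i hi, rfl⟩ (hVT j hj)
    have cj := z_comm hC ⟨c j hj, hc j hj, rfl⟩ (hVT i hi)
    have cc := z_comm hC ⟨c i hi, hc i hi, rfl⟩ (inT_E (f := f) (low_cW (c j hj)))
    have h1 : ∀ A B x y : G, x * B = B * x → A * x * (B * y) = A * B * (x * y) := fun A B x y h => by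
      rw [mul_assoc, ← mul_assoc x, h]; simp only [mul_assoc]
    rw [h1 _ _ _ _ ci, h1 _ _ _ _ cj, cc] at e
    exact mul_right_cancel e
  obtain ⟨p, hp, e0, e1, e2⟩ := fact_solve (ha 0 (by norm_num)) (ha 1 (by norm_num)) (ha 2 (by norm_num))
    (hsqb 0 _) (hsqb 1 _) (hsqb 2 _) (hcm 0 1 _ _ (by norm_num)) (hcm 0 2 _ _ (by norm_num)) (hcm 1 2 _ _ (by norm_num))
  refine ⟨p, hp, fun i hi => ?_⟩
  have hai : cross (2 ^ i) p = a i hi := by interval_cases i <;> assumption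
  obtain ⟨y, hy, hcj⟩ := List.mem_map.1 (fact_conjW o ho i hi p hp)
  have hy4 : y < 4 := List.mem_range.1 hy
  have hcj' := (E_iff hC).2 hcj.symm
  rw [E_append f (hW o p ++ SW (o + i)), E_rev hC, E_append f (hW o p), E_append f (SW (o + i) ++ _), E_append,
    hai] at hcj'
  set τ := E f (hW o p)
  have hτ : InT f τ := inT_E (hW_low o p)
  have hW' : InW f (E f (wW (a i hi))) :=
    ⟨a i hi, ha i hi, 0, by norm_num, by rw [show cW 0 = [] from rfl, List.append_nil]⟩
  obtain ⟨d, hd, hd'⟩ := w_conj hC hτ hW'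
  have hww : InZ f (E f (wW (a i hi)) * E f (wW (a i hi))) := by
    rw [← E_append]; exact of_zCodes hC (fact_wxor _ (ha i hi))
  refine ⟨E f (cW y) * E f (cW d) * (E f (wW (a i hi)) * E f (wW (a i hi))) * E f (cW (c i hi)),
    z_mul hC (z_mul hC (z_mul hC ⟨y, hy4, rfl⟩ ⟨d, hd, rfl⟩) hww) ⟨c i hi, hc i hi, rfl⟩, ?_⟩
  have hcz := z_comm hC ⟨c i hi, hc i hi, rfl⟩ (inT_inv hC hτ)
  rw [show τ * g * E f [o + i] * (τ * g)⁻¹ = τ * (g * E f [o + i] * g⁻¹) * τ⁻¹ by group, himg i hi,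
    show ∀ A B C : G, τ * (A * (B * C)) * τ⁻¹ = τ * A * τ⁻¹ * (τ * B * (C * τ⁻¹)) from fun A B C => by group,
    hcz, ← mul_assoc (τ * E f (wW (a i hi))), hcj', show τ * E f (wW (a i hi)) * τ⁻¹ =
      E f (cW d) * E f (wW (a i hi)) by rw [← hd']; group]
  have hy' := z_comm hC ⟨y, hy4, rfl⟩ (inT_E (f := f) (low_wW (a i hi)))
  have hd2 := z_comm hC ⟨d, hd, rfl⟩ (inT_E (f := f) (low_wW (a i hi)))
  simp only [mul_assoc]
  rw [← mul_assoc (E f (cW y)) (E f (cW d)), ← mul_assoc (E f (wW (a i hi))) (E f (cW y) * E f (cW d)),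
    ← z_comm hC (z_mul hC ⟨y, hy4, rfl⟩ ⟨d, hd, rfl⟩) (inT_E (f := f) (low_wW (a i hi)))]
  simp only [mul_assoc]

/-- Inner elements bring every image into the standard coset of the centre. -/
theorem exists_central_form {g : G} (hg : Swaps S f g) : ∃ g', Swaps S f g' ∧ ∀ k < 6,
    ∃ c < 4, g' * E f [k] * g'⁻¹ = E f (SW k) * E f (cW c) := by
  obtain ⟨p, hp, h1⟩ := kill_half hC hg (o := 0) (by simp)
  set g1 := E f (hW 0 p) * g
  have hg1 : Swaps S f g1 := Swaps.left_mul hC hg (inT_E (hW_low 0 p))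
  obtain ⟨r, hr, h2⟩ := kill_half hC hg1 (o := 3) (by simp)
  refine ⟨E f (hW 3 r) * g1, Swaps.left_mul hC hg1 (inT_E (hW_low 3 r)), fun k hk => ?_⟩
  suffices ∃ z, InZ f z ∧ E f (hW 3 r) * g1 * E f [k] * (E f (hW 3 r) * g1)⁻¹ = E f (SW k) * z by
    obtain ⟨z, ⟨c, hc, rfl⟩, e⟩ := this
    exact ⟨c, hc, e⟩
  by_cases h3 : k < 3
  · obtain ⟨z, hz, e⟩ := h1 k h3
    rw [Nat.zero_add] at e
    obtain ⟨y, hy, hk'⟩ := List.mem_map.1 (fact_keep r hr k h3)
    have hk'' := (E_iff hC).2 hk'.symm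
    rw [E_append, E_rev hC, E_append, E_append] at hk''
    refine ⟨E f (cW y) * z, z_mul hC ⟨y, List.mem_range.1 hy, rfl⟩ hz, ?_⟩
    rw [show hW 3 r = uW r from rfl, show E f (uW r) * g1 * E f [k] * (E f (uW r) * g1)⁻¹ =
      E f (uW r) * (g1 * E f [k] * g1⁻¹) * (E f (uW r))⁻¹ by group, e,
      show ∀ U A z : G, U * (A * z) * U⁻¹ = U * A * (z * U⁻¹) from fun U A z => by group,
      z_comm hC hz (inT_inv hC (inT_E (low_uW r))), ← mul_assoc, hk'', mul_assoc]
  · obtain ⟨z, hz, e⟩ := h2 (k - 3) (by omega)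
    rw [show 3 + (k - 3) = k by omega] at e
    exact ⟨z, hz, e⟩

/-- A further inner element leaves only the pure lift on the raising half. -/
theorem exists_shift_form {g : G} (hg : Swaps S f g)
    (hform : ∀ k < 6, ∃ c < 4, g * E f [k] * g⁻¹ = E f (SW k) * E f (cW c)) :
    ∃ g', Swaps S f g' ∧ (∀ k < 6, ∃ c < 4, g' * E f [k] * g'⁻¹ = E f (SW k) * E f (cW c)) ∧
      ∃ L < 8, ∀ i < 3, g' * E f [i] * g'⁻¹ = E f (SW i) * E f (cW (if L.testBit i then 2 else 0)) := by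
  choose c hc himg using hform
  obtain ⟨b, hb, hbit⟩ := fact_bits (c 0 (by norm_num)) (hc _ _) (c 1 (by norm_num)) (hc _ _) (c 2 (by norm_num)) (hc _ _)
  obtain ⟨L, hL, hLv⟩ := fact_twist _ (hbit 0 (by norm_num)) _ (hbit 1 (by norm_num)) _ (hbit 2 (by norm_num))
  have himg' : ∀ k (hk : k < 6), E f (wW b) * g * E f [k] * (E f (wW b) * g)⁻¹ = E f (SW k) *
      E f (cW ((if k < 3 then (if b.testBit k then 1 else 0) else (if b.testBit (k - 3) then 2 else 0)) ^^^ c k hk)) := by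
    intro k hk
    set d := (if k < 3 then (if b.testBit k then 1 else 0) else (if b.testBit (k - 3) then 2 else 0)) with hd
    have hd4 : d < 4 := by rw [hd]; split <;> split <;> norm_num
    have e := (E_iff hC).2 (fact_shift b hb k hk)
    rw [E_append, E_rev hC, E_append, E_append, ← hd] at e
    rw [show E f (wW b) * g * E f [k] * (E f (wW b) * g)⁻¹ =
      E f (wW b) * (g * E f [k] * g⁻¹) * (E f (wW b))⁻¹ by group, himg k hk,
      show ∀ U A z : G, U * (A * z) * U⁻¹ = U * A * (z * U⁻¹) from fun U A z => by group,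
      z_comm hC ⟨c k hk, hc k hk, rfl⟩ (inT_inv hC (inT_E (low_wW b))), ← mul_assoc, e, mul_assoc, c_mul hC hd4 (hc k hk)]
  refine ⟨E f (wW b) * g, Swaps.left_mul hC hg (inT_E (low_wW b)), fun k hk => ⟨_, ?_, himg' k hk⟩, L, hL,
    fun i hi => ?_⟩
  · exact Nat.xor_lt_two_pow (n := 2) (by split <;> split <;> norm_num) (hc k hk)
  · rw [himg' i (by omega), if_pos hi, ← hLv i hi, Nat.xor_comm]
    interval_cases i <;> rfl

end CfsgLib.Recog.OEightCent.Swap
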