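import Cfsg.Agent.Lib.Recog.OEightCent.SwapWords

/-!
The centralizer of `t` and the pure lift in a chart: normal forms and classes modulo the commutator subgroup.
-/

set_option autoImplicit false
set_option maxRecDepth 100000

namespace CfsgLib.Recog.OEightCent.Swap

open SwapData

theorem low_pW (m : ℕ) : ∀ k ∈ pW m, k < 6 := fun k hk => by
  simp [pW] at hk; omega

theorem low_uW (m : ℕ) : ∀ k ∈ uW m, k < 6 := fun k hk => by
  simp [uW, pW] at hk
  obtain ⟨a, ⟨ha, -⟩, rfl⟩ := hk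
  omega

theorem low_wW (m : ℕ) : ∀ k ∈ wW m, k < 6 := fun k hk => by
  simp only [wW, List.mem_flatMap] at hk
  obtain ⟨i, hi, hk⟩ := hk
  have hi3 : i < 3 := by simp [pW] at hi; omega
  exact (show ∀ i < 3, ∀ k ∈ wB.getD i [], k < 6 by decide +kernel) i hi3 k hk

theorem low_cW (c : ℕ) : ∀ k ∈ cW c, k < 6 := fun k hk => by
  simp only [cW, List.mem_append] at hk
  rcases hk with hk | hk <;> split at hk
  · exact (show ∀ k ∈ tW, k < 6 by decide +kernel) k hk
  · simp at hk
  · exact (show ∀ k ∈ xW, k < 6 by decide +kernel) k hk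
  · simp at hk

theorem low_el (p r a c : ℕ) : ∀ k ∈ el p r a c, k < 6 := fun k hk => by
  simp only [el, List.mem_append] at hk
  rcases hk with ((hk | hk) | hk) | hk
  exacts [low_pW p k hk, low_uW r k hk, low_wW a k hk, low_cW c k hk]

variable {G : Type*} [Group G] {S : Setup G} {f : ℕ → G}

/-- The value of a six-generator word. -/
def E (f : ℕ → G) (w : List ℕ) : G := wprod f (exp w)

theorem E_nil (f : ℕ → G) : E f [] = 1 := rfl

theorem E_append (f : ℕ → G) (v w : List ℕ) : E f (v ++ w) = E f v * E f w := by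
  simp [E, exp, wprod, List.flatMap_append]

theorem E_cons (f : ℕ → G) (k : ℕ) (w : List ℕ) : E f (k :: w) = E f [k] * E f w := E_append f [k] w

/-- In the six-generator subgroup. -/
def InT (f : ℕ → G) (h : G) : Prop := ∃ w, (∀ k ∈ w, k < 6) ∧ h = E f w

/-- In the centre. -/
def InZ (f : ℕ → G) (h : G) : Prop := ∃ c < 4, h = E f (cW c)

/-- In the commutator subgroup. -/
def InW (f : ℕ → G) (h : G) : Prop := ∃ a < 8, ∃ c < 4, h = E f (wW a ++ cW c)

/-- The class modulo the commutator subgroup. -/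
def Cl (f : ℕ → G) (h : G) (p r : ℕ) : Prop :=
  p < 8 ∧ r < 8 ∧ ∃ a < 8, ∃ c < 4, h = E f (el p r a c)

theorem inW_of_inZ {h : G} (hh : InZ f h) : InW f h := by
  obtain ⟨c, hc, rfl⟩ := hh
  exact ⟨0, by norm_num, c, hc, rfl⟩

theorem inT_E {w : List ℕ} (hw : ∀ k ∈ w, k < 6) : InT f (E f w) := ⟨w, hw, rfl⟩

variable [Finite G] (hC : S.Chart f)
include hC

theorem E_iff {v w : List ℕ} : E f v = E f w ↔ cs v = cs w := hC.word_iff (exp_low v) (exp_low w)

theorem E_word {v w : List ℕ} (hw : ∀ x ∈ w, x < 7) : E f v = wprod f w ↔ cs v = cd w :=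
  hC.word_iff (exp_low v) hw

theorem E_t : E f tW = S.t := by
  rw [← hC.zword]; exact (E_word hC letters_ok.2.2.1).2 fact_tx.1

theorem E_x : E f xW = f 6 := by
  rw [show f 6 = wprod f [6] by simp [wprod]]
  exact (E_word hC (by simp)).2 fact_tx.2

theorem E_sq (k : ℕ) : E f [k] * E f [k] = 1 := by
  rw [← E_append, ← E_nil f]
  by_cases hk : k < 6
  · exact (E_iff hC).2 (fact_sq k hk)
  · have : exp ([k] ++ [k]) = exp [] := by
      have he : gw.getD k [] = [] := List.getD_eq_default _ _ (by simpa [gw] using Nat.le_of_not_lt hk)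
      simp [exp, -List.getD_eq_getElem?_getD, he]
    exact congrArg (wprod f) this

theorem E_rev : ∀ w, E f w.reverse = (E f w)⁻¹
  | [] => by rw [List.reverse_nil, E_nil, inv_one]
  | k :: w => by
    rw [List.reverse_cons, E_append, E_rev w, E_cons f k w, mul_inv_rev,
      inv_eq_of_mul_eq_one_right (E_sq hC k)]

theorem E_cm (v w : List ℕ) : E f (cm v w) = E f v * E f w * (E f v)⁻¹ * (E f w)⁻¹ := by
  rw [cm, E_append, E_append, E_append, E_rev hC, E_rev hC]

theorem mem_list_two {v a b : List ℕ} (h : cs v ∈ [cs a, cs b]) : E f v = E f a ∨ E f v = E f b := by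
  simp only [List.mem_cons, List.not_mem_nil, or_false] at h
  exact h.imp (E_iff hC).2 (E_iff hC).2

theorem of_wCodes {v : List ℕ} (h : cs v ∈ wCodes) : InW f (E f v) := by
  simp only [wCodes, List.mem_flatMap, List.mem_map, List.mem_range] at h
  obtain ⟨a, ha, c, hc, e⟩ := h
  exact ⟨a, ha, c, hc, (E_iff hC).2 e.symm⟩

theorem of_zCodes {v : List ℕ} (h : cs v ∈ zCodes) : InZ f (E f v) := by
  simp only [zCodes, List.mem_map, List.mem_range] at h
  obtain ⟨c, hc, e⟩ := h
  exact ⟨c, hc, (E_iff hC).2 e.symm⟩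

theorem to_wCodes {v : List ℕ} (h : InW f (E f v)) : cs v ∈ wCodes := by
  obtain ⟨a, ha, c, hc, e⟩ := h
  simp only [wCodes, List.mem_flatMap, List.mem_map, List.mem_range]
  exact ⟨a, ha, c, hc, ((E_iff hC).1 e).symm⟩

theorem to_zCodes {v : List ℕ} (h : InZ f (E f v)) : cs v ∈ zCodes := by
  obtain ⟨c, hc, e⟩ := h
  simp only [zCodes, List.mem_map, List.mem_range]
  exact ⟨c, hc, ((E_iff hC).1 e).symm⟩

omit [Finite G] hC in
theorem one_inW : InW f (1 : G) := inW_of_inZ ⟨0, by norm_num, (E_nil f).symm⟩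

/-- The centre commutes with the six generators. -/
theorem c_comm {c : ℕ} (hc : c < 4) {w : List ℕ} (hw : ∀ k ∈ w, k < 6) :
    E f (cW c) * E f w = E f w * E f (cW c) := by
  induction w with
  | nil => rw [E_nil, mul_one, one_mul]
  | cons k w ih =>
    have e := (E_iff hC).2 (fact_cent c hc k (hw k List.mem_cons_self))
    rw [E_append, E_append] at e
    rw [E_cons f k, ← mul_assoc, e, mul_assoc, ih fun x hx => hw x (List.mem_cons_of_mem _ hx), mul_assoc]

theorem z_comm {z h : G} (hz : InZ f z) (hh : InT f h) : z * h = h * z := by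
  obtain ⟨c, hc, rfl⟩ := hz
  obtain ⟨w, hw, rfl⟩ := hh
  exact c_comm hC hc hw

theorem z_mul {z z' : G} (hz : InZ f z) (hz' : InZ f z') : InZ f (z * z') := by
  obtain ⟨a, ha, rfl⟩ := hz
  obtain ⟨b, hb, rfl⟩ := hz'
  refine ⟨a ^^^ b, Nat.xor_lt_two_pow (n := 2) ha hb, ?_⟩
  rw [← E_append]
  exact (E_iff hC).2 (fact_cmul a ha b hb)

theorem z_inv {z : G} (hz : InZ f z) : z⁻¹ = z := by
  obtain ⟨a, ha, rfl⟩ := hz
  refine inv_eq_of_mul_eq_one_right ?_
  rw [← E_append, (E_iff hC).2 (fact_cmul a ha a ha), Nat.xor_self]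
  rfl

omit [Finite G] hC in
theorem inT_W {h : G} (hh : InW f h) : InT f h := by
  obtain ⟨a, -, c, -, rfl⟩ := hh
  exact inT_E fun k hk => (List.mem_append.1 hk).elim (low_wW a k) (low_cW c k)

omit [Finite G] hC in
theorem inT_mul {g h : G} (hg : InT f g) (hh : InT f h) : InT f (g * h) := by
  obtain ⟨v, hv, rfl⟩ := hg
  obtain ⟨w, hw, rfl⟩ := hh
  exact ⟨v ++ w, fun k hk => (List.mem_append.1 hk).elim (hv k) (hw k), (E_append f v w).symm⟩

theorem inT_inv {g : G} (hg : InT f g) : InT f g⁻¹ := by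
  obtain ⟨v, hv, rfl⟩ := hg
  exact ⟨v.reverse, fun k hk => hv k (List.mem_reverse.1 hk), (E_rev hC v).symm⟩

theorem inW_mul {g h : G} (hg : InW f g) (hh : InW f h) : InW f (g * h) := by
  obtain ⟨a, ha, c, hc, rfl⟩ := hg
  obtain ⟨b, hb, d, hd, rfl⟩ := hh
  obtain ⟨e, he, z, hz, h1⟩ := of_wCodes hC (fact_wmul a ha b hb).1
  obtain ⟨z', hz', h2⟩ := z_mul hC (z_mul hC ⟨z, hz, rfl⟩ ⟨c, hc, rfl⟩) ⟨d, hd, rfl⟩
  refine ⟨e, he, z', hz', ?_⟩
  rw [E_append, E_append, E_append f (wW e), ← h2]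
  rw [E_append, E_append] at h1
  have hcb := c_comm hC hc (low_wW b)
  rw [mul_assoc, ← mul_assoc (E f (cW c)), hcb, mul_assoc (E f (wW b)), ← mul_assoc (E f (wW a)), h1]
  simp only [mul_assoc]

theorem inW_inv {g : G} (hg : InW f g) : InW f g⁻¹ := by
  obtain ⟨a, ha, c, hc, rfl⟩ := hg
  rw [E_append, mul_inv_rev, z_inv hC ⟨c, hc, rfl⟩, ← E_rev hC]
  exact inW_mul hC (inW_of_inZ ⟨c, hc, rfl⟩) (of_wCodes hC (fact_winv a ha))

theorem inW_comm {g h : G} (hg : InW f g) (hh : InW f h) : g * h = h * g := by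
  obtain ⟨a, ha, c, hc, rfl⟩ := hg
  obtain ⟨b, hb, d, hd, rfl⟩ := hh
  have e := (E_iff hC).2 (fact_wmul a ha b hb).2
  rw [E_append, E_append] at e
  have c1 : Commute (E f (cW c)) (E f (wW b) * E f (cW d)) := by
    show _ = _
    rw [← E_append]
    exact c_comm hC hc fun k hk => (List.mem_append.1 hk).elim (low_wW b k) (low_cW d k)
  have c2 : Commute (E f (cW d)) (E f (wW a)) := c_comm hC hd (low_wW a)
  rw [E_append, E_append]
  exact ((Commute.mul_right (show Commute (E f (wW a)) (E f (wW b)) from e) c2.symm).mul_left c1).eq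

/-- Conjugation moves the commutator subgroup only by the centre. -/
theorem w_conj {g w : G} (hg : InT f g) (hw : InW f w) : InZ f (g * w * g⁻¹ * w⁻¹) := by
  obtain ⟨v, hv, rfl⟩ := hg
  induction v with
  | nil => exact ⟨0, by norm_num, by simp [E_nil, cW]⟩
  | cons k v ih =>
    obtain ⟨a, ha, c, hc, rfl⟩ := hw
    have hk := hv k List.mem_cons_self
    obtain h1 := ih fun x hx => hv x (List.mem_cons_of_mem _ hx)
    have h2 : InZ f (E f [k] * E f (wW a ++ cW c) * (E f [k])⁻¹ * (E f (wW a ++ cW c))⁻¹) := by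
      have e := of_zCodes hC (fact_wnorm a ha k hk).2
      rw [E_cm hC] at e
      convert e using 1
      have hc' := z_comm hC ⟨c, hc, rfl⟩ (inT_inv hC (inT_E (f := f) (w := [k]) (by simpa using hk)))
      rw [E_append, mul_inv_rev, show ∀ K A C : G, K * (A * C) * K⁻¹ * (C⁻¹ * A⁻¹) =
        K * A * (C * K⁻¹) * (C⁻¹ * A⁻¹) from fun K A C => by group, hc']
      group
    rw [E_cons f k v, show E f [k] * E f v * E f (wW a ++ cW c) * (E f [k] * E f v)⁻¹ * (E f (wW a ++ cW c))⁻¹ =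
      E f [k] * (E f v * E f (wW a ++ cW c) * (E f v)⁻¹ * (E f (wW a ++ cW c))⁻¹) * (E f [k])⁻¹ *
        (E f [k] * E f (wW a ++ cW c) * (E f [k])⁻¹ * (E f (wW a ++ cW c))⁻¹) by group]
    rw [← z_comm hC h1 (inT_E (w := [k]) (by simpa using hk)), mul_inv_cancel_right]
    exact z_mul hC h1 h2

theorem w_normal {g w : G} (hg : InT f g) (hw : InW f w) : InW f (g * w * g⁻¹) := by
  have := inW_mul hC (inW_of_inZ (w_conj hC hg hw)) hw
  rwa [inv_mul_cancel_right] at this

/-- Every element has a class. -/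
theorem exists_cl (w : List ℕ) (hw : ∀ k ∈ w, k < 6) : Cl f (E f w) (cls w).1 (cls w).2 := by
  suffices h : ∀ p < 8, ∀ r < 8, ∀ w : List ℕ, (∀ k ∈ w, k < 6) → ∀ u, InW f u →
      Cl f (E f (pW p ++ uW r) * u * E f w) (p ^^^ (cls w).1) (r ^^^ (cls w).2) by
    have := h 0 (by norm_num) 0 (by norm_num) w hw 1 (one_inW)
    simpa [pW, uW, E_nil] using this
  intro p hp r hr w
  induction w generalizing p r with
  | nil =>
    intro _ u hu
    obtain ⟨a, ha, c, hc, rfl⟩ := hu
    refine ⟨by simpa [cls] using hp, by simpa [cls] using hr, a, ha, c, hc, ?_⟩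
    simp only [cls, Nat.xor_zero, el, E_append, E_nil, mul_one, mul_assoc]
  | cons k w ih =>
    intro hw u hu
    have hk := hw k List.mem_cons_self
    have hcl : (cl k).1 < 8 ∧ (cl k).2 < 8 := (show ∀ k < 6, (cl k).1 < 8 ∧ (cl k).2 < 8 by decide) k hk
    set p' := p ^^^ (cl k).1
    set r' := r ^^^ (cl k).2
    have hs := of_wCodes hC (fact_step p hp r hr k hk)
    rw [E_append, E_rev hC, E_append] at hs
    have hu' := w_normal hC (inT_inv hC (inT_E (w := [k]) (by simpa using hk))) hu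
    have := ih p' (Nat.xor_lt_two_pow (n := 3) hp hcl.1) r' (Nat.xor_lt_two_pow (n := 3) hr hcl.2)
      (fun x hx => hw x (List.mem_cons_of_mem _ hx)) _ (inW_mul hC hs hu')
    convert this using 1
    · rw [E_cons f k w]; simp only [E_append, p', r']; group
    · exact (Nat.xor_assoc _ _ _).symm
    · exact (Nat.xor_assoc _ _ _).symm

theorem cl_unique_one {p r : ℕ} (h : Cl f (1 : G) p r) : p = 0 ∧ r = 0 := by
  obtain ⟨hp, hr, a, ha, c, hc, e⟩ := h
  refine (fact_pu p hp r hr).2 (to_wCodes hC ?_)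
  have hw : InW f (E f (wW a ++ cW c)) := ⟨a, ha, c, hc, rfl⟩
  have he : E f (pW p ++ uW r) = (E f (wW a ++ cW c))⁻¹ := by
    refine eq_inv_of_mul_eq_one_left ?_
    rw [← E_append, ← List.append_assoc]
    exact e.symm
  rw [he]
  exact inW_inv hC hw

end CfsgLib.Recog.OEightCent.Swap
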