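import Cfsg.Agent.Lib.Recog.OEightCent.SwapClass

/-!
An element exchanging `t` and the pure lift exchanges the two halves of the generators modulo commutators.
-/

set_option autoImplicit false
set_option maxRecDepth 100000
set_option Elab.async false

namespace CfsgLib.Recog.OEightCent.Swap

open SwapData

/-- The element moving the pure lift to its translate. -/
def qL : List ℕ := [3, 4, 5, 6, 5, 4, 3]

/-- The pairs giving the three commutators. -/
def pairI (k : ℕ) : ℕ := if k = 0 then 1 else 0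

/-- Second member. -/
def pairJ (k : ℕ) : ℕ := if k = 2 then 1 else 2

/-- The linear map with the given values on the basis. -/
def comb (m0 m1 m2 p : ℕ) : ℕ :=
  (if p.testBit 0 then m0 else 0) ^^^ (if p.testBit 1 then m1 else 0) ^^^ (if p.testBit 2 then m2 else 0)

/-- The commutator of two classes. -/
def cross (n m : ℕ) : ℕ :=
  (if (n.testBit 1 && m.testBit 2) ^^ (n.testBit 2 && m.testBit 1) then 1 else 0) +
  (if (n.testBit 0 && m.testBit 2) ^^ (n.testBit 2 && m.testBit 0) then 2 else 0) +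
  (if (n.testBit 0 && m.testBit 1) ^^ (n.testBit 1 && m.testBit 0) then 4 else 0)

/-- The pairing. -/
def dot (m a : ℕ) : Bool :=
  ((m.testBit 0 && a.testBit 0) ^^ (m.testBit 1 && a.testBit 1)) ^^ (m.testBit 2 && a.testBit 2)

theorem cross_lt : ∀ n < 8, ∀ m < 8, cross n m < 8 := by decide +kernel

theorem fact_cross : ∀ m < 8, ∀ n < 8,
    cs (cm (uW m) (pW n)) ∈ (List.range 4).map (fun c => cs (wW (cross n m) ++ cW c)) := by
  decide +kernel

theorem fact_dot : ∀ m < 8, ∀ a < 8, cs (cm (uW m) (wW a)) = cs (cW (if dot m a then 1 else 0)) ∧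
    cs (cm (pW m) (wW a)) = cs (cW (if dot m a then 2 else 0)) := by
  decide +kernel

theorem code_bool : ∀ v ∈ [1, 2], ∀ x b : Bool,
    cs (cW (if x then v else 0)) = cs (cW (if b then v else 0)) → x = b := by
  decide +kernel

theorem fact_wB : ∀ k < 3, wB.getD k [] = cm [pairI k] [3 + pairJ k] ∧
    ∀ l < 3, cs (cm [l] (wB.getD k [])) = cs (cW (if l = k then 2 else 0)) ∧
      cs (cm [3 + l] (wB.getD k [])) = cs (cW (if l = k then 1 else 0)) := by
  decide +kernel

theorem fact_sigma : (∀ k < 6, cd (qL ++ gw.getD k [] ++ qL) = cs (sigW.getD k []) ∧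
      (∀ i ∈ sigW.getD k [], i < 6) ∧ cls (sigW.getD k []) = ((cl k).1, (cl k).1 ^^^ (cl k).2)) ∧
    cd (qL ++ qL) = cd [] ∧ cd (qL ++ exp tW ++ qL) = cs tW ∧ cd (qL ++ exp xW ++ qL) = cs (cW 3) := by
  decide +kernel

/-- The conditions on the two matrices. -/
def matOK (a b c d e f : ℕ) : Bool :=
  comb d e f a == 1 && comb d e f b == 2 && comb d e f c == 4 &&
  (List.range 3).all (fun l => (List.range 3).all fun k =>
    dot ([a, b, c].getD l 0) (cross ([d, e, f].getD (pairJ k) 0) ([a, b, c].getD (pairI k) 0)) == (l == k) &&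
    dot ([d, e, f].getD l 0) (cross ([d, e, f].getD (pairJ k) 0) ([a, b, c].getD (pairI k) 0)) == (l == k)) &&
  (List.range 3).all fun i => comb d e f (comb d e f (comb d e f (2 ^ i) ^^^ comb a b c (2 ^ i)) ^^^
    comb a b c (comb d e f (2 ^ i))) == 2 ^ i

theorem mat_all : ((List.range 512).all fun m =>
    (List.range 8).all fun d => comb (m % 8) (m / 8 % 8) (m / 64) d != 1 ||
      ((List.range 8).all fun e => comb (m % 8) (m / 8 % 8) (m / 64) e != 2 ||
        ((List.range 8).all fun f => comb (m % 8) (m / 8 % 8) (m / 64) f != 4 ||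
          (!matOK (m % 8) (m / 8 % 8) (m / 64) d e f || (m == 273 && d == 1 && e == 2 && f == 4))))) = true := by
  decide +kernel

theorem fact_matrix {a b c d e f : ℕ} (ha : a < 8) (hb : b < 8) (hc : c < 8) (hd : d < 8) (he : e < 8) (hf : f < 8)
    (h1 : comb a b c d = 1) (h2 : comb a b c e = 2) (h3 : comb a b c f = 4) (h4 : matOK a b c d e f = true) :
    (a = 1 ∧ b = 2 ∧ c = 4) ∧ d = 1 ∧ e = 2 ∧ f = 4 := by
  have h := mat_all
  simp only [List.all_eq_true, List.mem_range, Bool.or_eq_true, bne_iff_ne, Bool.and_eq_true, beq_iff_eq,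
    Bool.not_eq_true'] at h
  have e0 : (a + 8 * b + 64 * c) % 8 = a := by omega
  have e1 : (a + 8 * b + 64 * c) / 8 % 8 = b := by omega
  have e2 : (a + 8 * b + 64 * c) / 64 = c := by omega
  have h' := h (a + 8 * b + 64 * c) (by omega) d hd
  rw [e0, e1, e2] at h'
  have h'' := ((((h'.resolve_left (not_not.2 h1)) e he).resolve_left (not_not.2 h2)) f hf).resolve_left (not_not.2 h3)
  rw [h4] at h''
  obtain ⟨⟨⟨hm, r1⟩, r2⟩, r3⟩ := h''.resolve_left (by simp)
  exact ⟨by omega, r1, r2, r3⟩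

theorem comb_xor (m0 m1 m2 a b : ℕ) : comb m0 m1 m2 (a ^^^ b) = comb m0 m1 m2 a ^^^ comb m0 m1 m2 b := by
  have hc : ∀ x y : ℕ, x ^^^ (x ^^^ y) = y := fun x y => by rw [← Nat.xor_assoc, Nat.xor_self, Nat.zero_xor]
  unfold comb
  simp only [Nat.testBit_xor]
  cases a.testBit 0 <;> cases a.testBit 1 <;> cases a.testBit 2 <;>
    cases b.testBit 0 <;> cases b.testBit 1 <;> cases b.testBit 2 <;>
    simp [Nat.xor_comm, Nat.xor_left_comm, Nat.xor_assoc, hc]

theorem comb_basis (m0 m1 m2 : ℕ) : comb m0 m1 m2 0 = 0 ∧ comb m0 m1 m2 1 = m0 ∧ comb m0 m1 m2 2 = m1 ∧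
    comb m0 m1 m2 4 = m2 := by
  simp [comb, show Nat.testBit 1 1 = false from rfl, show Nat.testBit 1 2 = false from rfl,
    show Nat.testBit 2 1 = true from rfl, show Nat.testBit 2 2 = false from rfl, show Nat.testBit 2 0 = false from rfl,
    show Nat.testBit 4 0 = false from rfl, show Nat.testBit 4 1 = false from rfl, show Nat.testBit 4 2 = true from rfl]

theorem comb_lt {m0 m1 m2 : ℕ} (h0 : m0 < 8) (h1 : m1 < 8) (h2 : m2 < 8) (p : ℕ) : comb m0 m1 m2 p < 8 := by
  unfold comb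
  refine Nat.xor_lt_two_pow (n := 3) (Nat.xor_lt_two_pow (n := 3) ?_ ?_) ?_ <;> split <;> norm_num <;> assumption

variable {G : Type*} [Group G] {S : Setup G} {f : ℕ → G}

/-- An element exchanging `t` and the pure lift. -/
structure Swaps (S : Setup G) (f : ℕ → G) (g : G) : Prop where
  left : g * S.t * g⁻¹ = f 6
  right : g * f 6 * g⁻¹ = S.t

theorem Swaps.symm {g : G} (hg : Swaps S f g) : Swaps S f g⁻¹ :=
  ⟨by rw [← hg.right]; group, by rw [← hg.left]; group⟩

theorem conj_prod (g a b : G) : g * (a * b) * g⁻¹ = g * a * g⁻¹ * (g * b * g⁻¹) := by group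

theorem conj_comm (g a b : G) : g * (a * b * a⁻¹ * b⁻¹) * g⁻¹ =
    g * a * g⁻¹ * (g * b * g⁻¹) * (g * a * g⁻¹)⁻¹ * (g * b * g⁻¹)⁻¹ := by group

variable [Finite G] (hC : S.Chart f) {g : G} (hg : Swaps S f g)
include hC

theorem E_c1 : E f (cW 1) = S.t := by rw [← E_t hC]; rfl

theorem E_c2 : E f (cW 2) = f 6 := by rw [← E_x hC]; rfl

include hg

theorem img_inT {h : G} (hh : InT f h) : InT f (g * h * g⁻¹) := by
  obtain ⟨h1, h2⟩ := comm_of_inT hC hh
  refine inT_of_comm hC ?_ ?_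
  · rw [← hg.right, ← conj_prod, h2, conj_prod]
  · rw [← hg.left, ← conj_prod, h1, conj_prod]

theorem img_Z {c : ℕ} (hc : c < 4) :
    g * E f (cW c) * g⁻¹ = E f (cW (if c = 1 then 2 else if c = 2 then 1 else c)) := by
  have h3 : E f (cW 3) = S.t * f 6 := by
    rw [← E_c1 hC, ← E_c2 hC, ← E_append]; exact ((E_iff hC).2 (fact_cmul 1 (by norm_num) 2 (by norm_num))).symm
  have h0 : E f (cW 0) = 1 := rfl
  interval_cases c <;> simp only [show (0:ℕ) ≠ 1 by norm_num, show (0:ℕ) ≠ 2 by norm_num, show (2:ℕ) ≠ 1 by norm_num,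
    show (3:ℕ) ≠ 1 by norm_num, show (3:ℕ) ≠ 2 by norm_num, if_true, if_false]
  · rw [h0, mul_one, mul_inv_cancel]
  · rw [E_c1 hC, E_c2 hC, hg.left]
  · rw [E_c1 hC, E_c2 hC, hg.right]
  · rw [h3, conj_prod, hg.left, hg.right, ← E_c1 hC, ← E_c2 hC]
    exact z_comm hC ⟨2, by norm_num, rfl⟩ (inT_E (low_cW 1))

theorem img_inW {w : G} (hw : InW f w) : InW f (g * w * g⁻¹) := by
  obtain ⟨a, ha, c, hc, rfl⟩ := hw
  rw [E_append, conj_prod]
  refine inW_mul hC ?_ ?_
  · have key : ∀ L : List ℕ, (∀ k ∈ L, k < 3) → InW f (g * E f (L.flatMap fun i => wB.getD i []) * g⁻¹) := by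
      intro L
      induction L with
      | nil => intro _; simpa [E_nil] using one_inW (f := f)
      | cons k L ih =>
        intro hL
        have hk := hL k List.mem_cons_self
        rw [List.flatMap_cons, E_append, conj_prod]
        refine inW_mul hC ?_ (ih fun x hx => hL x (List.mem_cons_of_mem _ hx))
        rw [(fact_wB k hk).1, E_cm hC, conj_comm]
        exact comm_inW hC (img_inT hC hg (inT_E (by simp [pairI]; split <;> omega)))
          (img_inT hC hg (inT_E (by simp [pairJ]; split <;> omega)))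
    exact key (pW a) fun k hk => by simp [pW] at hk; omega
  · rw [img_Z hC hg hc]
    exact inW_of_inZ ⟨_, by split_ifs <;> omega, rfl⟩

/-- The image of a generator lies in the opposite half. -/
theorem img_half (i : ℕ) (hi : i < 3) :
    (∃ m, Cl f (g * E f [i] * g⁻¹) 0 m) ∧ ∃ n, Cl f (g * E f [3 + i] * g⁻¹) n 0 := by
  have hc0 : ∀ w : G, InW f w → ∃ a < 8, ∃ z, InZ f z ∧ w = E f (wW a) * z := by
    rintro _ ⟨a, ha, c, hc, rfl⟩
    exact ⟨a, ha, _, ⟨c, hc, rfl⟩, E_append f _ _⟩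
  have main : ∀ j : ℕ, j < 6 → ∀ v : List ℕ,
      (∀ a < 8, cs (cm [j] (wW a)) ∈ [cs [], cs v]) → ∀ v' : List ℕ, g * E f v * g⁻¹ = E f v' →
      ∀ p r, Cl f (g * E f [j] * g⁻¹) p r → ∀ k < 3, cs (cm (pW p ++ uW r) (wB.getD k [])) ∈ [cs [], cs v'] := by
    intro j hj v hv v' hvv p r hcl k hk
    have hwk : InW f (E f (wB.getD k [])) :=
      ⟨2 ^ k, by interval_cases k <;> norm_num, 0, by norm_num,
        congrArg (E f) (by interval_cases k <;> decide)⟩
    obtain ⟨a, ha, z, hz, hw0⟩ := hc0 _ (img_inW hC hg.symm hwk)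
    rw [inv_inv] at hw0
    have hj' : InT f (E f [j]) := inT_E (by simpa using hj)
    have e : E f [j] * (g⁻¹ * E f (wB.getD k []) * g) * (E f [j])⁻¹ * (g⁻¹ * E f (wB.getD k []) * g)⁻¹ =
        E f (cm [j] (wW a)) := by
      rw [hw0, E_cm hC, mul_inv_rev, show ∀ J A z : G, J * (A * z) * J⁻¹ * (z⁻¹ * A⁻¹) =
        J * A * (z * J⁻¹) * (z⁻¹ * A⁻¹) from fun J A z => by group, z_comm hC hz (inT_inv hC hj')]
      group
    have e' := congrArg (fun h => g * h * g⁻¹) e
    rw [conj_comm, show g * (g⁻¹ * E f (wB.getD k []) * g) * g⁻¹ = E f (wB.getD k []) by group,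
      comm_class hC hcl hwk, ← E_cm hC] at e'
    rcases mem_list_two hC (hv a ha) with h | h <;> rw [h] at e'
    · rw [E_nil, mul_one, mul_inv_cancel, ← E_nil f] at e'
      exact List.mem_cons.2 (Or.inl ((E_iff hC).1 e'))
    · rw [hvv] at e'
      exact List.mem_cons_of_mem _ (List.mem_singleton.2 ((E_iff hC).1 e'))
  obtain ⟨p, r, hpr⟩ := cl_of_inT hC (img_inT hC hg (inT_E (w := [i]) (by simp; omega)))
  obtain ⟨p', r', hpr'⟩ := cl_of_inT hC (img_inT hC hg (inT_E (w := [3 + i]) (by simp; omega)))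
  have hp : p = 0 := (fact_sep p hpr.1 r hpr.2.1).2 (main i (by omega) xW
    (fun a ha => (fact_imgU 0 (by norm_num) i hi a ha).2.1) tW (by rw [E_x hC, E_t hC, hg.right]) p r hpr)
  have hr : r' = 0 := (fact_sep p' hpr'.1 r' hpr'.2.1).1 (main (3 + i) (by omega) tW
    (fun a ha => (fact_imgU 0 (by norm_num) i hi a ha).1) xW (by rw [E_x hC, E_t hC, hg.left]) p' r' hpr')
  exact ⟨⟨r, hp ▸ hpr⟩, p', hr ▸ hpr'⟩

/-- **The two halves are exchanged.** -/
theorem img_class (i : ℕ) (hi : i < 3) :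
    Cl f (g * E f [i] * g⁻¹) 0 (2 ^ i) ∧ Cl f (g * E f [3 + i] * g⁻¹) (2 ^ i) 0 := by
  obtain ⟨⟨a, ha⟩, d, hd⟩ := img_half hC hg 0 (by norm_num)
  obtain ⟨⟨b, hb⟩, e, he⟩ := img_half hC hg 1 (by norm_num)
  obtain ⟨⟨c, hc⟩, f', hf⟩ := img_half hC hg 2 (by norm_num)
  have lin : ∀ w : List ℕ, (∀ k ∈ w, k < 6) →
      Cl f (g * E f w * g⁻¹) (comb d e f' (cls w).2) (comb a b c (cls w).1) := by
    intro w
    induction w with
    | nil =>
      intro _
      simpa [E_nil, cls, comb] using cl_of_inW (one_inW (f := f))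
    | cons k w ih =>
      intro hw
      have hk := hw k List.mem_cons_self
      have hk' : Cl f (g * E f [k] * g⁻¹) (comb d e f' (cl k).2) (comb a b c (cl k).1) := by
        obtain ⟨z0, o0, t0, f0⟩ := comb_basis d e f'
        obtain ⟨z1, o1, t1, f1⟩ := comb_basis a b c
        interval_cases k <;> simpa [cl, z0, o0, t0, f0, z1, o1, t1, f1]
      have := cl_mul hC hk' (ih fun x hx => hw x (List.mem_cons_of_mem _ hx))
      rw [← conj_prod, ← E_cons, ← comb_xor, ← comb_xor] at this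
      exact this
  have lin' : ∀ h p r, Cl f h p r → Cl f (g * h * g⁻¹) (comb d e f' r) (comb a b c p) := by
    rintro h p r ⟨hp, hr, x, hx, y, hy, rfl⟩
    simpa [cls_el hp hr hx hy] using lin _ (low_el p r x y)
  have hcomm : ∀ τ, InT f τ → ∀ h p r, Cl f h p r → ∀ p' r', Cl f (τ * h * τ⁻¹) p' r' → p' = p ∧ r' = r := by
    intro τ hτ h p r hh p' r' hh'
    have h2 := cl_mul hC (cl_of_inW (comm_inW hC hτ (cl_inT hh))) hh
    rw [inv_mul_cancel_right, Nat.zero_xor, Nat.zero_xor] at h2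
    exact cl_unique hC hh' h2
  have hgg : InT f (g * g) := by
    refine inT_of_comm hC (mul_inv_eq_iff_eq_mul.1 ?_) (mul_inv_eq_iff_eq_mul.1 ?_)
    · rw [mul_inv_rev, show g * g * S.t * (g⁻¹ * g⁻¹) = g * (g * S.t * g⁻¹) * g⁻¹ by group, hg.left, hg.right]
    · rw [mul_inv_rev, show g * g * f 6 * (g⁻¹ * g⁻¹) = g * (g * f 6 * g⁻¹) * g⁻¹ by group, hg.right, hg.left]
  have hsq : ∀ k < 6, comb d e f' (comb a b c (cl k).1) = (cl k).1 ∧
      comb a b c (comb d e f' (cl k).2) = (cl k).2 := by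
    intro k hk
    have hk' := exists_cl hC [k] (by simpa using hk)
    simp only [cls, Nat.xor_zero] at hk'
    have := lin' _ _ _ (lin' _ _ _ hk')
    rw [show g * (g * E f [k] * g⁻¹) * g⁻¹ = g * g * E f [k] * (g * g)⁻¹ by group] at this
    exact hcomm _ hgg _ _ _ hk' _ _ this
  have hpair : ∀ l < 3, ∀ k < 3,
      dot ([a, b, c].getD l 0) (cross ([d, e, f'].getD (pairJ k) 0) ([a, b, c].getD (pairI k) 0)) = decide (l = k) ∧
      dot ([d, e, f'].getD l 0) (cross ([d, e, f'].getD (pairJ k) 0) ([a, b, c].getD (pairI k) 0)) = decide (l = k) := by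
    intro l hl k hk
    have hI : pairI k < 3 := by unfold pairI; split <;> norm_num
    have hJ : pairJ k < 3 := by unfold pairJ; split <;> norm_num
    have hm : ∀ l < 3, Cl f (g * E f [l] * g⁻¹) 0 ([a, b, c].getD l 0) := fun l hl => by
      interval_cases l <;> assumption
    have hn : ∀ l < 3, Cl f (g * E f [3 + l] * g⁻¹) ([d, e, f'].getD l 0) 0 := fun l hl => by
      interval_cases l <;> assumption
    set M := [a, b, c].getD (pairI k) 0
    set N := [d, e, f'].getD (pairJ k) 0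
    obtain ⟨w, hw, hwe⟩ := cl_split (hm _ hI)
    obtain ⟨w', hw', hwe'⟩ := cl_split (hn _ hJ)
    have hu : InT f (E f (uW M)) := inT_E (low_uW M)
    have hp : InT f (E f (pW N)) := inT_E (low_pW N)
    rw [show pW 0 ++ uW M = uW M from rfl] at hwe
    rw [show pW N ++ uW 0 = pW N by simp [uW, pW]] at hwe'
    have z1 := w_conj hC hp hw
    have z1' : InZ f (w * E f (pW N) * w⁻¹ * (E f (pW N))⁻¹) := by
      rw [show w * E f (pW N) * w⁻¹ * (E f (pW N))⁻¹ = (E f (pW N) * w * (E f (pW N))⁻¹ * w⁻¹)⁻¹ by group, z_inv hC z1]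
      exact z1
    have z2 := w_conj hC hu hw'
    set z := w * E f (pW N) * w⁻¹ * (E f (pW N))⁻¹ with hz
    set z' := E f (uW M) * w' * (E f (uW M))⁻¹ * w'⁻¹ with hz'
    have hB : g * E f (wB.getD k []) * g⁻¹ = z * z' * E f (cm (uW M) (pW N)) := by
      rw [(fact_wB k hk).1, E_cm hC, conj_comm, hwe, hwe', E_cm hC]
      have h1 : ∀ v : G, InT f v → z * v = v * z := fun v hv => z_comm hC z1' hv
      have h2 : ∀ v : G, InT f v → z' * v = v * z' := fun v hv => z_comm hC z2 hv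
      calc E f (uW M) * w * (E f (pW N) * w') * (E f (uW M) * w)⁻¹ * (E f (pW N) * w')⁻¹
          = E f (uW M) * z * E f (pW N) * (w * w' * w⁻¹) * (E f (uW M))⁻¹ * w'⁻¹ * (E f (pW N))⁻¹ := by
            rw [hz]; group
        _ = E f (uW M) * z * E f (pW N) * (E f (uW M))⁻¹ * z' * (E f (pW N))⁻¹ := by
            rw [inW_comm hC hw hw', mul_inv_cancel_right, hz']; group
        _ = _ := by
            rw [← h1 _ hu, mul_assoc (z * _ * _ * _), h2 _ (inT_inv hC hp), ← mul_assoc,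
              show z * E f (uW M) * E f (pW N) * (E f (uW M))⁻¹ * (E f (pW N))⁻¹ * z' =
                z * (E f (uW M) * E f (pW N) * (E f (uW M))⁻¹ * (E f (pW N))⁻¹ * z') by group,
              ← h2 _ (inT_mul (inT_mul (inT_mul hu hp) (inT_inv hC hu)) (inT_inv hC hp)), ← mul_assoc]
    obtain ⟨y, hy, hcr⟩ := List.mem_map.1 (fact_cross M (hm _ hI).2.1 N (hn _ hJ).1)
    have hy' : y < 4 := List.mem_range.1 hy
    rw [(E_iff hC).2 hcr.symm, E_append] at hB
    have hzz : InZ f (z * z' * E f (cW y)) := z_mul hC (z_mul hC z1' z2) ⟨y, hy', rfl⟩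
    have hwW : InT f (E f (wW (cross N M))) := inT_E (low_wW _)
    have hB' : g * E f (wB.getD k []) * g⁻¹ = E f (wW (cross N M)) * (z * z' * E f (cW y)) := by
      rw [hB, ← mul_assoc, z_comm hC (z_mul hC z1' z2) hwW, mul_assoc]
    have hcrlt := cross_lt N (hn _ hJ).1 M (hm _ hI).2.1
    have hWW : InW f (E f (wW (cross N M))) :=
      ⟨_, hcrlt, 0, by norm_num, by rw [show cW 0 = [] from rfl, List.append_nil]⟩
    have key : ∀ j < 6, ∀ p r v v', Cl f (g * E f [j] * g⁻¹) p r → cs (cm [j] (wB.getD k [])) = cs v →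
        g * E f v * g⁻¹ = E f v' → cs (cm (pW p ++ uW r) (wW (cross N M))) = cs v' := by
      intro j hj p r v v' hcl hv hvv
      have e := congrArg (fun h => g * h * g⁻¹) (E_cm hC (f := f) [j] (wB.getD k []))
      rw [(E_iff hC).2 hv, hvv, conj_comm, hB', comm_class hC hcl (inW_mul hC hWW (inW_of_inZ hzz)), mul_inv_rev,
        show ∀ U A Z : G, U * (A * Z) * U⁻¹ * (Z⁻¹ * A⁻¹) = U * A * (Z * U⁻¹) * (Z⁻¹ * A⁻¹) from
          fun U A Z => by group,
        z_comm hC hzz (inT_inv hC (inT_E fun x hx => (List.mem_append.1 hx).elim (low_pW p x) (low_uW r x))),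
        show ∀ U A Z : G, U * A * (U⁻¹ * Z) * (Z⁻¹ * A⁻¹) = U * A * U⁻¹ * A⁻¹ from fun U A Z => by group,
        ← E_cm hC] at e
      exact ((E_iff hC).1 e).symm
    obtain ⟨f1, f2⟩ := (fact_wB k hk).2 l hl
    have hz0 : ∀ v ∈ [1, 2], g * E f (cW (if l = k then v else 0)) * g⁻¹ = E f (cW (if l = k then 3 - v else 0)) := by
      intro v hv
      simp only [List.mem_cons, List.not_mem_nil, or_false] at hv
      rw [img_Z hC hg (by rcases hv with rfl | rfl <;> split <;> norm_num)]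
      rcases hv with rfl | rfl <;> by_cases hlk : l = k <;> simp [hlk]
    have e1 := key l (by omega) _ _ _ _ (hm l hl) f1 (hz0 2 (by simp))
    have e2 := key (3 + l) (by omega) _ _ _ _ (hn l hl) f2 (hz0 1 (by simp))
    rw [show pW 0 ++ uW ([a, b, c].getD l 0) = uW ([a, b, c].getD l 0) from rfl,
      (fact_dot _ (hm l hl).2.1 _ hcrlt).1] at e1
    rw [show pW ([d, e, f'].getD l 0) ++ uW 0 = pW ([d, e, f'].getD l 0) by simp [uW, pW],
      (fact_dot _ (hn l hl).1 _ hcrlt).2] at e2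
    exact ⟨code_bool 1 (by simp) _ _ (by simpa using e1), code_bool 2 (by simp) _ _ (by simpa using e2)⟩
  -- the exchange followed by the translation has order three
  set q := wprod f qL with hq
  have hlowq : ∀ x ∈ qL, x < 7 := by decide
  obtain ⟨hsig, hqq, hqt, hqx⟩ := fact_sigma
  have hlow2 : ∀ v : List ℕ, (∀ x ∈ v, x < 7) → ∀ x ∈ qL ++ v ++ qL, x < 7 := fun v hv x hx => by
    simp only [List.mem_append] at hx
    rcases hx with (hx | hx) | hx
    exacts [hlowq x hx, hv x hx, hlowq x hx]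
  have hqi : q⁻¹ = q := inv_eq_of_mul_eq_one_right (by
    have := (hC.word_iff (v := qL ++ qL) (w := [])
      (fun x hx => (List.mem_append.1 hx).elim (hlowq x) (hlowq x)) (by simp)).2 hqq
    simpa [wprod, hq] using this)
  have hconjq : ∀ v w : List ℕ, cd (qL ++ exp v ++ qL) = cs w → q * E f v * q⁻¹ = E f w := fun v w h => by
    have := (hC.word_iff (hlow2 _ (exp_low v)) (exp_low w)).2 h
    rw [hqi]
    simpa [wprod, hq, E, mul_assoc] using this
  have hsigw : ∀ w : List ℕ, (∀ k ∈ w, k < 6) → ∃ w' : List ℕ, (∀ k ∈ w', k < 6) ∧ q * E f w * q⁻¹ = E f w' ∧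
      cls w' = ((cls w).1, (cls w).1 ^^^ (cls w).2) := by
    intro w
    induction w with
    | nil => intro _; exact ⟨[], by simp, by simp [E_nil], rfl⟩
    | cons k w ih =>
      intro hw
      have hk := hw k List.mem_cons_self
      obtain ⟨w', hw', e', hc'⟩ := ih fun x hx => hw x (List.mem_cons_of_mem _ hx)
      obtain ⟨s1, s2, s3⟩ := hsig k hk
      refine ⟨sigW.getD k [] ++ w', fun x hx => (List.mem_append.1 hx).elim (s2 x) (hw' x), ?_, ?_⟩
      · rw [E_cons f k w, conj_prod, e', E_append, hconjq [k] (sigW.getD k []) (by simpa [exp] using s1)]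
      · rw [cls_append, s3, hc']
        simp only [cls, Prod.mk.injEq, true_and]
        simp [Nat.xor_assoc, Nat.xor_comm, Nat.xor_left_comm]
  have linR : ∀ h p r, Cl f h p r →
      Cl f (g * q * h * (g * q)⁻¹) (comb d e f' (p ^^^ r)) (comb a b c p) := by
    rintro h p r ⟨hp, hr, x, hx, y, hy, rfl⟩
    obtain ⟨w', hw', e', hc'⟩ := hsigw _ (low_el p r x y)
    have := lin w' hw'
    rw [hc', cls_el hp hr hx hy, ← e'] at this
    rwa [show g * q * E f (el p r x y) * (g * q)⁻¹ = g * (q * E f (el p r x y) * q⁻¹) * g⁻¹ by group]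
  have hqT : q * S.t * q⁻¹ = S.t := by rw [← E_t hC]; exact hconjq tW tW hqt
  have hqX : q * f 6 * q⁻¹ = E f (cW 3) := by rw [← E_x hC]; exact hconjq xW (cW 3) hqx
  have h3 : g * E f (cW 3) * g⁻¹ = E f (cW 3) := img_Z hC hg (by norm_num)
  have hRt : g * q * S.t * (g * q)⁻¹ = f 6 := by
    rw [show g * q * S.t * (g * q)⁻¹ = g * (q * S.t * q⁻¹) * g⁻¹ by group, hqT, hg.left]
  have hRx : g * q * f 6 * (g * q)⁻¹ = E f (cW 3) := by
    rw [show g * q * f 6 * (g * q)⁻¹ = g * (q * f 6 * q⁻¹) * g⁻¹ by group, hqX, h3]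
  have hR3 : g * q * E f (cW 3) * (g * q)⁻¹ = S.t := by
    have e3 : E f (cW 3) = S.t * f 6 := by
      rw [← E_c1 hC, ← E_c2 hC, ← E_append]
      exact ((E_iff hC).2 (fact_cmul 1 (by norm_num) 2 (by norm_num))).symm
    conv_lhs => rw [e3, conj_prod, hRt, hRx, e3, ← E_t hC, ← E_x hC]
    rw [← mul_assoc, (z_comm hC ⟨2, by norm_num, rfl⟩ (inT_E (w := tW) (low_cW 1)) :
      E f xW * E f tW = E f tW * E f xW), mul_assoc, ← E_append f xW,
      (E_iff hC).2 (show cs (xW ++ xW) = cs [] from fact_cmul 2 (by norm_num) 2 (by norm_num)), E_t hC,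
      E_nil, mul_one]
  have hτ : InT f (g * q * (g * q) * (g * q)) := by
    refine inT_of_comm hC (mul_inv_eq_iff_eq_mul.1 ?_) (mul_inv_eq_iff_eq_mul.1 ?_)
    all_goals rw [show ∀ R v : G, R * R * R * v * (R * R * R)⁻¹ = R * (R * (R * v * R⁻¹) * R⁻¹) * R⁻¹ from
      fun R v => by group]
    · rw [hRt, hRx, hR3]
    · rw [hRx, hR3, hRt]
  have hcube : ∀ i < 3, comb d e f' (comb d e f' (comb d e f' (2 ^ i) ^^^ comb a b c (2 ^ i)) ^^^
      comb a b c (comb d e f' (2 ^ i))) = 2 ^ i := by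
    intro i hi
    have hk' := exists_cl hC [i] (by simp; omega)
    simp only [cls, cl, hi, if_true, Nat.xor_zero] at hk'
    have := linR _ _ _ (linR _ _ _ (linR _ _ _ hk'))
    rw [show g * q * (g * q * (g * q * E f [i] * (g * q)⁻¹) * (g * q)⁻¹) * (g * q)⁻¹ =
      g * q * (g * q) * (g * q) * E f [i] * (g * q * (g * q) * (g * q))⁻¹ by group] at this
    have h2 := (hcomm _ hτ _ _ _ hk' _ _ this).1
    simpa using h2
  obtain ⟨-, o0, t0, q0⟩ := comb_basis d e f'
  obtain ⟨-, o1, t1, q1⟩ := comb_basis a b c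
  have h1 := (hsq 3 (by norm_num)).2; have h2 := (hsq 4 (by norm_num)).2; have h3' := (hsq 5 (by norm_num)).2
  have h4 := (hsq 0 (by norm_num)).1; have h5 := (hsq 1 (by norm_num)).1; have h6 := (hsq 2 (by norm_num)).1
  simp only [cl, show (3:ℕ) - 3 = 0 by norm_num, show (4:ℕ) - 3 = 1 by norm_num, show (5:ℕ) - 3 = 2 by norm_num,
    show ¬ (3:ℕ) < 3 by norm_num, show ¬ (4:ℕ) < 3 by norm_num, show ¬ (5:ℕ) < 3 by norm_num,
    show (0:ℕ) < 3 by norm_num, show (1:ℕ) < 3 by norm_num, show (2:ℕ) < 3 by norm_num, show (3:ℕ) < 6 by norm_num,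
    show (4:ℕ) < 6 by norm_num, show (5:ℕ) < 6 by norm_num, if_true, if_false, pow_zero, pow_one,
    show (2:ℕ) ^ 2 = 4 by norm_num, o0, t0, q0, o1, t1, q1] at h1 h2 h3' h4 h5 h6
  have hok : matOK a b c d e f' = true := by
    simp only [matOK, Bool.and_eq_true, beq_iff_eq, List.all_eq_true, List.mem_range]
    refine ⟨⟨⟨⟨h4, h5⟩, h6⟩, fun l hl k hk => ?_⟩, hcube⟩
    obtain ⟨p1, p2⟩ := hpair l hl k hk
    exact ⟨by rw [p1]; rfl, by rw [p2]; rfl⟩
  obtain ⟨⟨rfl, rfl, rfl⟩, rfl, rfl, rfl⟩ := fact_matrix ha.2.1 hb.2.1 hc.2.1 hd.1 he.1 hf.1 h1 h2 h3' hok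
  interval_cases i
  exacts [⟨ha, hd⟩, ⟨hb, he⟩, ⟨hc, hf⟩]

end CfsgLib.Recog.OEightCent.Swap
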