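import Cfsg.Agent.Lib.Recog.OEightCent.Complete

/-!
A chart identifies the centraliser with its coded model: two words agree exactly when their codes agree.
-/

set_option autoImplicit false
set_option maxRecDepth 100000

namespace CfsgLib.Recog.OEightCent

open CfsgLib.InvChar.Coset (lettersClosure subGen card_lettersClosure_nil)
open CfsgLib.StructC.OrthCohom

/-- The reduced code of a word. -/
def cd (v : List ℕ) : List ℕ := (codeW v).map (· % 256)

theorem cd_length (v : List ℕ) : (cd v).length = 8 := by rw [cd, List.length_map, codeW_length]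

theorem cd_eq_iff (v w : List ℕ) : cd v = cd w ↔ wprod o8gen v = wprod o8gen w := by
  have key : ∀ {A B : List ℕ}, A.length = 8 → B.length = 8 →
      (A.map (· % 256) = B.map (· % 256) ↔ toMat eEight A = toMat eEight B) := by
    intro A B hA hB
    constructor
    · intro h
      ext k l
      have hl : ((eEight l : Fin 8) : ℕ) < 8 := (eEight l).2
      have e := congrArg (fun M : List ℕ => M.getD (eEight l) 0) h
      simp only [List.getD_eq_getElem?_getD, List.getElem?_map] at e
      simp only [toMat, Matrix.of_apply, bit_eq_iff, List.getD_eq_getElem?_getD]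
      rw [List.getElem?_eq_getElem (show (eEight l : ℕ) < A.length by omega),
        List.getElem?_eq_getElem (show (eEight l : ℕ) < B.length by omega)] at e ⊢
      simp only [Option.map_some, Option.getD_some] at e ⊢
      have e' := congrArg (fun x : ℕ => x.testBit (eEight k)) e
      rw [show (256 : ℕ) = 2 ^ 8 from rfl] at e'
      rwa [Nat.testBit_mod_two_pow, Nat.testBit_mod_two_pow, decide_eq_true (eEight k).2, Bool.true_and,
        Bool.true_and] at e'
    · intro h
      refine List.ext_getElem (by simp [hA, hB]) fun i hi _ => ?_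
      have hi' : i < 8 := by simpa [hA] using hi
      simp only [List.getElem_map]
      show _ % 2 ^ 8 = _ % 2 ^ 8
      refine mod_eq_of_dec_eq eEight (funext fun k => ?_)
      have e := congrFun (congrFun h k) (eEight.symm ⟨i, hi'⟩)
      simpa [toMat, dec, List.getD_eq_getElem?_getD, hA, hB, hi'] using e
  rw [cd, cd, key (codeW_length v) (codeW_length w), ← mat_word, ← mat_word]
  exact ⟨fun h => Subtype.ext (mat_inj _ h), fun h => by rw [h]⟩

theorem z_moves : cd zWord ≠ cd [] := by decide +kernel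

variable {G : Type*} [Group G] {S : Setup G}

theorem Setup.card_C (S : Setup G) [Finite G] :
    Nat.card (Subgroup.centralizer ({S.t} : Set G)) = 110592 := by
  have h := S.proj.ker.card_mul_index
  rw [Subgroup.index_ker, MonoidHom.range_eq_top.2 S.proj_surj, Subgroup.card_top] at h
  have hk : Nat.card S.proj.ker = 512 := by
    rw [Nat.card_congr (Equiv.subtypeEquivRight fun c => (MonoidHom.mem_ker).trans (S.proj_ker c))]
    have e := Nat.card_congr (Subgroup.subgroupOfEquivOfLe S.Q_le).toEquiv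
    rw [S.Q_card] at e
    exact e
  rw [hk, P3, Nat.card_prod, Nat.card_prod, Nat.card_perm, Nat.card_fin] at h
  rw [← h]; rfl

/-- A normal subgroup of the centraliser missing `t` is trivial. -/
theorem Setup.normal_trivial (S : Setup G) (N : Subgroup G)
    (hN : N ≤ Subgroup.centralizer ({S.t} : Set G))
    (hconj : ∀ c ∈ Subgroup.centralizer ({S.t} : Set G), ∀ n ∈ N, c * n * c⁻¹ ∈ N) (ht : S.t ∉ N)
    {n : G} (hn : n ∈ N) : n = 1 := by
  have ht2 : ∀ y ∈ Subgroup.zpowers S.t, y = 1 ∨ y = S.t := by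
    intro y hy
    obtain ⟨k, rfl⟩ := Subgroup.mem_zpowers_iff.1 hy
    rw [← zpow_mod_orderOf, S.t_ord]
    rcases Int.emod_two_eq k with e | e <;> simp [e]
  have hQ : ∀ y ∈ N, y ∈ S.Q → y = 1 := by
    intro y hy hyQ
    by_cases hc : ∀ r ∈ S.Q, y * r = r * y
    · exact (ht2 y (S.Q_center y hyQ hc)).resolve_right fun e => ht (e ▸ hy)
    push Not at hc
    obtain ⟨r, hr, hne⟩ := hc
    rcases ht2 _ (S.Q_comm r hr y hyQ) with e | e
    · exact absurd (mul_inv_eq_iff_eq_mul.1 (mul_inv_eq_one.1 e)).symm hne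
    · exact absurd (e ▸ N.mul_mem (hconj r (S.Q_le hr) y hy) (N.inv_mem hy)) ht
  refine hQ n hn (S.Q_cent (Subgroup.mem_centralizer_iff.2 fun q hq => ?_))
  have h1 : n * q * n⁻¹ * q⁻¹ ∈ N := by
    have := N.mul_mem hn (hconj q (S.Q_le hq) _ (N.inv_mem hn))
    simpa [mul_assoc] using this
  have h2 := hQ _ h1 (S.Q.mul_mem (S.Q_normal n (hN hn) q hq) (S.Q.inv_mem hq))
  exact (mul_inv_eq_iff_eq_mul.1 (mul_inv_eq_one.1 h2)).symm

/-- **Words agree exactly when their codes agree.** -/
theorem Setup.Chart.word_iff [Finite G] {f : ℕ → G} (hC : S.Chart f) {v w : List ℕ}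
    (hv : ∀ x ∈ v, x < 7) (hw : ∀ x ∈ w, x < 7) : wprod f v = wprod f w ↔ cd v = cd w := by
  classical
  let P : ℕ → G × Om := fun x => if x < 7 then (f x, o8gen x) else 1
  have hP : ∀ r : List ℕ, (∀ x ∈ r, x < 7) → wprod P r = (wprod f r, wprod o8gen r) := by
    intro r
    induction r with
    | nil => exact fun _ => rfl
    | cons a r ih =>
      intro h
      show P a * wprod P r = (f a * wprod f r, o8gen a * wprod o8gen r)
      rw [ih fun x hx => h x (List.mem_cons_of_mem _ hx), show P a = (f a, o8gen a) from if_pos (h a List.mem_cons_self)]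
      rfl
  have hmodel : ∀ r ∈ relsC, wprod o8gen r = 1 := fun r hr =>
    (cd_eq_iff r []).1 ((show ∀ r ∈ relsC, cd r = cd [] by decide +kernel) r hr)
  have hrel : ∀ r ∈ relsC, wprod P r = 1 := fun r hr => by
    rw [hP r (letters_ok.1 r hr), hC.rels r hr, hmodel r hr]; rfl
  have hs : ∀ x, P x * P x = 1 := by
    intro x
    by_cases hx : x < 7
    · simpa [wprod] using hrel [x, x] ((show ∀ x < 7, [x, x] ∈ relsC by decide +kernel) x hx)
    · simp [P, hx]
  have hlevi := (show ∀ r ∈ CertLevi.rels, r = [] ∨ r ∈ relsC by decide +kernel)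
  have hcent := (show ∀ r ∈ CertCent.rels, r = [] ∨ r ∈ relsC by decide +kernel)
  have hnil : wprod P [] = 1 := rfl
  obtain ⟨f0, c0⟩ := card_lettersClosure_nil P
  obtain ⟨f6, c6⟩ := step CertLevi.covered P hs 6 0 (by norm_num) rfl
    (fun r hr => ⟨(hlevi r hr).elim (fun e => e ▸ hnil) (hrel r), (levi_ok.2 r hr).2⟩) (levi_ok.1.trans rfl) f0 c0
  obtain ⟨f7, c7⟩ := step CertCent.covered P hs 7 6 (by norm_num) rfl
    (fun r hr => ⟨(hcent r hr).elim (fun e => e ▸ hnil) (hrel r), (cent_ok.2 r hr).2⟩) cent_ok.1 f6 c6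
  set Δ := lettersClosure P (List.range 7) with hΔ
  have hmem : ∀ x < 7, P x ∈ Δ := fun x hx => mem_letters P hx
  have hmemw : ∀ r : List ℕ, (∀ x ∈ r, x < 7) → wprod P r ∈ Δ := fun r hr =>
    Δ.list_prod_mem fun y hy => by
      obtain ⟨x, hx, rfl⟩ := List.mem_map.1 hy
      exact hmem x (hr x hx)
  let π : Δ →* G := (MonoidHom.fst _ _).comp Δ.subtype
  let q : Δ →* Om := (MonoidHom.snd _ _).comp Δ.subtype
  have hrange : π.range = Subgroup.centralizer ({S.t} : Set G) := by
    refine le_antisymm ?_ ?_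
    · rintro _ ⟨⟨d, hd⟩, rfl⟩
      have hle : Δ ≤ (Subgroup.centralizer ({S.t} : Set G)).comap (MonoidHom.fst G Om) := by
        refine (Subgroup.closure_le _).2 ?_
        rintro _ ⟨i, hi, rfl⟩
        have hi' : i < 7 := by simpa using hi
        show (subGen P (List.range 7) i).1 ∈ Subgroup.centralizer ({S.t} : Set G)
        have : subGen P (List.range 7) i = (f i, o8gen i) := by simp [subGen, hi', P]
        rw [this, ← hC.gen]
        exact Subgroup.subset_closure ⟨i, hi', rfl⟩
      exact hle hd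
    · rw [← hC.gen, Subgroup.closure_le]
      rintro _ ⟨k, hk, rfl⟩
      exact ⟨⟨P k, hmem k hk⟩, congrArg Prod.fst (if_pos hk)⟩
  have hcard : Nat.card π.range = 110592 := by rw [hrange, S.card_C]
  have hinj : Function.Injective π := by
    rw [← MonoidHom.ker_eq_bot_iff, ← Subgroup.card_eq_one]
    have h := π.ker.card_mul_index
    rw [Subgroup.index_ker, hcard] at h
    change Nat.card π.ker * 110592 = Nat.card Δ at h
    have h0 : 0 < Nat.card π.ker := Nat.card_pos
    have : Nat.card Δ ≤ 512 * (216 * 1) := c7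
    omega
  have hzmem := hmemw zWord letters_ok.2.2.1
  let N : Subgroup G := q.ker.map π
  have htN : S.t ∉ N := by
    rintro ⟨d, hd, e⟩
    refine z_moves ((cd_eq_iff zWord []).2 ?_)
    have ed : d = ⟨_, hzmem⟩ := hinj (e.trans (by
      show S.t = (wprod P zWord).1
      rw [hP zWord letters_ok.2.2.1]; exact hC.zword.symm))
    have := MonoidHom.mem_ker.1 hd
    rw [ed] at this
    change (wprod P zWord).2 = 1 at this
    rw [hP zWord letters_ok.2.2.1] at this
    exact this
  have hconj : ∀ c ∈ Subgroup.centralizer ({S.t} : Set G), ∀ n ∈ N, c * n * c⁻¹ ∈ N := by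
    intro c hc n ⟨d, hd, e⟩
    have hc' : c ∈ π.range := hrange.symm ▸ hc
    obtain ⟨a, rfl⟩ := hc'
    exact ⟨a * d * a⁻¹, MonoidHom.mem_ker.2 (by rw [map_mul, map_mul, MonoidHom.mem_ker.1 hd, mul_one,
      ← map_mul, mul_inv_cancel, map_one]), by rw [← e]; simp⟩
  have hle : N ≤ Subgroup.centralizer ({S.t} : Set G) := hrange ▸ Subgroup.map_le_range π q.ker
  have hqinj : Function.Injective q := by
    rw [← MonoidHom.ker_eq_bot_iff, eq_bot_iff]
    intro d hd
    exact hinj ((S.normal_trivial N hle hconj htN ⟨d, hd, rfl⟩).trans (map_one π).symm)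
  rw [cd_eq_iff]
  let dv : Δ := ⟨_, hmemw v hv⟩
  let dw : Δ := ⟨_, hmemw w hw⟩
  have e1 : π dv = wprod f v := by show (wprod P v).1 = _; rw [hP v hv]
  have e2 : π dw = wprod f w := by show (wprod P w).1 = _; rw [hP w hw]
  have e3 : q dv = wprod o8gen v := by show (wprod P v).2 = _; rw [hP v hv]
  have e4 : q dw = wprod o8gen w := by show (wprod P w).2 = _; rw [hP w hw]
  rw [← e1, ← e2, ← e3, ← e4, hinj.eq_iff, hqinj.eq_iff]

end CfsgLib.Recog.OEightCent
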