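import Cfsg.Agent.Lib.Recog.OEightCent.SwapModel
import Cfsg.Agent.Lib.Recog.OEightCent.SwapData

/-!
Normal forms in the centralizer of `t` and the pure lift: facts on coded words.
-/

set_option autoImplicit false
set_option maxRecDepth 100000
set_option Elab.async false
set_option synthInstance.maxSize 800
set_option synthInstance.maxHeartbeats 400000

namespace CfsgLib.Recog.OEightCent.Swap

open SwapData

/-- Six-generator words as words in the letters. -/
def exp (w : List ℕ) : List ℕ := w.flatMap fun k => gw.getD k []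

/-- The code of a six-generator word. -/
def cs (w : List ℕ) : List ℕ := cd (exp w)

/-- Raising part. -/
def pW (m : ℕ) : List ℕ := (List.range 3).filter fun i => m.testBit i

/-- Opposite part. -/
def uW (m : ℕ) : List ℕ := (pW m).map (· + 3)

/-- The three commutators. -/
def wB : List (List ℕ) := [[1, 5, 1, 5], [0, 5, 0, 5], [0, 4, 0, 4]]

/-- The commutator part. -/
def wW (m : ℕ) : List ℕ := (pW m).flatMap fun i => wB.getD i []

/-- The central involution. -/
def tW : List ℕ := [0, 4, 0, 5, 0, 4, 0, 5]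

/-- The pure lift. -/
def xW : List ℕ := [0, 4, 2, 4, 0, 4, 2, 4]

/-- The centre: bit `0` for `t`, bit `1` for the pure lift. -/
def cW (c : ℕ) : List ℕ := (if c.testBit 0 then tW else []) ++ (if c.testBit 1 then xW else [])

/-- The normal form. -/
def el (p r a c : ℕ) : List ℕ := pW p ++ uW r ++ wW a ++ cW c

/-- The commutator. -/
def cm (v w : List ℕ) : List ℕ := v ++ w ++ v.reverse ++ w.reverse

/-- The class of a letter. -/
def cl (k : ℕ) : ℕ × ℕ :=
  if k < 3 then (2 ^ k, 0) else if k < 6 then (0, 2 ^ (k - 3)) else (0, 0)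

/-- The class of a word. -/
def cls : List ℕ → ℕ × ℕ
  | [] => (0, 0)
  | k :: w => ((cl k).1 ^^^ (cls w).1, (cl k).2 ^^^ (cls w).2)

/-- The codes of the commutator subgroup. -/
def wCodes : List (List ℕ) := (List.range 8).flatMap fun a => (List.range 4).map fun c => cs (wW a ++ cW c)

/-- The codes of the centre. -/
def zCodes : List (List ℕ) := (List.range 4).map fun c => cs (cW c)

/-- The standard image of a word. -/
def stdI (w : List ℕ) : List ℕ := w.flatMap fun k => stdW.getD k []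

theorem gw_low : ∀ k, ∀ x ∈ gw.getD k [], x < 7 := by
  intro k x hx
  by_cases hk : k < 6
  · exact (show ∀ k < 6, ∀ x ∈ gw.getD k [], x < 7 by decide +kernel) k hk x hx
  · rw [List.getD_eq_default _ _ (by simpa [gw] using Nat.le_of_not_lt hk)] at hx
    simp at hx

theorem exp_low (w : List ℕ) : ∀ x ∈ exp w, x < 7 := by
  intro x hx
  obtain ⟨k, -, hk⟩ := List.mem_flatMap.1 hx
  exact gw_low k x hk

theorem fact_sq : ∀ k < 6, cs [k, k] = cs [] := by decide +kernel

theorem fact_tx : cs tW = cd zWord ∧ cs xW = cd [6] := by decide +kernel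

theorem fact_cent : ∀ c < 4, ∀ k < 6, cs (cW c ++ [k]) = cs ([k] ++ cW c) := by decide +kernel

theorem fact_cmul : ∀ a < 4, ∀ b < 4, cs (cW a ++ cW b) = cs (cW (a ^^^ b)) := by decide +kernel

theorem fact_cinj : ∀ a < 4, cs (cW a) = cs [] → a = 0 := by decide +kernel

theorem fact_step : ∀ p < 8, ∀ r < 8, ∀ k < 6,
    cs ((pW (p ^^^ (cl k).1) ++ uW (r ^^^ (cl k).2)).reverse ++ (pW p ++ uW r ++ [k])) ∈ wCodes := by
  decide +kernel

theorem fact_wnorm : ∀ a < 8, ∀ k < 6, cs ([k] ++ wW a ++ [k]) ∈ wCodes ∧ cs (cm [k] (wW a)) ∈ zCodes := by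
  decide +kernel

theorem fact_wmul : ∀ a < 8, ∀ b < 8, cs (wW a ++ wW b) ∈ wCodes ∧ cs (wW a ++ wW b) = cs (wW b ++ wW a) := by
  decide +kernel

theorem fact_winv : ∀ a < 8, cs (wW a).reverse ∈ wCodes := by decide +kernel

theorem fact_pu : ∀ p < 8, ∀ r < 8, cls (pW p ++ uW r) = (p, r) ∧ (cs (pW p ++ uW r) ∈ wCodes → p = 0 ∧ r = 0) := by
  decide +kernel

theorem fact_clsw : ∀ a < 8, cls (wW a) = (0, 0) := by decide +kernel

theorem fact_clsc : ∀ c < 4, cls (cW c) = (0, 0) := by decide +kernel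

theorem fact_reps : reps.getD 0 [] = [] ∧ (∀ k < 54, ∀ x ∈ reps.getD k [], x < 7) ∧
    (∀ k < 54, cd (reps.getD k [] ++ [6]) = cd ([6] ++ reps.getD k []) → k = 0) := by
  decide +kernel

theorem fact_cosets : ∀ k < 54, ∀ l < 7, nxt.getD (7 * k + l) 54 < 54 ∧
    cd (reps.getD k [] ++ [l]) = cd (exp (trW.getD (7 * k + l) []) ++ reps.getD (nxt.getD (7 * k + l) 54) []) := by
  decide +kernel

theorem fact_trW : ∀ j < 378, ∀ k ∈ trW.getD j [], k < 6 := by decide +kernel

theorem fact_imgU : ∀ r < 8, ∀ i < 3, ∀ a < 8,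
    cs (cm [3 + i] (wW a)) ∈ [cs [], cs tW] ∧ cs (cm [i] (wW a)) ∈ [cs [], cs xW] ∧
      cs (cm (uW r) (wW a)) ∈ [cs [], cs tW] := by
  decide +kernel

theorem fact_sep : ∀ p < 8, ∀ r < 8,
    ((∀ k < 3, cs (cm (pW p ++ uW r) (wB.getD k [])) ∈ [cs [], cs xW]) → r = 0) ∧
      ((∀ k < 3, cs (cm (pW p ++ uW r) (wB.getD k [])) ∈ [cs [], cs tW]) → p = 0) := by
  decide +kernel

theorem fact_central : ∀ p < 8, ∀ r < 8,
    (∀ k < 6, cs (cm (pW p ++ uW r) [k]) ∈ zCodes) → p = 0 ∧ r = 0 := by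
  decide +kernel

theorem fact_inn : ∀ a < 8, ∀ k < 6, cs (cm (wW a) [k]) =
    cs (cW (if k < 3 then (if a.testBit k then 2 else 0) else (if a.testBit (k - 3) then 1 else 0))) := by
  decide +kernel

end CfsgLib.Recog.OEightCent.Swap
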